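import Cfsg.Agent.Lib.Fi23Two.Setup
import Cfsg.Agent.S0815

/-!
When the four-group is normal with the centraliser modulo it the unitary group, the quotient is the automorphism
group of the unitary group.
-/

set_option autoImplicit false
set_option linter.style.haveILetI false
set_option linter.unusedSectionVars false

namespace Cfsg.Agent.Fi23Two

open Subgroup LargeExtra
open scoped commutatorElement
open Cfsg.Agent.U62Aut (AutX)
open Cfsg.Agent.Fi22Two (comm_of_conj conj_of_comm comm_elem_eq)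

theorem conj_inj_psu {K : Type*} [Field K] [Fintype K] (hK : Fintype.card K = 4) :
    Function.Injective (MulAut.conj : Cfsg.PSU 6 K 2 →* MulAut (Cfsg.PSU 6 K 2)) := by
  have hF : Fintype.card K = 2 ^ 2 := by rw [hK]; norm_num
  obtain ⟨C⟩ := AutPSU.exists_conj hF
  have hc : Nat.card (Cfsg.Inn (Cfsg.PSU 6 K 2)) = Nat.card (Cfsg.PSU 6 K 2) :=
    AutPSU.card_inn C (by norm_num) hF
  have hb : Function.Bijective (MulAut.conj : Cfsg.PSU 6 K 2 →* _).rangeRestrict :=
    (Nat.bijective_iff_surjective_and_card _).2 ⟨MonoidHom.rangeRestrict_surjective _, hc.symm⟩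
  exact fun a b e => hb.1 (Subtype.ext e)

theorem card_aut_psu {K : Type*} [Field K] [Fintype K] (hK : Fintype.card K = 4) :
    Nat.card (MulAut (Cfsg.PSU 6 K 2)) = 6 * Nat.card (Cfsg.PSU 6 K 2) := by
  haveI : Fact (Nat.Prime 2) := ⟨Nat.prime_two⟩
  have h := Cfsg.Agent.S0815.result (F := K) 2 1 le_rfl (q := 2) (by norm_num) (by rw [hK]; norm_num) 6
    (by norm_num) (by norm_num)
  rw [h]
  norm_num

variable {G : Type*} [Group G] [Finite G] {z : G}

namespace Hyp

variable (H : Hyp z)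

include H

/-- The element of order three moves some element of the core modulo the centre. -/
theorem c_not_trivial : ∃ a ∈ coreAt z, ⁅H.c, a⁆ ∉ ZJ H := by
  classical
  by_contra hno
  push Not at hno
  let f : coreAt z → ZJ H := fun a => ⟨⁅H.c, (a : G)⁆, hno a a.2⟩
  have hfib : ∀ a b, f a = f b → (a : G) * (b : G)⁻¹ = 1 ∨ (a : G) * (b : G)⁻¹ = z := by
    intro a b e
    have e1 : ⁅H.c, (a : G)⁆ = ⁅H.c, (b : G)⁆ := congrArg Subtype.val e
    refine H.c_fix _ (mul_mem a.2 (inv_mem b.2)) (comm_of_conj ?_)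
    have hη := hno b b.2
    have hc : Commute ⁅H.c, (b : G)⁆ ((a : G) * (b : G)⁻¹) := H.ZJ_central hη (mul_mem a.2 (inv_mem b.2))
    calc H.c * ((a : G) * (b : G)⁻¹) * H.c⁻¹
        = ⁅H.c, (a : G)⁆ * ((a : G) * (b : G)⁻¹) * ⁅H.c, (b : G)⁆⁻¹ := by
          simp [commutatorElement_def, mul_assoc]
      _ = _ := by rw [e1, hc.eq, mul_inv_cancel_right]
  have hcard : (ZJ H).ncard ≤ 8 := by
    have hs : ZJ H ⊆ (H.A : Set G) ∪ (fun a => a * z) '' (H.A : Set G) := by
      intro x hx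
      obtain ⟨α, hα, e | e⟩ := H.mem_ZJ.1 hx
      · exact Or.inl (e ▸ hα)
      · exact Or.inr ⟨α, hα, e.symm⟩
    refine (Set.ncard_le_ncard hs (Set.toFinite _)).trans ((Set.ncard_union_le _ _).trans ?_)
    rw [Set.ncard_image_of_injective _ (mul_left_injective z), ← Nat.card_coe_set_eq (H.A : Set G)]
    have := H.A_card
    simp only [SetLike.coe_sort_coe]
    omega
  haveI := Fintype.ofFinite (coreAt z)
  have h1 := Finset.card_le_mul_card_image (f := f) (Finset.univ : Finset (coreAt z)) 2 fun w hw => ?_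
  · have h2 : (Finset.univ.image f).card ≤ 8 := by
      haveI := Fintype.ofFinite (ZJ H)
      refine (Finset.card_le_univ _).trans ?_
      rw [← Nat.card_eq_fintype_card, Nat.card_coe_set_eq]
      exact hcard
    rw [Finset.card_univ, ← Nat.card_eq_fintype_card, H.card_core] at h1
    omega
  · obtain ⟨b, -, rfl⟩ := Finset.mem_image.1 hw
    refine (Finset.card_le_card (t := {b, ⟨z * b, mul_mem H.z_mem b.2⟩}) fun a ha => ?_).trans Finset.card_le_two
    rw [Finset.mem_filter] at ha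
    rw [Finset.mem_insert, Finset.mem_singleton]
    rcases hfib a b ha.2 with e | e
    · exact Or.inl (Subtype.ext (mul_inv_eq_one.1 e))
    · exact Or.inr (Subtype.ext (mul_inv_eq_iff_eq_mul.1 e))

/-- An element centralising the centraliser of the four-group modulo it centralises the four-group. -/
theorem central_mod {k : G} (hkz : Commute z k)
    (hk : ∀ x, (∀ α ∈ H.A, Commute α x) → ⁅k, x⁆ ∈ H.A) : ∀ α ∈ H.A, Commute α k := by
  classical
  by_contra hno
  have hJ : ∀ a ∈ coreAt z, ⁅k, a⁆ ∈ H.A := fun a ha => hk a fun α hα => H.A_central α hα a ha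
  have hfaith : ∀ v ∈ H.A, v ≠ 1 → ¬ Commute v k := fun v hv hv1 hvk => hno fun α hα =>
    H.A_central α hα k (H.faithful hkz hv hv1 hvk fun a ha => Or.inl (hJ a ha))
  obtain ⟨v, hv, hv1⟩ : ∃ v ∈ H.A, v ≠ 1 := by
    by_contra h
    push Not at h
    exact hno fun α hα => by rw [h α hα]; exact Commute.one_left k
  have hmove : ∀ w ∈ H.A, w ≠ 1 → k * w * k⁻¹ ≠ w := fun w hw hw1 e => hfaith w hw hw1 (comm_of_conj e).symm
  set u := k * v * k⁻¹ with hu
  have huA : u ∈ H.A := H.A_norm k hkz v hv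
  have hu1 : u ≠ 1 := fun e => hv1 (conj_eq_one_iff.1 e)
  have hvu : v ≠ u := fun e => hmove v hv hv1 e.symm
  have hvu1 : v * u ≠ 1 := fun e => hvu (by
    rw [eq_inv_of_mul_eq_one_right e, H.A_inv hv])
  have hku : k * u * k⁻¹ = v * u := by
    rcases H.three hv huA hv1 hu1 hvu (H.A_norm k hkz u huA) with e | e | e | e
    · exact absurd (conj_eq_one_iff.1 e) hu1
    · refine absurd ?_ (hmove _ (mul_mem hv huA) hvu1)
      rw [show k * (v * u) * k⁻¹ = k * v * k⁻¹ * (k * u * k⁻¹) by group, ← hu, e]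
      exact (H.A_central u huA v (H.A_le hv)).eq
    · exact absurd e (hmove u huA hu1)
    · exact e
  -- the power of the element of order three acting in the same way
  obtain ⟨d, hd, hdv, hdc⟩ : ∃ d, (d = H.c ∨ d = H.c * H.c) ∧ d * v * d⁻¹ = u ∧ d * (d * d) = 1 := by
    have h3 := H.c_inv
    have hd2 : H.c * H.c * (H.c * H.c * (H.c * H.c)) = 1 := by
      rw [show H.c * H.c * (H.c * H.c * (H.c * H.c)) = H.c * (H.c * H.c) * (H.c * (H.c * H.c)) by group, h3,
        mul_one]
    have hc1 : H.c * v * H.c⁻¹ ∈ H.A := H.A_norm _ H.c_z v hv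
    rcases H.three hv huA hv1 hu1 hvu hc1 with e | e | e | e
    · exact absurd (conj_eq_one_iff.1 e) hv1
    · exact absurd e (H.c_move hv hv1)
    · exact ⟨H.c, Or.inl rfl, e, h3⟩
    · refine ⟨H.c * H.c, Or.inr rfl, ?_, hd2⟩
      set w := H.c * v * H.c⁻¹ with hw
      have hw1 : w ≠ 1 := fun e => hv1 (conj_eq_one_iff.1 e)
      have hwA : H.c * w * H.c⁻¹ ∈ H.A := H.A_norm _ H.c_z w hc1
      rw [show H.c * H.c * v * (H.c * H.c)⁻¹ = H.c * w * H.c⁻¹ by rw [hw]; group]
      rcases H.three hv huA hv1 hu1 hvu hwA with k1 | k1 | k1 | k1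
      · exact absurd (conj_eq_one_iff.1 k1) hw1
      · refine absurd ?_ (H.c_move hv hv1)
        have h5 : H.c * (H.c * w * H.c⁻¹) * H.c⁻¹ = v := by
          rw [hw, show H.c * (H.c * (H.c * v * H.c⁻¹) * H.c⁻¹) * H.c⁻¹ =
            (H.c * (H.c * H.c)) * v * (H.c * (H.c * H.c))⁻¹ by group, h3]
          group
        rwa [k1] at h5
      · exact k1
      · exact absurd (k1.trans e.symm) (H.c_move hc1 hw1)
  have hdz : Commute z d := by
    rcases hd with rfl | rfl
    exacts [H.c_z, H.c_z.mul_right H.c_z]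
  have hdmove : ∀ w ∈ H.A, w ≠ 1 → d * w * d⁻¹ ≠ w := by
    intro w hw hw1 e
    rcases hd with rfl | rfl
    · exact H.c_move hw hw1 e
    · refine H.c_move hw hw1 ?_
      calc H.c * w * H.c⁻¹ = H.c * H.c * (H.c * H.c * w * (H.c * H.c)⁻¹) * (H.c * H.c)⁻¹ := by
            rw [show H.c * H.c * (H.c * H.c * w * (H.c * H.c)⁻¹) * (H.c * H.c)⁻¹ =
              H.c * (H.c * (H.c * H.c)) * w * (H.c * (H.c * (H.c * H.c)))⁻¹ by group, H.c_inv, mul_one]
        _ = w := by rw [e, e]
  have hdcore : ∀ x, Commute z x → (∀ α ∈ H.A, Commute α x) → ⁅d, x⁆ ∈ coreAt z := by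
    intro x hx hxA
    have h1 : ⁅H.c, x⁆ ∈ coreAt z := by
      rw [← commutatorElement_inv]; exact inv_mem (H.c_commute hx hxA)
    rcases hd with rfl | rfl
    · exact h1
    · rw [show ⁅H.c * H.c, x⁆ = H.c * ⁅H.c, x⁆ * H.c⁻¹ * ⁅H.c, x⁆ by simp [commutatorElement_def, mul_assoc]]
      exact mul_mem (H.conj_mem_core H.c_z h1) h1
  -- the element centralising the four-group
  set g := d⁻¹ * k with hg
  have hgz : Commute z g := hdz.inv_right.mul_right hkz
  have hgv : g * v * g⁻¹ = v := by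
    rw [hg, show d⁻¹ * k * v * (d⁻¹ * k)⁻¹ = d⁻¹ * (k * v * k⁻¹) * d by group, ← hu, ← hdv]
    group
  have hgu : g * u * g⁻¹ = u := by
    rw [hg, show d⁻¹ * k * u * (d⁻¹ * k)⁻¹ = d⁻¹ * (k * u * k⁻¹) * d by group, hku]
    have hdu : d * u * d⁻¹ = v * u := by
      rcases H.three hv huA hv1 hu1 hvu (H.A_norm d hdz u huA) with e | e | e | e
      · exact absurd (conj_eq_one_iff.1 e) hu1
      · refine absurd ?_ (hdmove v hv hv1)
        have h5 : d * (d * u * d⁻¹) * d⁻¹ = v := by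
          rw [← hdv, show d * (d * (d * v * d⁻¹) * d⁻¹) * d⁻¹ = d * (d * d) * v * (d * (d * d))⁻¹ by group, hdc]
          group
        rwa [e] at h5
      · exact absurd e (hdmove u huA hu1)
      · exact e
    rw [← hdu]
    group
  have hgA : ∀ α ∈ H.A, Commute α g := fun α hα =>
    H.comm_A hv huA hv1 hu1 hvu (comm_of_conj hgv).symm (comm_of_conj hgu).symm hα
  have hgW : ∀ x, Commute z x → (∀ α ∈ H.A, Commute α x) → ⁅g, x⁆ ∈ coreAt z := by
    intro x hx hxA
    have h1 : ⁅d⁻¹, x⁆ = d⁻¹ * (⁅d, x⁆)⁻¹ * d := by simp [commutatorElement_def, mul_assoc]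
    rw [hg, show ⁅d⁻¹ * k, x⁆ = d⁻¹ * ⁅k, x⁆ * d⁻¹⁻¹ * ⁅d⁻¹, x⁆ by simp [commutatorElement_def, mul_assoc], h1]
    have h2 := H.conj_mem_core hdz.inv_right (inv_mem (hdcore x hx hxA))
    rw [inv_inv] at h2
    exact mul_mem (H.conj_mem_core hdz.inv_right (H.A_le (hk x hxA))) h2
  obtain ⟨χ, hχs, hχ1⟩ := H.quot v hv hv1
  let W : Subgroup ↥(Hv z v) := (centralizer (H.A : Set G)).subgroupOf (Hv z v)
  haveI hWn : W.Normal := ⟨fun x hx y => by
    rw [mem_subgroupOf, mem_centralizer_iff] at hx ⊢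
    intro α hα
    have h2 := H.A_norm (y : G)⁻¹ (mem_Hv.1 y.2).1.inv_right α hα
    have h4 := (Commute.map (show Commute ((y : G)⁻¹ * α * (y : G)⁻¹⁻¹) (x : G) from hx _ h2)
      (MulAut.conj (y : G))).eq
    simpa [mul_assoc] using h4⟩
  haveI : (W.map χ).Normal := Subgroup.Normal.map hWn χ hχs
  have hgH : g ∈ Hv z v := mem_Hv.2 ⟨hgz, hgA v hv⟩
  have hgmem : (⟨g, hgH⟩ : ↥(Hv z v)) ∈ W :=
    mem_subgroupOf.2 (mem_centralizer_iff.2 fun α hα => (hgA α hα).eq)
  have hgcen : ∀ y ∈ W.map χ, χ ⟨g, hgH⟩ * y = y * χ ⟨g, hgH⟩ := by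
    rintro _ ⟨x, hx, rfl⟩
    rw [← commutatorElement_eq_one_iff_mul_comm, ← map_commutatorElement, hχ1]
    have := hgW (x : G) (mem_Hv.1 x.2).1 fun α hα => mem_centralizer_iff.1 (mem_subgroupOf.1 hx) α hα
    simpa [commutatorElement_def] using this
  have hbot : W.map χ ⊓ centralizer ((W.map χ : Subgroup AutX) : Set AutX) = ⊥ :=
    U62Aut.eq_bot_of_comm fun a ha b hb => mem_centralizer_iff.1 hb.2 a ha.1
  have hgJ : g ∈ coreAt z := by
    refine (hχ1 ⟨g, hgH⟩).1 ?_
    rw [← mem_bot, ← hbot]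
    exact ⟨mem_map_of_mem χ hgmem, mem_centralizer_iff.2 fun y hy => (hgcen y hy).symm⟩
  obtain ⟨a, ha, hne⟩ := H.c_not_trivial
  refine hne ?_
  have h1 : ⁅d, a⁆ ∈ ZJ H := by
    have e : ⁅k, a⁆ = d * ⁅g, a⁆ * d⁻¹ * ⁅d, a⁆ := by
      rw [hg]; simp [commutatorElement_def, mul_assoc]
    have e2 : ⁅d, a⁆ = (d * ⁅g, a⁆ * d⁻¹)⁻¹ * ⁅k, a⁆ := by rw [e, inv_mul_cancel_left]
    rw [e2]
    have h3 : ⁅g, a⁆ ∈ ZJ H := by
      rcases H.comm g hgJ a ha with h | h <;> rw [h]
      exacts [H.one_ZJ, H.z_ZJ]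
    have h4 := H.conj_ZJ hdz h3
    rw [H.ZJ_inv h4]
    exact H.ZJ_mul h4 (Or.inl (hJ a ha))
  rcases hd with rfl | rfl
  · exact h1
  · -- the square is the inverse
    have e : H.c = (H.c * H.c) * (H.c * H.c) := by
      rw [show H.c * H.c * (H.c * H.c) = H.c * (H.c * (H.c * H.c)) by group, H.c_inv, mul_one]
    set d2 := H.c * H.c
    rw [e, show ⁅d2 * d2, a⁆ = d2 * ⁅d2, a⁆ * d2⁻¹ * ⁅d2, a⁆ by simp [commutatorElement_def, mul_assoc]]
    exact H.ZJ_mul (H.conj_ZJ hdz h1) h1

/-- The index of the centraliser of the four-group is a multiple of six. -/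
theorem six_dvd [hA : H.A.Normal] : 6 ∣ (centralizer (H.A : Set G)).index := by
  haveI : (centralizer (H.A : Set G)).Normal := inferInstance
  obtain ⟨v, hv, hv1⟩ : ∃ v ∈ H.A, v ≠ 1 := by
    by_contra h
    push Not at h
    have hb : H.A = ⊥ := (Subgroup.eq_bot_iff_forall _).2 h
    have := H.A_card
    rw [hb, Subgroup.card_bot] at this
    omega
  have hu : H.c * v * H.c⁻¹ ∈ H.A := H.A_norm _ H.c_z v hv
  obtain ⟨s, hsz, hsv, hs⟩ := H.swap v hv hv1
  set M := centralizer (H.A : Set G) with hM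
  haveI : Fact (Nat.Prime 2) := ⟨Nat.prime_two⟩
  haveI : Fact (Nat.Prime 3) := ⟨Nat.prime_three⟩
  have h3 : orderOf (QuotientGroup.mk' M H.c) = 3 := by
    refine orderOf_eq_prime ?_ fun h => ?_
    · rw [← map_pow, show H.c ^ 3 = 1 by rw [← H.c3, pow_orderOf_eq_one], map_one]
    · exact H.c_move hv hv1 (conj_of_comm
        (mem_centralizer_iff.1 ((QuotientGroup.eq_one_iff _).1 h) v hv).symm)
  have h2 : orderOf (QuotientGroup.mk' M s) = 2 := by
    refine orderOf_eq_prime ?_ fun h => ?_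
    · rw [← map_pow]
      exact (QuotientGroup.eq_one_iff _).2 (mem_centralizer_iff.2 fun α hα => by
        rw [pow_two]; exact (H.sq_comm_A hsz hv hv1 hsv hα).eq)
    · exact hs _ hu (fun e => hv1 (conj_eq_one_iff.1 e)) (H.c_move hv hv1)
        (mem_centralizer_iff.1 ((QuotientGroup.eq_one_iff _).1 h) _ hu)
  have d3 := orderOf_dvd_natCard (QuotientGroup.mk' M H.c)
  have d2 := orderOf_dvd_natCard (QuotientGroup.mk' M s)
  rw [h3] at d3; rw [h2] at d2
  rw [index]
  exact Nat.Coprime.mul_dvd_of_dvd_of_dvd (by norm_num : Nat.Coprime 2 3) d2 d3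

end Hyp

set_option maxHeartbeats 1000000 in
/-- The quotient by the four-group is the automorphism group of the unitary group. -/
theorem aut_iso (H : Hyp z) [hA : H.A.Normal] (hz : ∀ g, g * z * g⁻¹ ∈ ZJ H → g * z * g⁻¹ = z)
    {K : Type*} [Field K] [Fintype K] (hK : Fintype.card K = 4)
    (hU : ∃ phi : ↥(Subgroup.centralizer (H.A : Set G)) →* Cfsg.PSU 6 K 2,
      Function.Surjective phi ∧ ∀ x, phi x = 1 ↔ (x : G) ∈ H.A) :
    Nonempty ((G ⧸ H.A) ≃* MulAut (Cfsg.PSU 6 K 2)) := by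
  classical
  obtain ⟨φ, hφs, hφ1⟩ := hU
  haveI hMn : (centralizer (H.A : Set G)).Normal := inferInstance
  let τ : G → ↥(centralizer (H.A : Set G)) →* ↥(centralizer (H.A : Set G)) := fun g => (MulAut.conjNormal g).toMonoidHom
  have hwd : ∀ g, φ.ker ≤ (φ.comp (τ g)).ker := fun g x hx => by
    rw [MonoidHom.mem_ker] at hx ⊢
    show φ (MulAut.conjNormal g x) = 1
    rw [hφ1, MulAut.conjNormal_apply]
    exact hA.conj_mem _ ((hφ1 x).1 hx) g
  let sec := Function.surjInv hφs
  have hsec : ∀ u, φ (sec u) = u := Function.surjInv_eq hφs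
  have hind : ∀ g x y, φ x = φ y → φ (MulAut.conjNormal g x) = φ (MulAut.conjNormal g y) := fun g x y e => by
    have h1 : x⁻¹ * y ∈ φ.ker := by rw [MonoidHom.mem_ker, map_mul, map_inv, e, inv_mul_cancel]
    have h2 : φ (MulAut.conjNormal g (x⁻¹ * y)) = 1 := hwd g h1
    rw [map_mul, map_mul, map_inv, map_inv, inv_mul_eq_one] at h2
    exact h2
  let act : G → Cfsg.PSU 6 K 2 → Cfsg.PSU 6 K 2 := fun g u => φ (MulAut.conjNormal g (sec u))
  have hact : ∀ g x, act g (φ x) = φ (MulAut.conjNormal g x) := fun g x => hind g _ x (hsec _)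
  have hact_mul : ∀ g h u, act (g * h) u = act g (act h u) := fun g h u => by
    show φ (MulAut.conjNormal (g * h) (sec u)) = act g (φ (MulAut.conjNormal h (sec u)))
    rw [hact, map_mul]
    rfl
  have hact_one : ∀ u, act 1 u = u := fun u => by
    show φ (MulAut.conjNormal 1 (sec u)) = u
    rw [map_one]
    exact hsec u
  let Φ : G →* MulAut (Cfsg.PSU 6 K 2) := MonoidHom.mk'
    (fun g =>
      { toFun := act g
        invFun := act g⁻¹
        left_inv := fun u => by rw [← hact_mul, inv_mul_cancel, hact_one]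
        right_inv := fun u => by rw [← hact_mul, mul_inv_cancel, hact_one]
        map_mul' := fun u w => by
          rw [← hsec u, ← hsec w, ← map_mul, hact, hact, hact, map_mul, map_mul] })
    fun g h => MulEquiv.ext fun u => hact_mul g h u
  have hΦ : ∀ g x, Φ g (φ x) = φ (MulAut.conjNormal g x) := hact
  have hker : Φ.ker = H.A := by
    ext k
    rw [MonoidHom.mem_ker]
    constructor
    · intro hk
      have hk' : ∀ x, (∀ α ∈ H.A, Commute α x) → ⁅k, x⁆ ∈ H.A := by
        intro x hx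
        set xM : ↥(centralizer (H.A : Set G)) := ⟨x, mem_centralizer_iff.2 fun α hα => (hx α hα).eq⟩
        have h1 := hΦ k xM
        rw [hk, MulAut.one_apply] at h1
        have h2 : φ (MulAut.conjNormal k xM * xM⁻¹) = 1 := by rw [map_mul, map_inv, ← h1, mul_inv_cancel]
        rw [hφ1] at h2
        rw [commutatorElement_def]
        simpa [MulAut.conjNormal_apply] using h2
      have hkz : Commute z k := by
        have h1 := hk' z fun α hα => (H.comm_zA hα).symm
        have h2 : k * z * k⁻¹ ∈ ZJ H := by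
          rw [show k * z * k⁻¹ = ⁅k, z⁆ * z by rw [commutatorElement_def, inv_mul_cancel_right]]
          exact H.ZJ_mul (Or.inl h1) H.z_ZJ
        exact (comm_of_conj (hz k h2)).symm
      set kM : ↥(centralizer (H.A : Set G)) := ⟨k, mem_centralizer_iff.2 fun α hα => (H.central_mod hkz hk' α hα).eq⟩ with hkM
      refine (hφ1 kM).1 (conj_inj_psu hK ?_)
      rw [map_one]
      refine MulEquiv.ext fun u => ?_
      rw [MulAut.conj_apply, MulAut.one_apply, ← hsec u, ← map_inv, ← map_mul, ← map_mul]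
      have h1 := hΦ k (sec u)
      rw [hk, MulAut.one_apply] at h1
      rw [h1]
      congr 1
    · intro hk
      refine MulEquiv.ext fun u => ?_
      rw [MulAut.one_apply, ← hsec u, hΦ]
      congr 1
      refine Subtype.ext ?_
      rw [MulAut.conjNormal_apply]
      exact conj_of_comm (mem_centralizer_iff.1 (sec u).2 k hk)
  have hle : H.A ≤ (centralizer (H.A : Set G)) := fun α hα => mem_centralizer_iff.2 fun β hβ => (H.A_central β hβ α (H.A_le hα)).eq
  have hrel : (H.A.subgroupOf (centralizer (H.A : Set G))).index = Nat.card (Cfsg.PSU 6 K 2) := by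
    have : H.A.subgroupOf (centralizer (H.A : Set G)) = φ.ker := by
      ext x
      rw [mem_subgroupOf, MonoidHom.mem_ker, hφ1]
    rw [this, index_ker, MonoidHom.range_eq_top.2 hφs, card_top]
  have hidx : H.A.index = Nat.card (Cfsg.PSU 6 K 2) * (centralizer (H.A : Set G)).index := by
    rw [← relIndex_mul_index hle, relIndex, hrel]
  have hge : 6 ≤ (centralizer (H.A : Set G)).index := Nat.le_of_dvd (Nat.pos_of_ne_zero index_ne_zero_of_finite) H.six_dvd
  let Ψ : G ⧸ H.A →* MulAut (Cfsg.PSU 6 K 2) := QuotientGroup.lift H.A Φ (le_of_eq hker.symm)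
  have hinj : Function.Injective Ψ := by
    rw [← MonoidHom.ker_eq_bot_iff]
    refine (Subgroup.eq_bot_iff_forall _).2 fun q hq => ?_
    obtain ⟨g, rfl⟩ := QuotientGroup.mk_surjective q
    refine (QuotientGroup.eq_one_iff g).2 ?_
    rw [← hker, MonoidHom.mem_ker]
    exact hq
  haveI : Finite (MulAut (Cfsg.PSU 6 K 2)) := inferInstance
  have hb : Function.Bijective Ψ := by
    refine Nat.bijective_iff_injective_and_card _ |>.2 ⟨hinj, le_antisymm (Nat.card_le_card_of_injective Ψ hinj) ?_⟩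
    rw [card_aut_psu hK]
    show _ ≤ H.A.index
    rw [hidx, mul_comm 6]
    exact Nat.mul_le_mul_left _ hge
  exact ⟨MulEquiv.ofBijective Ψ hb⟩

end Cfsg.Agent.Fi23Two
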