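import Cfsg.Agent.Lib.Fi23Two.Fix

/-!
Conjugates of `z` and of an involution of the four-group commuting with `z`.
-/

set_option autoImplicit false
set_option linter.style.haveILetI false
set_option linter.unusedSectionVars false

namespace Cfsg.Agent.Fi23Two

open Subgroup LargeExtra
open scoped commutatorElement
open Cfsg.Agent.U62Rec.Model Cfsg.Agent.U62Aut
open Cfsg.Agent.Fi22Two (fixV imV tvA comm_of_conj conj_of_comm conj_comm comm_elem_eq)

universe u

variable {G : Type u} [Group G] [Finite G] {z : G}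

/-- The centraliser of `d` is that of `z` and `d` up to a normal subgroup of odd order. -/
def SmallAt (z d : G) : Prop :=
  ∃ K : Subgroup G, Odd (Nat.card K) ∧ (∀ o ∈ K, Commute d o) ∧ (∀ c, Commute d c → ∀ o ∈ K, c * o * c⁻¹ ∈ K) ∧
    ∀ c, Commute d c → ∃ h, Commute z h ∧ ∃ o ∈ K, c = h * o

/-- The hypotheses on centralisers: `N` is to contain every element carrying `z` and an involution of the
four-group into the centraliser of `z`. -/
structure Fus (H : Hyp z) where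
  /-- The subgroup. -/
  N : Subgroup G
  cent : ∀ h, Commute z h → h ∈ N
  no_z : ∀ v ∈ H.A, v ≠ 1 → ∀ g, g * z * g⁻¹ ≠ v ∧ g * z * g⁻¹ ≠ v * z
  small : ∀ v ∈ H.A, v ≠ 1 → SmallAt z (v * z)
  cover : ∀ v ∈ H.A, v ≠ 1 → ∀ a, (a = z ∨ a = v ∨ a = v * z) → ∀ P : Subgroup G, IsPGroup 2 P →
    (∀ p ∈ P, Commute a p) → ∃ k, Commute a k ∧ ∀ p ∈ P, k * p * k⁻¹ ∈ Hv z v
  U : ∀ v ∈ H.A, v ≠ 1 → ∀ g, g * v * g⁻¹ ∈ ZJ H → Commute z (g * z * g⁻¹) → g ∈ N
  wN : ∀ g ∈ N, ∀ v ∈ H.A, g * v * g⁻¹ ∈ H.A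
  adj : ∀ v ∈ H.A, v ≠ 1 → ∀ g ∈ N, g * z * g⁻¹ ≠ z → ∀ k, Commute (v * z) k → g * k ∈ N

/-- An involution fixing more than 64 vectors is trivial. -/
theorem one_of_big {τ : Agrp} (h2 : τ * τ = 1) {S : Set Vec} (hS : S ⊆ fixV τ) (hc : 64 < S.ncard) : τ = 1 := by
  by_contra h1
  have h := Set.ncard_le_ncard hS (Set.toFinite _)
  by_cases htv : ∃ p, τ = tvA p
  · obtain ⟨p, rfl⟩ := htv
    rw [card_tvA] at h
    omega
  · push Not at htv
    rw [(shape_small h2 h1 htv).2] at h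
    omega

namespace Hyp

variable (H : Hyp z)

include H

theorem exists_ne_one : ∃ v ∈ H.A, v ≠ 1 := by
  by_contra h
  push Not at h
  have hb : H.A = ⊥ := (Subgroup.eq_bot_iff_forall _).2 h
  have := H.A_card
  rw [hb, Subgroup.card_bot] at this
  omega

/-- An involution centralising `z` fixes an involution of the four-group. -/
theorem exists_fixed {g : G} (hg : Commute z g) (h2 : g * g = 1) : ∃ u ∈ H.A, u ≠ 1 ∧ Commute u g := by
  obtain ⟨w, hw, hw1⟩ := H.exists_ne_one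
  set w' := g * w * g⁻¹ with hw'
  have hw'A : w' ∈ H.A := H.A_norm g hg w hw
  by_cases he : w' = w
  · exact ⟨w, hw, hw1, (comm_of_conj he).symm⟩
  refine ⟨w * w', mul_mem hw hw'A, fun e => he ?_, (comm_of_conj ?_).symm⟩
  · rw [mul_eq_one_iff_eq_inv, H.A_inv hw'A] at e
    exact e.symm
  · rw [show g * (w * w') * g⁻¹ = g * w * g⁻¹ * (g * g * w * (g * g)⁻¹) by rw [hw']; group, h2, ← hw']
    rw [show w' * (1 * w * 1⁻¹) = w' * w by group]
    exact (H.A_central w' hw'A w (H.A_le hw)).eq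

theorem bracket_cases {a b : G} (ha : a ∈ coreAt z) (hb : b ∈ coreAt z) (hab : ¬ Commute a b) :
    a * b * a⁻¹ = b * z :=
  (H.conj_cases ha hb).resolve_left fun h => hab (comm_of_conj h)

/-- An element of the core commuting with the centraliser of `x` in the core. -/
theorem perp {x t : G} (hx : x ∈ coreAt z) (ht : t ∈ coreAt z)
    (h : ∀ j ∈ coreAt z, Commute x j → Commute t j) : t ∈ ZJ H ∨ t * x ∈ ZJ H := by
  by_cases hall : ∀ j ∈ coreAt z, Commute t j
  · exact Or.inl (H.center t ht hall)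
  push Not at hall
  obtain ⟨q, hq, htq⟩ := hall
  refine Or.inr (H.center _ (mul_mem ht hx) fun b hb => ?_)
  by_cases hxb : Commute x b
  · exact (h b hb hxb).mul_left hxb
  have hxq : ¬ Commute x q := fun h' => htq (h q hq h')
  have hzx : ∀ {a : G}, a ∈ coreAt z → z * a = a * z := fun ha => (H.comm_z ha).eq
  have hflip : ∀ {a b : G}, a ∈ coreAt z → b ∈ coreAt z → ¬ Commute a b → a * b = b * a * z := fun {a b} ha hb hn => by
    calc a * b = a * b * a⁻¹ * a := by group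
      _ = b * z * a := by rw [H.bracket_cases ha hb hn]
      _ = _ := by rw [mul_assoc, hzx ha, mul_assoc]
  have hxqb : Commute x (q * b) := by
    show x * (q * b) = q * b * x
    calc x * (q * b) = x * q * b := (mul_assoc _ _ _).symm
      _ = q * (x * (z * b)) := by rw [hflip hx hq hxq, mul_assoc, mul_assoc]
      _ = q * (x * b * z) := by rw [hzx hb, mul_assoc]
      _ = q * (b * x * z * z) := by rw [hflip hx hb hxb]
      _ = q * b * x := by rw [mul_assoc (b * x) z z, H.z2, mul_one, mul_assoc]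
  have htb : ¬ Commute t b := fun h' => htq (by
    have := (h _ (mul_mem hq hb) hxqb).mul_right h'.inv_right
    rwa [mul_inv_cancel_right] at this)
  show t * x * b = b * (t * x)
  calc t * x * b = t * (b * x * z) := by rw [mul_assoc, hflip hx hb hxb]
    _ = b * t * z * (x * z) := by rw [← hflip ht hb htb]; group
    _ = b * t * (z * x) * z := by group
    _ = b * t * x * (z * z) := by rw [hzx hx]; group
    _ = _ := by rw [H.z2, mul_one, mul_assoc]

end Hyp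

namespace Fus

variable {H : Hyp z} (F : Fus H)

include F

theorem conj_two {a g : G} (ha : a * a = 1) : g * a * g⁻¹ * (g * a * g⁻¹) = 1 := by
  rw [show g * a * g⁻¹ * (g * a * g⁻¹) = g * (a * a) * g⁻¹ by group, ha]
  group

theorem three_sq {v a : G} (hv : v ∈ H.A) (ha : a = z ∨ a = v ∨ a = v * z) : a * a = 1 := by
  rcases ha with rfl | rfl | rfl
  exacts [H.z2, H.A_sq _ hv, H.ZJ_sq (H.mem_ZJ.2 ⟨v, hv, Or.inr rfl⟩)]

variable {v g : G} (hv : v ∈ H.A) (hv1 : v ≠ 1) (hy : Commute z (g * z * g⁻¹)) (hw : Commute z (g * v * g⁻¹))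

include hv hv1 hy hw

theorem conj_e : g * (v * z) * g⁻¹ = g * v * g⁻¹ * (g * z * g⁻¹) := by group

theorem commute_all {a : G} (ha : a = z ∨ a = v ∨ a = v * z) : Commute z (g * a * g⁻¹) := by
  rcases ha with rfl | rfl | rfl
  exacts [hy, hw, (F.conj_e hv hv1 hy hw) ▸ hw.mul_right hy]

theorem yw : Commute (g * z * g⁻¹) (g * v * g⁻¹) := conj_comm (H.comm_zA hv)

/-- Some involution of the four-group is fixed by the three conjugates. -/
theorem exists_common : ∃ u ∈ H.A, u ≠ 1 ∧ Commute u (g * z * g⁻¹) ∧ Commute u (g * v * g⁻¹) ∧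
    Commute u (g * (v * z) * g⁻¹) := by
  set y := g * z * g⁻¹ with hydef
  set w := g * v * g⁻¹ with hwdef
  rw [show g * (v * z) * g⁻¹ = w * y from F.conj_e hv hv1 hy hw]
  have hy2 : y * y = 1 := F.conj_two H.z2
  have hw2 : w * w = 1 := F.conj_two (H.A_sq v hv)
  suffices ∃ u ∈ H.A, u ≠ 1 ∧ Commute u y ∧ Commute u w from
    this.elim fun u ⟨h1, h2, h3, h4⟩ => ⟨u, h1, h2, h3, h4, h4.mul_right h3⟩
  obtain ⟨u, hu, hu1, huy⟩ := H.exists_fixed hy hy2
  by_cases huw : Commute u w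
  · exact ⟨u, hu, hu1, huy, huw⟩
  obtain ⟨t, ht, ht1, htw⟩ := H.exists_fixed hw hw2
  set u' := w * u * w⁻¹ with hu'
  have hu'A : u' ∈ H.A := H.A_norm w hw u hu
  have hne : u ≠ u' := fun e => huw (comm_of_conj e.symm).symm
  have hyw : Commute y w := F.yw hv hv1 hy hw
  have hu'y : Commute u' y := by
    refine (comm_of_conj ?_).symm
    rw [hu', show y * (w * u * w⁻¹) * y⁻¹ = y * w * u * (y * w)⁻¹ by group, hyw.eq,
      show w * y * u * (w * y)⁻¹ = w * (y * u * y⁻¹) * w⁻¹ by group, conj_of_comm huy.symm]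
  exact ⟨t, ht, ht1, H.comm_A hu hu'A hu1 (fun e => hu1 (conj_eq_one_iff.1 e)) hne huy hu'y ht, htw⟩

/-- An element centralising `z` and the conjugate of `v * z` centralises the other conjugates. -/
theorem le {h : G} (hh : Commute z h) (hhe : Commute (g * (v * z) * g⁻¹) h) :
    Commute (g * z * g⁻¹) h ∧ Commute (g * v * g⁻¹) h := by
  suffices hyh : Commute (g * z * g⁻¹) h by
    refine ⟨hyh, ?_⟩
    have := hhe.mul_left hyh
    rwa [show g * (v * z) * g⁻¹ * (g * z * g⁻¹) = g * (v * (z * z)) * g⁻¹ by group, H.z2, mul_one] at this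
  obtain ⟨K, hodd, hKd, hKn, hdec⟩ := F.small v hv hv1
  have hdv : ∀ {x : G}, Commute z x → Commute (v * z) x → Commute v x := fun hx hx' => by
    have := hx'.mul_left hx.inv_left
    rwa [mul_inv_cancel_right] at this
  have hK1 : ∀ o ∈ K, Commute z o → o = 1 := by
    intro o ho hoz
    have hoK : ∀ x ∈ K, Odd (orderOf x) := fun x hx => hodd.of_dvd_nat (orderOf_dvd_natCard K hx)
    have hJ : ∀ j ∈ coreAt z, Commute o j := by
      intro j hj
      have h1 : ⁅o, j⁆ ∈ K := by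
        rw [commutatorElement_def, show o * j * o⁻¹ * j⁻¹ = o * (j * o⁻¹ * j⁻¹) by group]
        exact mul_mem ho (hKn j ((H.ZJ_central (H.mem_ZJ.2 ⟨v, hv, Or.inr rfl⟩) hj)) _ (inv_mem ho))
      obtain ⟨m, hm⟩ := (coreAt_isPGroup z) ⟨_, H.bracket_mem hoz hj⟩
      have hm' := congrArg Subtype.val hm
      rw [SubmonoidClass.coe_pow, OneMemClass.coe_one] at hm'
      exact commutatorElement_eq_one_iff_commute.1 (orderOf_eq_one_iff.1 (Nat.eq_one_of_dvd_coprimes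
        ((Nat.coprime_two_right.2 hodd).pow_right m) (orderOf_dvd_natCard K h1) (orderOf_dvd_of_pow_eq_one hm')))
    obtain ⟨m, hm⟩ := (coreAt_isPGroup z) ⟨o, H.self o hoz hJ⟩
    have hm' := congrArg Subtype.val hm
    rw [SubmonoidClass.coe_pow, OneMemClass.coe_one] at hm'
    exact orderOf_eq_one_iff.1 (Nat.eq_one_of_dvd_coprimes ((Nat.coprime_two_right.2 hodd).pow_right m)
      (orderOf_dvd_natCard K ho) (orderOf_dvd_of_pow_eq_one hm'))
  -- back by `g`
  set u := g⁻¹ * z * g with hu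
  have hu2 : u * u = 1 := by rw [hu, show g⁻¹ * z * g * (g⁻¹ * z * g) = g⁻¹ * (z * z) * g by group, H.z2]; group
  have huz : Commute z u := by
    have := hy.symm.map (MulAut.conj g⁻¹)
    simpa [hu, mul_assoc] using this
  have hud : Commute (v * z) u := by
    have := (F.commute_all hv hv1 hy hw (Or.inr (Or.inr rfl))).map (MulAut.conj g⁻¹)
    simpa [hu, mul_assoc] using this.symm
  have huh : Commute u (g⁻¹ * h * g) := by
    have := hh.map (MulAut.conj g⁻¹)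
    simpa [hu, mul_assoc] using this
  have hdh : Commute (v * z) (g⁻¹ * h * g) := by
    have := hhe.map (MulAut.conj g⁻¹)
    simpa [mul_assoc] using this
  obtain ⟨h1, hh1, o, ho, e⟩ := hdec _ hdh
  have hh1d : Commute (v * z) h1 := by
    have := hdh.mul_right (hKd o ho).inv_right
    rwa [e, mul_inv_cancel_right] at this
  have hmem : h1⁻¹ * (u * h1 * u⁻¹) ∈ K := by
    have e1 : u * h1 * u⁻¹ * (u * o * u⁻¹) = h1 * o := by
      rw [show u * h1 * u⁻¹ * (u * o * u⁻¹) = u * (h1 * o) * u⁻¹ by group, ← e, conj_of_comm huh]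
    rw [show h1⁻¹ * (u * h1 * u⁻¹) = o * (u * o * u⁻¹)⁻¹ by
      calc h1⁻¹ * (u * h1 * u⁻¹) = h1⁻¹ * (u * h1 * u⁻¹ * (u * o * u⁻¹)) * (u * o * u⁻¹)⁻¹ := by group
        _ = _ := by rw [e1]; group]
    exact mul_mem ho (inv_mem (hKn u hud _ ho))
  have h1u : Commute u h1 := by
    refine comm_of_conj (inv_mul_eq_one.1 (hK1 _ hmem ?_)).symm
    exact hh1.inv_right.mul_right ((huz.mul_right hh1).mul_right huz.inv_right)
  have hou : Commute u o := by
    have := h1u.inv_right.mul_right huh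
    rwa [e, inv_mul_cancel_left] at this
  -- the odd part
  set o' := g * o * g⁻¹ with ho'
  have ho'z : Commute z o' := by
    have := hou.map (MulAut.conj g)
    simpa [hu, ho', mul_assoc] using this
  have ho'e : Commute (g * (v * z) * g⁻¹) o' := conj_comm (hKd o ho)
  have he2 : g * (v * z) * g⁻¹ * (g * (v * z) * g⁻¹) = 1 := F.conj_two (F.three_sq hv (Or.inr (Or.inr rfl)))
  obtain ⟨v0, hv0, hv01, -, -, hv0e⟩ := F.exists_common hv hv1 hy hw
  have ho'odd : Odd (orderOf o') := by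
    rw [ho', show g * o * g⁻¹ = MulAut.conj g o from rfl, MulEquiv.orderOf_eq]
    exact hodd.of_dvd_nat (orderOf_dvd_natCard K ho)
  have hcen : ∀ j ∈ coreAt z, Commute (g * (v * z) * g⁻¹) j → Commute o' j := by
    intro j hj hje
    have hb : g⁻¹ * j * g ∈ centralizer ({v * z} : Set G) := by
      refine mem_centralizer_one.2 ?_
      have := hje.map (MulAut.conj g⁻¹)
      simp only [MulAut.conj_apply, inv_inv, mul_assoc, inv_mul_cancel_left, inv_mul_cancel, mul_one] at this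
      simpa [mul_assoc] using this.eq.symm
    have h1 : g⁻¹ * ⁅o', j⁆ * g ∈ K := by
      rw [ho', commutatorElement_def,
        show g⁻¹ * (g * o * g⁻¹ * j * (g * o * g⁻¹)⁻¹ * j⁻¹) * g =
          o * ((g⁻¹ * j * g) * o⁻¹ * (g⁻¹ * j * g)⁻¹) by group]
      exact mul_mem ho (hKn _ (mem_centralizer_one.1 hb).symm _ (inv_mem ho))
    obtain ⟨m, hm⟩ := (coreAt_isPGroup z) ⟨_, H.bracket_mem ho'z hj⟩
    have hm' := congrArg Subtype.val hm
    rw [SubmonoidClass.coe_pow, OneMemClass.coe_one] at hm'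
    have hd := orderOf_dvd_natCard K h1
    rw [show g⁻¹ * ⁅o', j⁆ * g = MulAut.conj g⁻¹ ⁅o', j⁆ by rw [MulAut.conj_apply, inv_inv], MulEquiv.orderOf_eq] at hd
    exact commutatorElement_eq_one_iff_commute.1 (orderOf_eq_one_iff.1 (Nat.eq_one_of_dvd_coprimes
      ((Nat.coprime_two_right.2 hodd).pow_right m) hd (orderOf_dvd_of_pow_eq_one hm')))
  obtain ⟨C⟩ := H.exists_coord hv0 hv01
  have ho'v0 : Commute v0 o' := (hcen v0 (H.A_le hv0) hv0e.symm).symm
  have ho1 : o' = 1 := C.odd_trivial (mem_Hv.2 ⟨F.commute_all hv hv1 hy hw (Or.inr (Or.inr rfl)), hv0e⟩) he2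
    (mem_Hv.2 ⟨ho'z, ho'v0⟩) ho'e ho'odd hcen
  have ho0 : o = 1 := conj_eq_one_iff.1 ho1
  rw [ho0, mul_one] at e
  have := conj_comm (g := g) hh1
  rwa [← e, show g * (g⁻¹ * h * g) * g⁻¹ = h by group] at this

omit hv hv1 hy hw

/-- A conjugate inside the centre of the core. -/
theorem zero {v g : G} (hv : v ∈ H.A) (hv1 : v ≠ 1) (hy : Commute z (g * z * g⁻¹))
    (hw : Commute z (g * v * g⁻¹))
    (h : g * z * g⁻¹ ∈ ZJ H ∨ g * v * g⁻¹ ∈ ZJ H ∨ g * (v * z) * g⁻¹ ∈ ZJ H) : g ∈ F.N := by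
  have hyZ : g * z * g⁻¹ ∈ ZJ H → g ∈ F.N := by
    intro h
    obtain ⟨α, hα, e⟩ := H.mem_ZJ.1 h
    by_cases hα1 : α = 1
    · subst hα1
      rcases e with e | e
      · exact absurd (conj_eq_one_iff.1 e) H.z_ne
      · rw [one_mul] at e
        exact F.cent g (comm_of_conj e).symm
    · rcases e with e | e
      · exact absurd e (F.no_z α hα hα1 g).1
      · exact absurd e (F.no_z α hα hα1 g).2
  rcases h with h | h | h
  · exact hyZ h
  · exact F.U v hv hv1 g h hy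
  · refine hyZ (H.center _ ?_ fun j hj => (F.le hv hv1 hy hw (H.comm_z hj) (H.ZJ_central h hj)).1)
    obtain ⟨α, hα, -⟩ := H.mem_ZJ.1 h
    refine H.self _ hy fun j hj => (F.le hv hv1 hy hw (H.comm_z hj) (H.ZJ_central h hj)).1

/-- Moving the conjugates so that they centralise the centraliser of one of them in the core. -/
theorem adjust {v g a : G} (hv : v ∈ H.A) (hv1 : v ≠ 1) (ha : a = z ∨ a = v ∨ a = v * z)
    (hx : Commute z (g * a * g⁻¹)) :
    ∃ g', g' * a * g'⁻¹ = g * a * g⁻¹ ∧ ∀ t, t = z ∨ t = v ∨ t = v * z →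
      Commute z (g' * t * g'⁻¹) ∧ ∀ j ∈ coreAt z, Commute (g * a * g⁻¹) j → Commute (g' * t * g'⁻¹) j := by
  set P := (coreAt z ⊓ centralizer ({g * a * g⁻¹} : Set G)).map (MulAut.conj g⁻¹).toMonoidHom with hP
  obtain ⟨k, hak, hk⟩ := F.cover v hv hv1 a ha P (((coreAt_isPGroup z).to_le inf_le_left).map _) (by
    rintro _ ⟨p, hp, rfl⟩
    have := (show Commute (g * a * g⁻¹) p from (mem_centralizer_one.1 hp.2).symm).map (MulAut.conj g⁻¹)
    simpa [mul_assoc] using this)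
  refine ⟨g * k⁻¹, ?_, fun t ht => ?_⟩
  · rw [show g * k⁻¹ * a * (g * k⁻¹)⁻¹ = g * (k⁻¹ * a * k) * g⁻¹ by group,
      show k⁻¹ * a * k = a by rw [mul_assoc, hak.eq, inv_mul_cancel_left]]
  have key : ∀ j ∈ coreAt z, Commute (g * a * g⁻¹) j → Commute (g * k⁻¹ * t * (g * k⁻¹)⁻¹) j := by
    intro j hj hc
    obtain ⟨hz, hvk⟩ := mem_Hv.1 (hk (g⁻¹ * j * g) ⟨j, ⟨hj, mem_centralizer_one.2 hc.eq.symm⟩, by simp⟩)
    have h1 : Commute t (k * (g⁻¹ * j * g) * k⁻¹) := by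
      rcases ht with rfl | rfl | rfl
      exacts [hz, hvk, hvk.mul_left hz]
    have h2 := conj_comm (g := g * k⁻¹) h1
    rwa [show g * k⁻¹ * (k * (g⁻¹ * j * g) * k⁻¹) * (g * k⁻¹)⁻¹ = j by group] at h2
  exact ⟨(key z H.z_mem hx.symm).symm, key⟩

/-- From a moved element back. -/
theorem transfer {v g g' a : G} (hv : v ∈ H.A) (hv1 : v ≠ 1) (ha : a = z ∨ a = v ∨ a = v * z)
    (he : g' * a * g'⁻¹ = g * a * g⁻¹) (hN : g' ∈ F.N) (hx : g * a * g⁻¹ ∉ ZJ H) : g ∈ F.N := by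
  have hk : Commute a (g'⁻¹ * g) := by
    refine (comm_of_conj ?_).symm
    rw [show g'⁻¹ * g * a * (g'⁻¹ * g)⁻¹ = g'⁻¹ * (g * a * g⁻¹) * g' by group, ← he]
    group
  rcases ha with rfl | rfl | rfl
  · have := mul_mem hN (F.cent _ hk)
    rwa [mul_inv_cancel_left] at this
  · exact absurd (H.A_le_ZJ (he ▸ F.wN g' hN a hv)) hx
  · have hne : g' * z * g'⁻¹ ≠ z := fun e => hx (by
      rw [← he]
      exact H.conj_ZJ (comm_of_conj e).symm (H.mem_ZJ.2 ⟨v, hv, Or.inr rfl⟩))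
    have := F.adj v hv hv1 g' hN hne _ hk
    rwa [mul_inv_cancel_left] at this

/-- A conjugate in the core. -/
theorem in_core {v g a : G} (hv : v ∈ H.A) (hv1 : v ≠ 1) (hy : Commute z (g * z * g⁻¹))
    (hw : Commute z (g * v * g⁻¹)) (ha : a = z ∨ a = v ∨ a = v * z) (hxJ : g * a * g⁻¹ ∈ coreAt z) : g ∈ F.N := by
  set x := g * a * g⁻¹ with hxdef
  by_cases hxZ : x ∈ ZJ H
  · refine F.zero hv hv1 hy hw ?_
    rcases ha with rfl | rfl | rfl
    exacts [Or.inl hxZ, Or.inr (Or.inl hxZ), Or.inr (Or.inr hxZ)]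
  obtain ⟨g', he, hg'⟩ := F.adjust hv hv1 ha (F.commute_all hv hv1 hy hw ha)
  rw [← hxdef] at he
  refine F.transfer hv hv1 ha he ?_ hxZ
  by_contra hN
  have hx2 : x * x = 1 := F.conj_two (F.three_sq hv ha)
  have hnZ : ∀ t, t = z ∨ t = v ∨ t = v * z → g' * t * g'⁻¹ ∉ ZJ H := fun t ht h => hN (F.zero hv hv1
    (hg' z (Or.inl rfl)).1 (hg' v (Or.inr (Or.inl rfl))).1 (by
      rcases ht with rfl | rfl | rfl
      exacts [Or.inl h, Or.inr (Or.inl h), Or.inr (Or.inr h)]))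
  obtain ⟨C⟩ := H.exists_coord hv hv1
  have hxS : x ∈ Hv z v := H.core_le_Hv hv hxJ
  have hCI : 64 < (C.CI x).ncard := by
    have h1 := C.CI_large hxS hx2
    rw [C.lin_eq_one hxS hxJ, show fixV (1 : Agrp) = Set.univ from Set.eq_univ_of_forall fun _ => rfl,
      Set.ncard_univ, Nat.card_eq_fintype_card, Fintype.card_fin] at h1
    omega
  have hZ : ∀ t, t = z ∨ t = v ∨ t = v * z → g' * t * g'⁻¹ * x ∈ ZJ H := by
    intro t ht
    obtain ⟨htz, htc⟩ := hg' t ht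
    have htv : Commute v (g' * t * g'⁻¹) := (htc v (H.A_le hv) (H.A_central v hv x hxJ).symm).symm
    have htS : g' * t * g'⁻¹ ∈ Hv z v := mem_Hv.2 ⟨htz, htv⟩
    have htJ : g' * t * g'⁻¹ ∈ coreAt z := (C.lin_one _ htS).1
      (one_of_big (C.lin_sq htS (F.conj_two (F.three_sq hv ht))) (C.fix_of_commute htS htc) hCI)
    exact (H.perp hxJ htJ htc).resolve_left (hnZ t ht)
  have hxi : x⁻¹ = x := inv_eq_of_mul_eq_one_right hx2
  have hv2 : (g' * v * g'⁻¹)⁻¹ = g' * v * g'⁻¹ := inv_eq_of_mul_eq_one_right (F.conj_two (H.A_sq v hv))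
  refine hnZ (v * z) (Or.inr (Or.inr rfl)) ?_
  have h1 := hZ v (Or.inr (Or.inl rfl))
  have h2 := hZ z (Or.inl rfl)
  have h3 := H.ZJ_mul h2 (show x⁻¹ * (g' * v * g'⁻¹)⁻¹ ∈ ZJ H by
    rw [← mul_inv_rev, H.ZJ_inv h1]; exact h1)
  rw [show g' * z * g'⁻¹ * x * (x⁻¹ * (g' * v * g'⁻¹)⁻¹) = g' * z * g'⁻¹ * (g' * v * g'⁻¹)⁻¹ by group, hv2,
    (F.yw hv hv1 (hg' z (Or.inl rfl)).1 (hg' v (Or.inr (Or.inl rfl))).1).eq,
    ← F.conj_e hv hv1 (hg' z (Or.inl rfl)).1 (hg' v (Or.inr (Or.inl rfl))).1] at h3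
  exact h3

/-- A conjugate inducing a transvection. -/
theorem tv_case {v g a : G} (hv : v ∈ H.A) (hv1 : v ≠ 1) (hy : Commute z (g * z * g⁻¹))
    (hw : Commute z (g * v * g⁻¹)) (ha : a = z ∨ a = v ∨ a = v * z) {u : G} (C : Coord H u)
    (hxS : g * a * g⁻¹ ∈ Hv z u) {p : Pt} (hp : C.lin (g * a * g⁻¹) = tvA p) : g ∈ F.N := by
  set x := g * a * g⁻¹ with hxdef
  by_cases hxJ : x ∈ coreAt z
  · exact F.in_core hv hv1 hy hw ha hxJ
  obtain ⟨g', he, hg'⟩ := F.adjust hv hv1 ha (F.commute_all hv hv1 hy hw ha)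
  rw [← hxdef] at he
  refine F.transfer hv hv1 ha he ?_ fun h => hxJ (H.ZJ_mem h)
  by_contra hN
  have hx2 : x * x = 1 := F.conj_two (F.three_sq hv ha)
  have hxA : ∀ α ∈ H.A, Commute α x := (C.lin_inner x hxS).2 (by rw [hp]; exact tvV_mem p)
  have hCI : 16 < (C.CI x).ncard := by
    have h1 := C.CI_large hxS hx2
    rw [hp, card_tvA] at h1
    omega
  have hsub : C.CI x ⊆ fixV (tvA p) := fun w hw => hp ▸ C.CI_fix hxS hw
  have key : ∀ t, t = z ∨ t = v ∨ t = v * z → g' * t * g'⁻¹ ∈ Hv z u ∧ C.lin (g' * t * g'⁻¹) = tvA p := by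
    intro t ht
    obtain ⟨htz, htc⟩ := hg' t ht
    have htS : g' * t * g'⁻¹ ∈ Hv z u :=
      mem_Hv.2 ⟨htz, (htc u (H.A_le C.v_mem) (hxA u C.v_mem).symm).symm⟩
    refine ⟨htS, big_fix (C.lin_sq htS (F.conj_two (F.three_sq hv ht))) (fun h1 => hN ?_) p hsub
      (C.fix_of_commute htS htc) hCI⟩
    exact F.in_core hv hv1 (hg' z (Or.inl rfl)).1 (hg' v (Or.inr (Or.inl rfl))).1 ht ((C.lin_one _ htS).1 h1)
  obtain ⟨hy', ey⟩ := key z (Or.inl rfl)
  obtain ⟨hw', ew⟩ := key v (Or.inr (Or.inl rfl))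
  obtain ⟨he', ee⟩ := key (v * z) (Or.inr (Or.inr rfl))
  rw [F.conj_e hv hv1 (hg' z (Or.inl rfl)).1 (hg' v (Or.inr (Or.inl rfl))).1, C.lin_mul _ hw' _ hy', ew, ey]
    at ee
  refine (show tvA p ≠ 1 from fun h => ?_) ((mul_eq_left).1 ee)
  have h1 := card_tvA p
  rw [h, show fixV (1 : Agrp) = Set.univ from Set.eq_univ_of_forall fun _ => rfl, Set.ncard_univ,
    Nat.card_eq_fintype_card, Fintype.card_fin] at h1
  omega

/-- The conjugates of `z` and `v` commuting with `z` come from `N`. -/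
theorem mem_N {v g : G} (hv : v ∈ H.A) (hv1 : v ≠ 1) (hy : Commute z (g * z * g⁻¹))
    (hw : Commute z (g * v * g⁻¹)) : g ∈ F.N := by
  obtain ⟨u, hu, hu1, huy, huw, hue⟩ := F.exists_common hv hv1 hy hw
  obtain ⟨C⟩ := H.exists_coord hu hu1
  have hez := F.commute_all hv hv1 hy hw (Or.inr (Or.inr rfl))
  set y := g * z * g⁻¹ with hydef
  set w := g * v * g⁻¹ with hwdef
  set e := g * (v * z) * g⁻¹ with hedef
  have hyS : y ∈ Hv z u := mem_Hv.2 ⟨hy, huy⟩
  have hwS : w ∈ Hv z u := mem_Hv.2 ⟨hw, huw⟩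
  have heS : e ∈ Hv z u := mem_Hv.2 ⟨hez, hue⟩
  by_contra hN
  have hne : ∀ t, t = z ∨ t = v ∨ t = v * z → g * t * g⁻¹ ∈ Hv z u →
      C.lin (g * t * g⁻¹) ≠ 1 ∧ ∀ p, C.lin (g * t * g⁻¹) ≠ tvA p := fun t ht hS =>
    ⟨fun h => hN (F.in_core hv hv1 hy hw ht ((C.lin_one _ hS).1 h)),
      fun p h => hN (F.tv_case hv hv1 hy hw ht C hS h)⟩
  obtain ⟨hy1, hytv⟩ := hne z (Or.inl rfl) hyS
  obtain ⟨hw1, hwtv⟩ := hne v (Or.inr (Or.inl rfl)) hwS
  obtain ⟨he1, hetv⟩ := hne (v * z) (Or.inr (Or.inr rfl)) heS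
  rw [← hydef] at hy1 hytv
  rw [← hwdef] at hw1 hwtv
  rw [← hedef] at he1 hetv
  have hy2 : y * y = 1 := F.conj_two H.z2
  have hw2 : w * w = 1 := F.conj_two (H.A_sq v hv)
  have he2 : e * e = 1 := F.conj_two (F.three_sq hv (Or.inr (Or.inr rfl)))
  have hsy := C.lin_sq hyS hy2
  have hse := C.lin_sq heS he2
  have hewy : C.lin e = C.lin w * C.lin y := by
    rw [← C.lin_mul w hwS y hyS, ← F.conj_e hv hv1 hy hw]
  obtain ⟨heim, he16⟩ := shape_small hse he1 hetv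
  have hCI : 8 ≤ (C.CI e).ncard := by
    have h1 := C.CI_large heS he2
    omega
  have hIy : C.CI e ⊆ fixV (C.lin y) :=
    C.fix_of_commute hyS fun j hj hc => (F.le hv hv1 hy hw (H.comm_z hj) hc).1
  have hIw : C.CI e ⊆ fixV (C.lin w) :=
    C.fix_of_commute hwS fun j hj hc => (F.le hv hv1 hy hw (H.comm_z hj) hc).2
  have hIe : C.CI e ⊆ fixV (C.lin e) := fun a ha => C.CI_fix heS ha
  by_cases heL : (C.lin e).1 ∈ Lgrp
  · have hfull : fixV (C.lin e) ⊆ fixV (C.lin y) :=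
      fix_half heL he16 (hCI.trans (Set.ncard_le_ncard (Set.subset_inter hIe hIy) (Set.toFinite _)))
    rcases good heL hse he1 hetv hsy hfull with h | h | ⟨p, h⟩ | ⟨x, hxL, hx3, hxe, hxy⟩
    · exact hy1 h
    · rw [h] at hewy
      exact hw1 (mul_eq_right.1 hewy.symm)
    · exact hytv p h
    · obtain ⟨X, hX, rfl, hXe⟩ := C.exists_lift heS he2 heim hxL hx3 hxe
      refine hxy ?_
      show C.lin X * C.lin y = C.lin y * C.lin X
      rw [← C.lin_mul X hX y hyS, ← C.lin_mul y hyS X hX,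
        (F.le hv hv1 hy hw (mem_Hv.1 hX).1 hXe.symm).1.eq]
  · -- one of the others is inner
    have hsmall : ∀ t, t ∈ Hv z u → t * t = 1 → C.lin t ≠ 1 → (∀ p, C.lin t ≠ tvA p) → (C.lin t).1 ∈ Lgrp →
        C.CI e ⊆ fixV (C.lin t) → False := by
      intro t ht ht2 ht1 httv htL hI
      have h1 := outer_inter heL htL
      rw [(shape_small (C.lin_sq ht ht2) ht1 httv).2] at h1
      have h2 := hCI.trans (Set.ncard_le_ncard (Set.subset_inter hIe hI) (Set.toFinite _))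
      nlinarith
    by_cases hyL : (C.lin y).1 ∈ Lgrp
    · exact hsmall y hyS hy2 hy1 hytv hyL hIy
    · by_cases hwL : (C.lin w).1 ∈ Lgrp
      · exact hsmall w hwS hw2 hw1 hwtv hwL hIw
      · exact heL (by rw [hewy]; exact outer_mul (C.lin w).2 (C.lin y).2 hwL hyL)

/-- Every conjugate of `z` commuting with `z` comes from `N`. -/
theorem fusion {g : G} (hy : Commute z (g * z * g⁻¹)) : g ∈ F.N := by
  obtain ⟨v, hv, hv1⟩ := H.exists_ne_one
  obtain ⟨g', he, hg'⟩ := F.adjust hv hv1 (Or.inl rfl) hy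
  have hN := F.mem_N hv hv1 (hg' z (Or.inl rfl)).1 (hg' v (Or.inr (Or.inl rfl))).1
  have hk : Commute z (g'⁻¹ * g) := by
    refine (comm_of_conj ?_).symm
    rw [show g'⁻¹ * g * z * (g'⁻¹ * g)⁻¹ = g'⁻¹ * (g * z * g⁻¹) * g' by group, ← he]
    group
  have := mul_mem hN (F.cent _ hk)
  rwa [mul_inv_cancel_left] at this

end Fus

end Cfsg.Agent.Fi23Two
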