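import Cfsg.Agent.Lib.Fi23Two.Quot
import Cfsg.Agent.Lib.Fi23Two.Fusion
import Cfsg.Agent.Lib.Transfer.Basic
import Cfsg.Agent.S0280
import Cfsg.Agent.S0283
import Cfsg.Agent.S1696
import Cfsg.Agent.S1714

/-!
The outcomes at an involution of the centre of the core: small, the centraliser of the four-group maps onto the
unitary group, or the Fischer group on 23 letters.
-/

set_option autoImplicit false
set_option linter.style.haveILetI false
set_option linter.unusedSectionVars false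

namespace Cfsg.Agent.Fi23Two

open Subgroup LargeExtra
open scoped commutatorElement
open Cfsg.Agent.U62Aut (AutX)
open Cfsg.Agent.Fi22Two (comm_of_conj conj_of_comm conj_comm comm_elem_eq)

universe u v

variable {G : Type u} [Group G] [Finite G] {z : G} {K : Type v} [Field K] [Fintype K]

theorem card_psu (hK : Fintype.card K = 4) : Nat.card (Cfsg.PSU 6 K 2) = 9196830720 := by
  have h := S0280.result (F := K) (q := 2) (by rw [hK]; norm_num) 6 (by norm_num)
  simp only [Finset.prod_range_succ, Finset.prod_range_zero] at h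
  norm_num [Nat.even_iff] at h
  omega

theorem simple_psu (hK : Fintype.card K = 4) : IsSimpleGroup (Cfsg.PSU 6 K 2) :=
  S0283.result (F := K) (q := 2) (by rw [hK]; norm_num) 6 (by norm_num) (by omega)

theorem SmallAt.conj {d g : G} (hg : Commute z g) (S : SmallAt z d) : SmallAt z (g * d * g⁻¹) := by
  obtain ⟨O, hodd, hO, hn, hdec⟩ := S
  have hback : ∀ {c : G}, Commute (g * d * g⁻¹) c → Commute d (g⁻¹ * c * g) := fun {c} hc => by
    have := conj_comm (g := g⁻¹) hc
    simpa [mul_assoc] using this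
  refine ⟨O.map (MulAut.conj g).toMonoidHom, ?_, ?_, ?_, ?_⟩
  · rwa [card_map_of_injective (f := (MulAut.conj g).toMonoidHom) (MulAut.conj g).injective]
  · rintro _ ⟨o, ho, rfl⟩
    exact conj_comm (hO o ho)
  · rintro c hc _ ⟨o, ho, rfl⟩
    refine ⟨_, hn _ (hback hc) o ho, ?_⟩
    show g * (g⁻¹ * c * g * o * (g⁻¹ * c * g)⁻¹) * g⁻¹ = c * (g * o * g⁻¹) * c⁻¹
    group
  · intro c hc
    obtain ⟨h, hh, o, ho, e⟩ := hdec _ (hback hc)
    refine ⟨g * h * g⁻¹, (hg.mul_right hh).mul_right hg.inv_right, g * o * g⁻¹, ⟨o, ho, rfl⟩, ?_⟩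
    rw [show g * h * g⁻¹ * (g * o * g⁻¹) = g * (h * o) * g⁻¹ by group, ← e]
    group

/-- The large outcome. -/
def Big (H : Hyp z) (K : Type v) [Field K] [Fintype K] : Prop :=
  (∀ v ∈ H.A, v ≠ 1 → ∀ g, Commute v g → ∀ a ∈ H.A, g * a * g⁻¹ ∈ H.A) ∧
  (∀ v ∈ H.A, v ≠ 1 → Nat.card ↥(centralizer ({v} : Set G)) = 2 * Nat.card ↥(centralizer (H.A : Set G))) ∧
  ∃ φ : ↥(centralizer (H.A : Set G)) →* Cfsg.PSU 6 K 2, Function.Surjective φ ∧ ∀ x, φ x = 1 ↔ (x : G) ∈ H.A

namespace Hyp

variable (H : Hyp z)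

include H

theorem card_Hv {v : G} (hv : v ∈ H.A) (hv1 : v ≠ 1) : Nat.card ↥(Hv z v) = 106168320 := by
  obtain ⟨χ, hχs, hχ1⟩ := H.quot v hv hv1
  have hk : χ.ker = (coreAt z).subgroupOf (Hv z v) := by
    ext g
    exact (hχ1 g).trans mem_subgroupOf.symm
  have hle : coreAt z ≤ Hv z v := fun j hj => mem_Hv.2 ⟨H.comm_z hj, H.A_central v hv j hj⟩
  rw [χ.ker.card_eq_card_quotient_mul_card_subgroup,
    Nat.card_congr (QuotientGroup.quotientKerEquivOfSurjective χ hχs).toEquiv, U62Aut.card_autX, hk,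
    Nat.card_congr (subgroupOfEquivOfLe hle).toEquiv, H.card_core]

/-- A subgroup of odd order normalised by the core and centralising `z` is trivial. -/
theorem odd_bot {O : Subgroup G} (hodd : Odd (Nat.card O)) (hz : ∀ o ∈ O, Commute z o)
    (hn : ∀ j ∈ coreAt z, ∀ o ∈ O, j * o * j⁻¹ ∈ O) {o : G} (ho : o ∈ O) : o = 1 := by
  have hcop : ∀ m, (Nat.card O).Coprime (2 ^ m) := fun m => (Nat.coprime_two_right.2 hodd).pow_right m
  have hJ : ∀ j ∈ coreAt z, Commute o j := by
    intro j hj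
    have h1 : ⁅o, j⁆ ∈ O := by
      rw [commutatorElement_def, show o * j * o⁻¹ * j⁻¹ = o * (j * o⁻¹ * j⁻¹) by group]
      exact mul_mem ho (hn j hj _ (inv_mem ho))
    obtain ⟨m, hm⟩ := (coreAt_isPGroup z) ⟨_, H.bracket_mem (hz o ho) hj⟩
    have hm' := congrArg Subtype.val hm
    rw [SubmonoidClass.coe_pow, OneMemClass.coe_one] at hm'
    exact commutatorElement_eq_one_iff_commute.1 (orderOf_eq_one_iff.1 (Nat.eq_one_of_dvd_coprimes (hcop m)
      (orderOf_dvd_natCard O h1) (orderOf_dvd_of_pow_eq_one hm')))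
  obtain ⟨m, hm⟩ := (coreAt_isPGroup z) ⟨o, H.self o (hz o ho) hJ⟩
  have hm' := congrArg Subtype.val hm
  rw [SubmonoidClass.coe_pow, OneMemClass.coe_one] at hm'
  exact orderOf_eq_one_iff.1 (Nat.eq_one_of_dvd_coprimes (hcop m) (orderOf_dvd_natCard O ho)
    (orderOf_dvd_of_pow_eq_one hm'))

/-- The third involution of the four-group. -/
theorem swap_move {v w : G} (hv : v ∈ H.A) (hv1 : v ≠ 1) (hw : w ∈ H.A) (hw1 : w ≠ 1) (hwv : w ≠ v) :
    ∃ s, Commute z s ∧ Commute v s ∧ s * w * s⁻¹ = v * w := by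
  obtain ⟨s, hs1, hs2, hs3⟩ := H.swap v hv hv1
  refine ⟨s, hs1, hs2, ?_⟩
  rcases H.three hv hw hv1 hw1 hwv.symm (H.A_norm s hs1 w hw) with e | e | e | e
  · exact absurd (conj_eq_one_iff.1 e) hw1
  · exact absurd (mul_left_cancel (mul_right_cancel (e.trans (conj_of_comm hs2.symm).symm))) hwv
  · exact absurd (comm_of_conj e).symm (hs3 w hw hw1 hwv)
  · exact e

end Hyp

namespace Pick

variable {H : Hyp z} {v d : G} (D : Pick H v d)

include D

/-- In the small case the centraliser modulo the odd subgroup is an image of the centraliser of `z` and `v`. -/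
theorem small_card {O : Subgroup G} (hO : ∀ o ∈ O, Commute d o)
    (hn : ∀ c, Commute d c → ∀ o ∈ O, c * o * c⁻¹ ∈ O) (hdec : ∀ c, Commute d c → ∃ h, Commute z h ∧ ∃ o ∈ O, c = h * o) :
    (O.subgroupOf (centralizer ({d} : Set G))).Normal ∧
      Nat.card (↥(centralizer ({d} : Set G)) ⧸ O.subgroupOf (centralizer ({d} : Set G))) ∣ Nat.card ↥(Hv z v) := by
  haveI hN : (O.subgroupOf (centralizer ({d} : Set G))).Normal :=
    ⟨fun o ho c => mem_subgroupOf.2 (hn _ (mem_centralizer_one.1 c.2).symm _ (mem_subgroupOf.1 ho))⟩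
  refine ⟨hN, ?_⟩
  refine card_dvd_of_surjective
    ((QuotientGroup.mk' (O.subgroupOf (centralizer ({d} : Set G)))).comp (inclusion D.Hv_le)) ?_
  intro q
  obtain ⟨c, rfl⟩ := QuotientGroup.mk'_surjective _ q
  obtain ⟨h, hzh, o, ho, e⟩ := hdec c (mem_centralizer_one.1 c.2).symm
  have hdh : Commute d h := by
    have := (mem_centralizer_one.1 c.2).symm
    have h1 : Commute d ((c : G) * o⁻¹) := Commute.mul_right this (hO o ho).inv_right
    rwa [e, mul_inv_cancel_right] at h1
  refine ⟨⟨h, D.mem_Hv_iff.2 ⟨hzh, hdh⟩⟩, QuotientGroup.eq.2 (mem_subgroupOf.2 ?_)⟩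
  show h⁻¹ * (c : G) ∈ O
  rwa [e, inv_mul_cancel_left]

/-- No subgroup of a small centraliser maps onto the unitary group with a small kernel. -/
theorem no_big (hK : Fintype.card K = 4) (S : SmallAt z d) {L : Subgroup G} (hL : ∀ l ∈ L, Commute d l)
    {φ : ↥L →* Cfsg.PSU 6 K 2} (hφ : Function.Surjective φ) (hker : ∀ x, φ x = 1 → (x : G) * x = 1) : False := by
  obtain ⟨O, hodd, hO, hn, hdec⟩ := S
  obtain ⟨hN, hdvd⟩ := D.small_card hO hn hdec
  haveI := hN
  haveI := simple_psu hK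
  haveI hnm : ((O.subgroupOf L).map φ).Normal :=
    Subgroup.Normal.map ⟨fun o ho l => mem_subgroupOf.2 (hn _ (hL _ l.2) _ (mem_subgroupOf.1 ho))⟩ φ hφ
  have hdvdO : Nat.card ↥((O.subgroupOf L).map φ) ∣ Nat.card O :=
    (card_map_dvd _ _).trans ((card_dvd_of_injective
      ((L.subtype.comp (O.subgroupOf L).subtype).codRestrict O fun x => mem_subgroupOf.1 x.2)
      fun a b h => Subtype.ext (Subtype.ext (congrArg (fun x : ↥O => (x : G)) h))))
  have hbot : (O.subgroupOf L).map φ = ⊥ := by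
    refine hnm.eq_bot_or_eq_top.resolve_right fun htop => ?_
    rw [htop, card_top, card_psu hK] at hdvdO
    obtain ⟨k, hk⟩ := hodd.of_dvd_nat hdvdO
    omega
  have hinj : Function.Injective ((QuotientGroup.mk' (O.subgroupOf (centralizer ({d} : Set G)))).comp
      (inclusion (show L ≤ centralizer ({d} : Set G) from fun l hl =>
        mem_centralizer_one.2 (hL l hl).eq.symm))) := by
    refine (injective_iff_map_eq_one _).2 fun x hx => Subtype.ext ?_
    rw [MonoidHom.comp_apply, QuotientGroup.mk'_apply, QuotientGroup.eq_one_iff, mem_subgroupOf] at hx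
    change (x : G) ∈ O at hx
    have h1 : φ x = 1 := by
      rw [← mem_bot, ← hbot]
      exact mem_map_of_mem φ (mem_subgroupOf.2 hx)
    have h2 : orderOf (x : G) ∣ 2 := orderOf_dvd_of_pow_eq_one (by rw [pow_two, hker x h1])
    exact orderOf_eq_one_iff.1 (Nat.eq_one_of_dvd_coprimes (Nat.coprime_two_right.2 hodd)
      (orderOf_dvd_natCard O hx) h2)
  have h7 := ((card_dvd_of_surjective φ hφ).trans (card_dvd_of_injective _ hinj)).trans hdvd
  rw [card_psu hK, H.card_Hv D.v_mem D.v_ne] at h7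
  norm_num at h7

/-- The map to the quotient. -/
abbrev π (_D : Pick H v d) : ↥(centralizer ({d} : Set G)) →* Quo d := QuotientGroup.mk' _

theorem π_eq {a b : ↥(centralizer ({d} : Set G))} : D.π a = D.π b ↔ (b : G) = a ∨ (b : G) = a * d := by
  show (QuotientGroup.mk a : Quo d) = QuotientGroup.mk b ↔ _
  rw [QuotientGroup.eq, mem_subgroupOf]
  show (a : G)⁻¹ * (b : G) ∈ zpowers d ↔ _
  refine ⟨fun hm => (mem_zpowers_two D.sq hm).imp (fun e => (inv_mul_eq_one.1 e).symm) inv_mul_eq_iff_eq_mul.1, ?_⟩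
  rintro (e | e) <;> rw [e]
  · rw [inv_mul_cancel]; exact one_mem _
  · rw [inv_mul_cancel_left]; exact mem_zpowers d

theorem π_one {a : ↥(centralizer ({d} : Set G))} : D.π a = 1 ↔ (a : G) = 1 ∨ (a : G) = d := by
  rw [← map_one D.π, eq_comm, D.π_eq]
  simp

/-- The outcome with odd core. -/
theorem small_of_sup {E : Subgroup G} (X : Extra H E)
    (h : centralizer ({D.zq} : Set (Quo d)) ⊔ Cfsg.oddCore (Quo d) = ⊤) : SmallAt z d := by
  haveI hOn : (Cfsg.oddCore (Quo d)).Normal := Cfsg.Agent.FittingCores.pPrimeCore_normal 2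
  have hco : (Nat.card (Cfsg.oddCore (Quo d))).Coprime 2 :=
    Cfsg.Agent.FittingCores.pPrimeCore_coprime (G := Quo d) 2
  set M := (Cfsg.oddCore (Quo d)).comap D.π with hM
  haveI : M.Normal := Subgroup.Normal.comap hOn D.π
  set f := D.π.subgroupComap (Cfsg.oddCore (Quo d)) with hf
  have hfs : Function.Surjective f :=
    D.π.subgroupComap_surjective_of_surjective _ (QuotientGroup.mk'_surjective _)
  have hdC : d ∈ centralizer ({d} : Set G) := mem_centralizer_one.2 rfl
  have hdM : (⟨d, hdC⟩ : ↥(centralizer ({d} : Set G))) ∈ M := by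
    rw [hM, mem_comap, D.π_one.2 (Or.inr rfl)]
    exact one_mem _
  have hker : ∀ {m : ↥M}, m ∈ f.ker ↔ ((m : ↥(centralizer ({d} : Set G))) : G) = 1 ∨
      ((m : ↥(centralizer ({d} : Set G))) : G) = d := fun {m} => by
    rw [MonoidHom.mem_ker, ← D.π_one]
    exact Subtype.ext_iff
  have hk2 : Nat.card f.ker = 2 := by
    have e : f.ker = zpowers (⟨⟨d, hdC⟩, hdM⟩ : ↥M) := by
      refine le_antisymm (fun m hm => ?_) (zpowers_le.2 (hker.2 (Or.inr rfl)))
      rcases hker.1 hm with e | e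
      · rw [show m = 1 from Subtype.ext (Subtype.ext e)]
        exact one_mem _
      · rw [show m = ⟨⟨d, hdC⟩, hdM⟩ from Subtype.ext (Subtype.ext e)]
        exact mem_zpowers _
    rw [e, Nat.card_zpowers, orderOf_eq_prime (p := 2)]
    · exact Subtype.ext (Subtype.ext ((pow_two d).trans D.sq))
    · exact fun e => D.ne_one (congrArg (fun x : ↥M => ((x : ↥(centralizer ({d} : Set G))) : G)) e)
  have hidx : f.ker.index = Nat.card (Cfsg.oddCore (Quo d)) := by
    rw [index_eq_card, Nat.card_congr (QuotientGroup.quotientKerEquivOfSurjective f hfs).toEquiv]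
  obtain ⟨T, hT⟩ := exists_right_complement'_of_coprime (N := f.ker) (by rw [hk2, hidx]; exact hco.symm)
  have hTc : Odd (Nat.card T) := by
    rw [← hT.symm.index_eq_card, hidx]
    exact Nat.coprime_two_right.1 hco
  set i : ↥M →* G := (centralizer ({d} : Set G)).subtype.comp M.subtype with hi
  have hiinj : Function.Injective i := fun a b e => Subtype.ext (Subtype.ext e)
  have hdcomp : ∀ m : ↥M, ∃ n ∈ f.ker, ∃ t ∈ T, m = n * t := fun m => by
    obtain ⟨⟨⟨n, hn⟩, ⟨t, ht⟩⟩, e⟩ := hT.2 m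
    exact ⟨n, hn, t, ht, e.symm⟩
  have hTd : ∀ t ∈ T, i t ≠ d := fun t ht e => by
    have h2 : orderOf t = 2 := by
      rw [← orderOf_injective i hiinj, e]
      exact orderOf_eq_prime (by rw [pow_two, D.sq]) D.ne_one
    have h3 := hTc.of_dvd_nat (orderOf_dvd_natCard T ht)
    rw [h2] at h3
    norm_num at h3
  refine ⟨T.map i, by rwa [card_map_of_injective hiinj], ?_, ?_, ?_⟩
  · rintro _ ⟨t, -, rfl⟩
    exact (mem_centralizer_one.1 (t : ↥(centralizer ({d} : Set G))).2).symm
  · rintro c hc _ ⟨t, ht, rfl⟩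
    set cC : ↥(centralizer ({d} : Set G)) := ⟨c, mem_centralizer_one.2 hc.eq.symm⟩
    have hm : cC * (t : ↥(centralizer ({d} : Set G))) * cC⁻¹ ∈ M :=
      (inferInstance : M.Normal).conj_mem _ t.2 _
    obtain ⟨n, hn, t', ht', e⟩ := hdcomp ⟨_, hm⟩
    have e' : c * i t * c⁻¹ = i n * i t' := (congrArg i e).trans (map_mul i n t')
    rcases hker.1 hn with en | en
    · exact ⟨t', ht', by rw [e', show i n = 1 from en, one_mul]⟩
    · exfalso
      have hodd : Odd (orderOf t) := hTc.of_dvd_nat (orderOf_dvd_natCard T ht)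
      have hodd' : Odd (orderOf t') := hTc.of_dvd_nat (orderOf_dvd_natCard T ht')
      have h1 : (c * i t * c⁻¹) ^ (orderOf t * orderOf t') = 1 := by
        rw [conj_pow, ← map_pow, pow_mul, pow_orderOf_eq_one, one_pow, map_one, mul_one, mul_inv_cancel]
      have hcm : Commute (i n) (i t') := by
        rw [show i n = d from en]
        exact (mem_centralizer_one.1 (t' : ↥(centralizer ({d} : Set G))).2).symm
      rw [e', hcm.mul_pow, show i n = d from en, ← map_pow i t', mul_comm (orderOf t), pow_mul t',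
        pow_orderOf_eq_one, one_pow, map_one, mul_one] at h1
      have h2 := (hodd'.mul hodd).of_dvd_nat (orderOf_dvd_of_pow_eq_one h1)
      rw [orderOf_eq_prime (by rw [pow_two, D.sq]) D.ne_one] at h2
      norm_num at h2
  · intro c hc
    set cC : ↥(centralizer ({d} : Set G)) := ⟨c, mem_centralizer_one.2 hc.eq.symm⟩
    have hmem : D.π cC ∈ centralizer ({D.zq} : Set (Quo d)) ⊔ Cfsg.oddCore (Quo d) := h ▸ mem_top _
    obtain ⟨q, hq, o, ho, e⟩ := Subgroup.mem_sup_of_normal_right.1 hmem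
    obtain ⟨g, hg⟩ := D.ψ_surj X ⟨q, hq⟩
    have hm : (inclusion D.Hv_le g)⁻¹ * cC ∈ M := by
      rw [hM, mem_comap, map_mul, map_inv, ← e, show D.π (inclusion D.Hv_le g) = q from congrArg Subtype.val hg,
        inv_mul_cancel_left]
      exact ho
    obtain ⟨n, hn, t, ht, e'⟩ := hdcomp ⟨_, hm⟩
    have e2 : (g : G)⁻¹ * c = i n * i t := (congrArg i e').trans (map_mul i n t)
    refine ⟨g * i n, (mem_Hv.1 g.2).1.mul_right ?_, i t, mem_map_of_mem i ht, ?_⟩
    · rcases hker.1 hn with en | en <;> rw [show i n = _ from en]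
      exacts [Commute.one_right z, D.zd]
    · rw [mul_assoc, ← e2, mul_inv_cancel_left]

/-- An element of the centre of the centraliser. -/
theorem mem_commutator {E : Subgroup G} (X : Extra H E) (hdC : d ∈ centralizer ({d} : Set G)) :
    (⟨d, hdC⟩ : ↥(centralizer ({d} : Set G))) ∈ commutator ↥(centralizer ({d} : Set G)) := by
  have key : ∀ a b : G, a ∈ Hv z v → b ∈ Hv z v → ∀ hc : ⁅a, b⁆ ∈ centralizer ({d} : Set G),
      (⟨⁅a, b⁆, hc⟩ : ↥(centralizer ({d} : Set G))) ∈ commutator ↥(centralizer ({d} : Set G)) := by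
    intro a b ha hb hc
    have h := commutator_mem_commutator (H₁ := (⊤ : Subgroup ↥(centralizer ({d} : Set G)))) (H₂ := ⊤)
      (mem_top ⟨a, D.Hv_le ha⟩) (mem_top ⟨b, D.Hv_le hb⟩)
    rw [← commutator_def] at h
    convert h using 1
    exact Subtype.ext rfl
  obtain ⟨w, hw, hw1, hwv⟩ : ∃ w ∈ H.A, w ≠ 1 ∧ w ≠ v :=
    ⟨_, H.A_norm _ H.c_z v D.v_mem, fun e => D.v_ne (conj_eq_one_iff.1 e), H.c_move D.v_mem D.v_ne⟩
  obtain ⟨s, hs1, hs2, hs3⟩ := H.swap_move D.v_mem D.v_ne hw hw1 hwv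
  have hv : ⁅s, w⁆ = v := by rw [commutatorElement_def, hs3, mul_inv_cancel_right]
  have hvC : v ∈ centralizer ({d} : Set G) :=
    D.Hv_le (mem_Hv.2 ⟨H.comm_zA D.v_mem, Commute.refl v⟩)
  have h1 : (⟨v, hvC⟩ : ↥(centralizer ({d} : Set G))) ∈ commutator ↥(centralizer ({d} : Set G)) := by
    have := key s w (mem_Hv.2 ⟨hs1, hs2⟩) (mem_Hv.2 ⟨H.comm_zA hw, H.A_central v D.v_mem w (H.A_le hw)⟩)
      (hv.symm ▸ hvC)
    simpa only [hv] using this
  rcases D.eq with rfl | e
  · exact h1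
  · obtain ⟨a, ha, b, hb, hab⟩ := X.exists_pair
    have hzC : z ∈ centralizer ({d} : Set G) := mem_centralizer_one.2 D.zd.eq
    have hJ : ∀ j ∈ coreAt z, j ∈ Hv z v := fun j hj => mem_Hv.2 ⟨H.comm_z hj, H.A_central v D.v_mem j hj⟩
    have h2 := key a b (hJ a (X.le ha)) (hJ b (X.le hb)) (hab.symm ▸ hzC)
    simp only [hab] at h2
    convert mul_mem h1 h2 using 1
    exact Subtype.ext e

/-- The outcome with the Fischer group on 22 letters. -/
theorem fi23 {E : Subgroup G} (X : Extra H E) (h : Cfsg.Spor.IsoFi22 (Quo d)) : Cfsg.Spor.IsoFi23 G := by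
  obtain ⟨e⟩ := h
  haveI hsF : IsSimpleGroup Cfsg.Spor.Fi22 := S1696.result.1
  haveI hs : IsSimpleGroup (Quo d) := (MulEquiv.isSimpleGroup_congr e).2 hsF
  have hnc : ¬ ∀ a b : Quo d, a * b = b * a := by
    intro hc
    letI : CommGroup (Quo d) := { (inferInstance : Group (Quo d)) with mul_comm := hc }
    have h1 := IsSimpleGroup.prime_card (α := Quo d)
    rw [Nat.card_congr e.toEquiv, S1696.result.2] at h1
    norm_num at h1
  have hQ : commutator (Quo d) = ⊤ := by
    refine ((inferInstance : (commutator (Quo d)).Normal).eq_bot_or_eq_top).resolve_left fun hb => hnc fun a b => ?_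
    have hab : ⁅a, b⁆ ∈ commutator (Quo d) := commutator_mem_commutator (mem_top a) (mem_top b)
    rw [hb, mem_bot] at hab
    exact commutatorElement_eq_one_iff_mul_comm.1 hab
  have hπs : Function.Surjective D.π := QuotientGroup.mk'_surjective _
  have hdC : d ∈ centralizer ({d} : Set G) := mem_centralizer_one.2 rfl
  have hcen : center ↥(centralizer ({d} : Set G)) = (zpowers d).subgroupOf (centralizer ({d} : Set G)) := by
    refine le_antisymm (fun a ha => ?_) fun a ha => mem_center_iff.2 fun b => Subtype.ext ?_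
    · have h1 : D.π a ∈ center (Quo d) := mem_center_iff.2 fun q => by
        obtain ⟨b, rfl⟩ := hπs q
        rw [← map_mul, ← map_mul, mem_center_iff.1 ha b]
      have h0 : center (Quo d) = ⊥ :=
        ((inferInstance : (center (Quo d)).Normal).eq_bot_or_eq_top).resolve_right fun ht => hnc fun x y =>
          mem_center_iff.1 (ht ▸ mem_top y) x
      rw [h0, mem_bot] at h1
      exact (QuotientGroup.eq_one_iff a).1 h1
    · rcases mem_zpowers_two D.sq (mem_subgroupOf.1 ha) with e' | e' <;>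
        show (b : G) * (a : G) = a * b <;> rw [e']
      · rw [mul_one, one_mul]
      · exact mem_centralizer_one.1 b.2
  have hperf : commutator ↥(centralizer ({d} : Set G)) = ⊤ := by
    refine eq_top_iff.2 fun a _ => ?_
    have h1 : D.π a ∈ (commutator ↥(centralizer ({d} : Set G))).map D.π := by
      rw [commutator_def, map_commutator, map_top_of_surjective _ hπs, ← commutator_def, hQ]
      exact mem_top _
    obtain ⟨b, hb, eb⟩ := h1
    rcases D.π_eq.1 eb with e' | e'
    · rw [show a = b from Subtype.ext e']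
      exact hb
    · rw [show a = b * ⟨d, hdC⟩ from Subtype.ext e']
      exact mul_mem hb (D.mem_commutator X hdC)
  have hq : Cfsg.IsQuasisimple ↥(centralizer ({d} : Set G)) :=
    ⟨⟨hperf⟩, (MulEquiv.isSimpleGroup_congr (QuotientGroup.quotientMulEquivOfEq hcen)).2 hs⟩
  refine S1714.result d (orderOf_eq_prime (by rw [pow_two, D.sq]) D.ne_one) hq ⟨e⟩ ⟨H.c, ?_, ?_⟩
  · exact mem_centralizer_one.2 (H.ZJ_central (H.conj_ZJ H.c_z D.mem_ZJ) D.mem_core).eq
  · rcases D.eq with rfl | rfl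
    · exact H.c_move D.v_mem D.v_ne
    · rw [show H.c * (v * z) * H.c⁻¹ = H.c * v * H.c⁻¹ * (H.c * z * H.c⁻¹) by group, conj_of_comm H.c_z.symm]
      exact fun e' => H.c_move D.v_mem D.v_ne (mul_right_cancel e')

/-- The outcome with a normal involution. -/
theorem norm_case (hK : Fintype.card K = 4) {E : Subgroup G} (X : Extra H E) {z₁ : Quo d} (ho : orderOf z₁ = 2)
    (hnot : z₁ ∉ zpowers D.zq) {h₁ : z₁ ∈ centralizer ({D.zq} : Set (Quo d))}
    (hP : (⟨z₁, h₁⟩ : ↥(centralizer ({D.zq} : Set (Quo d)))) ∈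
      Cfsg.pCore 2 ↥(centralizer ({D.zq} : Set (Quo d))))
    (hcen : ∀ j ∈ Cfsg.pCore 2 ↥(centralizer ({D.zq} : Set (Quo d))), j * ⟨z₁, h₁⟩ = ⟨z₁, h₁⟩ * j)
    (hzn : (zpowers z₁).Normal) {G₀ : Subgroup (Quo d)} (hz₁ : z₁ ∈ G₀) (hG₀ : G₀.index = 2)
    [((zpowers z₁).subgroupOf G₀).Normal]
    (e : (↥G₀ ⧸ (zpowers z₁).subgroupOf G₀) ≃* Cfsg.PSU 6 K 2) :
    d = v ∧ ∃ w ∈ H.A, w ≠ 1 ∧ w ≠ v ∧ ∃ f, (f = w ∨ f = w * z) ∧
      (∀ g, Commute d g → g * f * g⁻¹ = f ∨ g * f * g⁻¹ = f * d) ∧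
      ∃ L : Subgroup G, (∀ l ∈ L, Commute d l ∧ Commute f l) ∧
        Nat.card ↥(centralizer ({d} : Set G)) = 2 * Nat.card L ∧
        ∃ φ : ↥L →* Cfsg.PSU 6 K 2, Function.Surjective φ ∧
          ∀ x, φ x = 1 ↔ (x : G) = 1 ∨ (x : G) = d ∨ (x : G) = f ∨ (x : G) = f * d := by
  have hz2 : z₁ * z₁ = 1 := by rw [← pow_two, ← ho, pow_orderOf_eq_one]
  rw [D.core_eq X] at hP hcen
  obtain ⟨g, hg, hge⟩ := hP
  have hgJ : (g : G) ∈ coreAt z := mem_subgroupOf.1 hg
  have hgd : D.π (inclusion D.Hv_le g) = z₁ := congrArg Subtype.val hge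
  have hgZ : (g : G) ∈ ZJ H := by
    refine H.center _ hgJ fun j hj => ?_
    have hjH : j ∈ Hv z v := mem_Hv.2 ⟨H.comm_z hj, H.A_central v D.v_mem j hj⟩
    have h1 := hcen (D.ψ ⟨j, hjH⟩) (mem_map_of_mem _ (mem_subgroupOf.2 hj))
    rw [← hge, ← map_mul, ← map_mul] at h1
    rcases D.ψ_eq.1 h1 with e' | e'
    · exact e'
    · exfalso
      change (g : G) * j = j * g * d at e'
      rcases H.conj_cases hgJ hj with e'' | e'' <;>
        rw [e', show j * (g : G) * d * (g : G)⁻¹ = j * ((g : G) * d * (g : G)⁻¹) by group,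
          conj_of_comm (H.ZJ_central D.mem_ZJ hgJ).symm] at e''
      exacts [D.ne_one (mul_eq_left.1 e''), D.ne_z (mul_left_cancel e'')]
  obtain ⟨w, hw, hw1, hwv, f, hf, hfd⟩ : ∃ w ∈ H.A, w ≠ 1 ∧ w ≠ v ∧ ∃ f, (f = w ∨ f = w * z) ∧
      ((g : G) = f ∨ (g : G) = f * d) := by
    obtain ⟨α, hα, eα⟩ := H.mem_ZJ.1 hgZ
    by_cases hαv : α = 1 ∨ α = v
    · exfalso
      have h1 : (g : G) = 1 ∨ (g : G) = d ∨ (g : G) = z ∨ (g : G) = z * d := by
        rcases hαv with rfl | rfl <;> rcases eα with eα | eα <;> rcases D.eq with ed | ed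
        · exact Or.inl eα
        · exact Or.inl eα
        · exact Or.inr (Or.inr (Or.inl (eα.trans (one_mul z))))
        · exact Or.inr (Or.inr (Or.inl (eα.trans (one_mul z))))
        · exact Or.inr (Or.inl (eα.trans ed.symm))
        · exact Or.inr (Or.inr (Or.inr (by
            rw [eα, ed, ← mul_assoc, (H.comm_zA hα).eq, mul_assoc, H.z2, mul_one])))
        · exact Or.inr (Or.inr (Or.inr (by rw [eα, ed]; exact (H.comm_zA hα).eq.symm)))
        · exact Or.inr (Or.inl (eα.trans ed.symm))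
      rcases h1 with e' | e' | e' | e'
      · have h2 : z₁ = 1 := hgd.symm.trans (D.π_one.2 (Or.inl e'))
        rw [h2, orderOf_one] at ho
        omega
      · have h2 : z₁ = 1 := hgd.symm.trans (D.π_one.2 (Or.inr e'))
        rw [h2, orderOf_one] at ho
        omega
      all_goals refine hnot ?_
      all_goals rw [← hgd]
      · rw [show D.π (inclusion D.Hv_le g) = D.zq from congrArg D.π (Subtype.ext e')]
        exact mem_zpowers _
      · rw [show D.π (inclusion D.Hv_le g) = D.zq from (D.π_eq.2 (Or.inr e')).symm]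
        exact mem_zpowers _
    simp only [not_or] at hαv
    exact ⟨α, hα, hαv.1, hαv.2, g, eα, Or.inl rfl⟩
  have hfg : f ∈ ZJ H := H.mem_ZJ.2 ⟨w, hw, hf⟩
  have hfC : f ∈ centralizer ({d} : Set G) :=
    mem_centralizer_one.2 (H.ZJ_central hfg D.mem_core).eq
  have hπf : D.π ⟨f, hfC⟩ = z₁ := by
    rw [← hgd]
    exact D.π_eq.2 hfd
  have hfix : ∀ c, Commute d c → c * f * c⁻¹ = f ∨ c * f * c⁻¹ = f * d := by
    intro c hc
    set cC : ↥(centralizer ({d} : Set G)) := ⟨c, mem_centralizer_one.2 hc.eq.symm⟩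
    have h1 : D.π (cC * ⟨f, hfC⟩ * cC⁻¹) ∈ zpowers z₁ := by
      rw [map_mul, map_mul, map_inv, hπf]
      exact hzn.conj_mem _ (mem_zpowers z₁) _
    rcases mem_zpowers_two hz2 h1 with e' | e'
    · exfalso
      rw [map_mul, map_mul, map_inv, hπf, conj_eq_one_iff] at e'
      rw [e', orderOf_one] at ho
      omega
    · exact D.π_eq.1 (hπf.trans e'.symm)
  have hdv : d = v := by
    refine D.eq.resolve_right fun hd => ?_
    obtain ⟨s, hs1, hs2, hs3⟩ := H.swap_move D.v_mem D.v_ne hw hw1 hwv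
    have hsd : Commute d s := hd ▸ hs2.mul_left hs1
    have hsf : s * f * s⁻¹ = f * v := by
      rcases hf with rfl | rfl
      · rw [hs3]
        exact (H.A_central v D.v_mem f (H.A_le hw)).eq
      · rw [show s * (w * z) * s⁻¹ = s * w * s⁻¹ * (s * z * s⁻¹) by group, hs3, conj_of_comm hs1.symm,
          (H.A_central v D.v_mem w (H.A_le hw)).eq, mul_assoc, ← (H.comm_zA D.v_mem).eq, ← mul_assoc]
    rcases hfix s hsd with e' | e' <;> rw [hsf] at e'
    · exact D.v_ne (mul_eq_left.1 e')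
    · rw [hd] at e'
      exact H.z_ne (mul_eq_left.1 (mul_left_cancel e').symm)
  refine ⟨hdv, w, hw, hw1, hwv, f, hf, hfix, (G₀.comap D.π).map (centralizer ({d} : Set G)).subtype, ?_⟩
  set L₀ := G₀.comap D.π with hL₀
  set φ₀ : ↥L₀ →* Cfsg.PSU 6 K 2 :=
    e.toMonoidHom.comp ((QuotientGroup.mk' _).comp (D.π.subgroupComap G₀)) with hφ₀
  have hφ₀s : Function.Surjective φ₀ := e.surjective.comp ((QuotientGroup.mk'_surjective _).comp
    (D.π.subgroupComap_surjective_of_surjective _ (QuotientGroup.mk'_surjective _)))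
  have hker : ∀ x : ↥L₀, φ₀ x = 1 ↔ ((x : ↥(centralizer ({d} : Set G))) : G) = 1 ∨
      ((x : ↥(centralizer ({d} : Set G))) : G) = d ∨ ((x : ↥(centralizer ({d} : Set G))) : G) = f ∨
      ((x : ↥(centralizer ({d} : Set G))) : G) = f * d := by
    intro x
    have h1 : φ₀ x = 1 ↔ D.π x ∈ zpowers z₁ := by
      rw [hφ₀]
      show e ((QuotientGroup.mk' _) (D.π.subgroupComap G₀ x)) = 1 ↔ _
      rw [EmbeddingLike.map_eq_one_iff, QuotientGroup.mk'_apply, QuotientGroup.eq_one_iff, mem_subgroupOf]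
      rfl
    rw [h1]
    constructor
    · intro h
      rcases mem_zpowers_two hz2 h with e' | e'
      · exact (D.π_one.1 e').elim Or.inl fun h' => Or.inr (Or.inl h')
      · rcases D.π_eq.1 (hπf.trans e'.symm) with h' | h'
        exacts [Or.inr (Or.inr (Or.inl h')), Or.inr (Or.inr (Or.inr h'))]
    · rintro (h | h | h | h)
      · rw [D.π_one.2 (Or.inl h)]; exact one_mem _
      · rw [D.π_one.2 (Or.inr h)]; exact one_mem _
      · rw [(D.π_eq.2 (Or.inl h)).symm.trans hπf]; exact mem_zpowers _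
      · rw [(D.π_eq.2 (Or.inr h)).symm.trans hπf]; exact mem_zpowers _
  -- everything in the subgroup of index two fixes the involution
  set F₀ : Subgroup ↥L₀ :=
    (centralizer ({f} : Set G)).comap ((centralizer ({d} : Set G)).subtype.comp L₀.subtype) with hF₀
  have hF : ∀ x : ↥L₀, Commute f ((x : ↥(centralizer ({d} : Set G))) : G) := by
    haveI := simple_psu hK
    by_contra hne
    push Not at hne
    obtain ⟨x, hx⟩ := hne
    have hxF : x ∉ F₀ := fun h => hx (mem_centralizer_one.1 h).symm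
    have hidx : ∀ y, y ∉ F₀ → y * x ∈ F₀ := by
      intro y hy
      refine mem_centralizer_one.2 (comm_of_conj ?_).eq
      have hxm := (hfix _ (mem_centralizer_one.1 (x : ↥(centralizer ({d} : Set G))).2).symm).resolve_left
        fun h => hx (comm_of_conj h).symm
      have hyd : Commute d ((y : ↥(centralizer ({d} : Set G))) : G) :=
        (mem_centralizer_one.1 (y : ↥(centralizer ({d} : Set G))).2).symm
      have hym := (hfix _ hyd).resolve_left fun h => hy (mem_centralizer_one.2 (comm_of_conj h).eq)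
      show (y : G) * (x : G) * f * ((y : G) * (x : G))⁻¹ = f
      rw [show (y : G) * (x : G) * f * ((y : G) * (x : G))⁻¹ =
        (y : G) * ((x : G) * f * (x : G)⁻¹) * (y : G)⁻¹ by group, hxm,
        show (y : G) * (f * d) * (y : G)⁻¹ = (y : G) * f * (y : G)⁻¹ * ((y : G) * d * (y : G)⁻¹) by group,
        hym, conj_of_comm hyd.symm, mul_assoc, D.sq, mul_one]
    haveI hF0n : F₀.Normal := normal_of_index_eq_two (index_eq_two_iff.2 ⟨x, fun y => by
      by_cases hy : y ∈ F₀
      · exact Or.inr ⟨hy, fun h => hxF ((F₀.mul_mem_cancel_left hy).1 h)⟩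
      · exact Or.inl ⟨hidx y hy, hy⟩⟩)
    have hkF : φ₀.ker ≤ F₀ := fun y hy => by
      have := (hker y).1 hy
      refine mem_centralizer_one.2 ?_
      rcases this with h | h | h | h <;> show (y : G) * f = f * (y : G) <;> rw [h]
      · rw [one_mul, mul_one]
      · exact (H.ZJ_central D.mem_ZJ (H.ZJ_mem hfg)).eq
      · rw [mul_assoc f d f, (H.ZJ_central D.mem_ZJ (H.ZJ_mem hfg)).eq]
    rcases (hF0n.map φ₀ hφ₀s).eq_bot_or_eq_top with h | h
    · -- the image of `F₀` is trivial: the unitary group has order two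
      have h2 : (F₀.map φ₀).index ∣ 2 := by
        have h3 := F₀.index_map_dvd (f := φ₀) hφ₀s
        rwa [index_eq_two_iff.2 ⟨x, fun y => by
          by_cases hy : y ∈ F₀
          · exact Or.inr ⟨hy, fun h => hxF ((F₀.mul_mem_cancel_left hy).1 h)⟩
          · exact Or.inl ⟨hidx y hy, hy⟩⟩] at h3
      rw [h, index_bot, card_psu hK] at h2
      norm_num at h2
    · refine hxF ?_
      obtain ⟨y, hy, hye⟩ : φ₀ x ∈ F₀.map φ₀ := h ▸ mem_top _
      have := hkF (show y⁻¹ * x ∈ φ₀.ker by rw [MonoidHom.mem_ker, map_mul, map_inv, hye, inv_mul_cancel])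
      rwa [F₀.mul_mem_cancel_left (inv_mem hy)] at this
  refine ⟨?_, ?_, ?_⟩
  · rintro _ ⟨l, hl, rfl⟩
    exact ⟨(mem_centralizer_one.1 l.2).symm, hF ⟨l, hl⟩⟩
  · rw [card_map_of_injective (centralizer ({d} : Set G)).subtype_injective, ← L₀.card_mul_index,
      index_comap_of_surjective _ (QuotientGroup.mk'_surjective _), hG₀, mul_comm]
  · let ε : ↥L₀ ≃* ↥(L₀.map (centralizer ({d} : Set G)).subtype) :=
      equivMapOfInjective L₀ _ (centralizer ({d} : Set G)).subtype_injective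
    refine ⟨φ₀.comp ε.symm.toMonoidHom, hφ₀s.comp ε.symm.surjective, fun x => ?_⟩
    obtain ⟨y, rfl⟩ := ε.surjective x
    rw [MonoidHom.comp_apply, MulEquiv.coe_toMonoidHom, ε.symm_apply_apply, hker]
    rfl

end Pick

namespace Hyp

variable (H : Hyp z)

include H

/-- The outcomes at all involutions of the centre of the core. -/
theorem trichotomy (hK : Fintype.card K = 4) (T : Thm22.{u, v} K) {E : Subgroup G} (X : Extra H E) :
    Cfsg.Spor.IsoFi23 G ∨ ((∀ v ∈ H.A, v ≠ 1 → SmallAt z (v * z)) ∧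
      ((∀ v ∈ H.A, v ≠ 1 → SmallAt z v) ∨ Big H K)) := by
  by_cases h23 : Cfsg.Spor.IsoFi23 G
  · exact Or.inl h23
  refine Or.inr ?_
  have hsmall : ∀ v ∈ H.A, v ≠ 1 → SmallAt z (v * z) := by
    intro v hv hv1
    have D : Pick H v (v * z) := ⟨hv, hv1, Or.inr rfl⟩
    rcases D.out T X with h | ⟨z₁, ho, hnot, ⟨h₁, hP, hcen⟩, hn, G₀, hz₁, hG₀, hn', ⟨e⟩⟩ | h
    · exact D.small_of_sup X h
    · haveI := hn'
      exact absurd (mul_eq_left.1 (D.norm_case hK X ho hnot hP hcen hn hz₁ hG₀ e).1) H.z_ne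
    · exact absurd (D.fi23 X h) h23
  refine ⟨hsmall, ?_⟩
  obtain ⟨v, hv, hv1⟩ := H.exists_ne_one
  have D : Pick H v v := ⟨hv, hv1, Or.inl rfl⟩
  rcases D.out T X with h | ⟨z₁, ho, hnot, ⟨h₁, hP, hcen⟩, hn, G₀, hz₁, hG₀, hn', ⟨e⟩⟩ | h
  · refine Or.inl fun u hu hu1 => ?_
    obtain ⟨g, hg, rfl⟩ := H.c_trans hv hu hv1 hu1
    exact (D.small_of_sup X h).conj hg
  · haveI := hn'
    obtain ⟨-, w, hw, hw1, hwv, f, hf, hfix, L, hL, hLc, φ, hφ, hφ1⟩ :=
      D.norm_case hK X ho hnot hP hcen hn hz₁ hG₀ e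
    rcases hf with rfl | rfl
    swap
    · exfalso
      have D' : Pick H w (w * z) := ⟨hw, hw1, Or.inr rfl⟩
      refine D'.no_big hK (hsmall w hw hw1) (fun l hl => (hL l hl).2) hφ fun x hx => ?_
      rcases (hφ1 x).1 hx with h' | h' | h' | h' <;> rw [h']
      exacts [one_mul 1, H.A_sq v hv, D'.sq,
        H.ZJ_sq (H.ZJ_mul D'.mem_ZJ (H.A_le_ZJ hv))]
    have hLA : L ≤ centralizer (H.A : Set G) := fun l hl => mem_centralizer_iff.2 fun a ha =>
      (H.comm_A hv hw hv1 hw1 hwv.symm (hL l hl).1 (hL l hl).2 ha).eq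
    have hAC : centralizer (H.A : Set G) ≤ centralizer ({v} : Set G) := centralizer_le (by simpa using hv)
    have heq : L = centralizer (H.A : Set G) := by
      obtain ⟨s, hs1, hs2, hs3⟩ := H.swap v hv hv1
      have hlt : centralizer (H.A : Set G) < centralizer ({v} : Set G) := lt_of_le_of_ne hAC fun h' =>
        hs3 f hw hw1 hwv (mem_centralizer_iff.1 (h' ▸ mem_centralizer_one.2 hs2.eq.symm) f hw)
      obtain ⟨a, ha⟩ := card_dvd_of_le hLA
      obtain ⟨b, hb⟩ := card_dvd_of_le hAC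
      have hpos : 0 < Nat.card L := Nat.card_pos
      have hb2 : 2 ≤ b := by
        rcases Nat.lt_or_ge b 2 with hb' | hb'
        · exfalso
          have hlt' := Set.ncard_lt_ncard (SetLike.coe_ssubset_coe.2 hlt) (Set.toFinite _)
          rw [← Nat.card_coe_set_eq, ← Nat.card_coe_set_eq] at hlt'
          simp only [SetLike.coe_sort_coe] at hlt'
          rw [hb] at hlt'
          interval_cases b <;> omega
        · exact hb'
      refine Subgroup.eq_of_le_of_card_ge hLA ?_
      rw [hb, ha, mul_assoc] at hLc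
      have hab : a * b = 2 := by
        rw [mul_comm 2] at hLc
        exact Nat.eq_of_mul_eq_mul_left hpos hLc
      rw [ha, show a = 1 by nlinarith, mul_one]
    have hnorm : ∀ g, Commute v g → ∀ a ∈ H.A, g * a * g⁻¹ ∈ H.A := by
      intro g hg a ha
      have hgv : g * v * g⁻¹ = v := conj_of_comm hg.symm
      have hgw : g * f * g⁻¹ ∈ H.A := by
        rcases hfix g hg with e' | e' <;> rw [e']
        exacts [hw, mul_mem hw hv]
      rcases H.three hv hw hv1 hw1 hwv.symm ha with rfl | rfl | rfl | rfl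
      · rw [mul_one, mul_inv_cancel]; exact one_mem _
      · rw [hgv]; exact hv
      · exact hgw
      · rw [show g * (v * f) * g⁻¹ = g * v * g⁻¹ * (g * f * g⁻¹) by group, hgv]
        exact mul_mem hv hgw
    refine Or.inr ⟨fun u hu hu1 g hg a ha => ?_, fun u hu hu1 => ?_, ?_⟩
    · obtain ⟨k, hk, rfl⟩ := H.c_trans hv hu hv1 hu1
      have h' := hnorm (k⁻¹ * g * k) (by
        have := conj_comm (g := k⁻¹) hg
        simpa [mul_assoc] using this) (k⁻¹ * a * k) (by
          have := H.A_norm k⁻¹ hk.inv_right a ha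
          rwa [inv_inv] at this)
      have := H.A_norm k hk _ h'
      rwa [show k * (k⁻¹ * g * k * (k⁻¹ * a * k) * (k⁻¹ * g * k)⁻¹) * k⁻¹ = g * a * g⁻¹ by group] at this
    · obtain ⟨k, hk, rfl⟩ := H.c_trans hv hu hv1 hu1
      have hmap : centralizer ({k * v * k⁻¹} : Set G) =
          (centralizer ({v} : Set G)).map (MulAut.conj k).toMonoidHom := by
        ext x
        constructor
        · intro hx
          refine ⟨k⁻¹ * x * k, mem_centralizer_one.2 ?_, by simp [mul_assoc]⟩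
          have := conj_comm (g := k⁻¹) (show Commute x (k * v * k⁻¹) from mem_centralizer_one.1 hx)
          simpa [mul_assoc, Commute, SemiconjBy] using this
        · rintro ⟨y, hy, rfl⟩
          exact mem_centralizer_one.2 (conj_comm (show Commute y v from mem_centralizer_one.1 hy)).eq
      rw [hmap, card_map_of_injective (f := (MulAut.conj k).toMonoidHom) (MulAut.conj k).injective, ← heq, hLc]
    · refine ⟨φ.comp (MulEquiv.subgroupCongr heq.symm).toMonoidHom,
        hφ.comp (MulEquiv.surjective _), fun x => ?_⟩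
      rw [MonoidHom.comp_apply, hφ1]
      show ((x : G) = 1 ∨ (x : G) = v ∨ (x : G) = f ∨ (x : G) = f * v) ↔ _
      constructor
      · rintro (h' | h' | h' | h') <;> rw [h']
        exacts [one_mem _, hv, hw, mul_mem hw hv]
      · intro h'
        rcases H.three hv hw hv1 hw1 hwv.symm h' with e' | e' | e' | e'
        · exact Or.inl e'
        · exact Or.inr (Or.inl e')
        · exact Or.inr (Or.inr (Or.inl e'))
        · exact Or.inr (Or.inr (Or.inr (e'.trans (H.A_central v hv f (H.A_le hw)).eq)))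
  · exact absurd (D.fi23 X h) h23

end Hyp

end Cfsg.Agent.Fi23Two
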