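import Cfsg.Agent.Lib.U62Aut.Model.Grp

/-!
Kernel checks on the model of the semilinear unitary group on 256 vectors: the generators are products of
squares, two transvections fix few common vectors, elements of order three commuting with the involutions.
-/

set_option autoImplicit false
set_option maxRecDepth 20000

namespace Cfsg.Agent.Fi23Two

open Cfsg.Agent.PermCert Cfsg.Agent.U62Rec.Model

/-- The map of a word in the six generators. -/
def wordC (w : List ℕ) (v : ℕ) : ℕ := w.foldr (fun j x => linC (colsOf j) x) v

/-- Words whose squares multiply to a generator. -/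
def sqWords : List (List ℕ × List ℕ) :=
  [([5, 1], [4, 2, 5, 0, 4]), ([4, 1, 2, 5], [0, 2, 5, 1, 2]), ([1, 5, 1], [0, 0, 5, 2, 5])]

/-- The squares give the last three generators, and the first three have order three. -/
def sqOK : Bool :=
  allBelow (fun i => allBelow (fun v => Nat.beq (linC (colsOf i) (linC (colsOf i) (linC (colsOf i) v))) v) 256) 3 &&
  allBelow (fun i =>
    let ab := sqWords.getD i ([], [])
    ab.1.all (fun j => Nat.blt j 6) && ab.2.all (fun j => Nat.blt j 6) &&
    allBelow (fun v => Nat.beq (wordC ab.1 (wordC ab.1 (wordC ab.2 (wordC ab.2 v)))) (linC (colsOf (3 + i)) v)) 256) 3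

/-- The vectors of a line. -/
def lineB (p v : ℕ) : Bool :=
  Nat.beq v 0 || Nat.beq v (repC p) || Nat.beq v (omC (repC p)) || Nat.beq v (omC (omC (repC p)))

/-- Two transvections fix few common vectors. -/
def pairOK : Bool :=
  allBelow (fun p => allBelow (fun q => Nat.beq p q ||
    Nat.ble ((List.range 256).countP fun v => Nat.beq (herm v (repC p)) 0 && Nat.beq (herm v (repC q)) 0) 16) 45) 45

/-- The product of the transvections at `q` and `r` is fixed point free on `p⊥ / p` and fixes `p`. -/
def freeB (p q r : ℕ) : Bool :=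
  let x : ℕ → ℕ := fun v => tvC q (tvC r v)
  allBelow (fun v => Nat.beq (x (x (x v))) v && Nat.beq (x (tvC p v)) (tvC p (x v)) &&
    (!lineB p v || Nat.beq (x v) v) &&
    (!Nat.beq (herm v (repC p)) 0 || !Nat.beq (x v) v || lineB p v)) 256

/-- Such a product exists at every point. -/
def tvFreeOK : Bool :=
  allBelow (fun p => (List.range 45).any fun q => adjB p q && (List.range 45).any fun r =>
    adjB p r && !adjB q r && !Nat.beq q r && freeB p q r) 45

/-- The facts at the standard product: a centralizing element of order three, two vectors spanning with their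
multiples the whole space modulo the fixed vectors, and their only possible translates. -/
def goodOK : Bool :=
  allBelow (fun v => Nat.beq (centC 2 (centC 2 (centC 2 v))) v) 256 &&
  Nat.beq (centC 2 1) (omC 1) && Nat.beq (centC 2 16) (omC (omC 16)) &&
  allBelow (fun a => !Nat.beq (s0C a) a ||
    ((!(Nat.beq (centC 2 a) (omC a) && Nat.beq (q0 (Nat.xor 1 a)) (q0 1) &&
        Nat.beq (polC (Nat.xor 1 a) (omC (Nat.xor 1 a))) (polC 1 (omC 1))) ||
      Nat.beq a 0 || Nat.beq (Nat.xor 1 a) (s0C 1)) &&
     (!(Nat.beq (centC 2 a) (omC (omC a)) && Nat.beq (q0 (Nat.xor 16 a)) (q0 16) &&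
        Nat.beq (polC (Nat.xor 16 a) (omC (Nat.xor 16 a))) (polC 16 (omC 16))) ||
      Nat.beq a 0 || Nat.beq (Nat.xor 16 a) (s0C 16)))) 256 &&
  allBelow (fun v => [0, 1, omC 1, omC (omC 1)].any fun b => [0, 16, omC 16, omC (omC 16)].any fun b' =>
    Nat.beq (s0C (Nat.xor v (Nat.xor b b'))) (Nat.xor v (Nat.xor b b'))) 256 &&
  !Nat.beq (s0C 1) 1 && !Nat.beq (s0C 16) 16

theorem sq_ok : sqOK = true := by decide +kernel

theorem pair_ok : pairOK = true := by decide +kernel

theorem tvFree_ok : tvFreeOK = true := by decide +kernel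

theorem good_ok : goodOK = true := by decide +kernel

end Cfsg.Agent.Fi23Two
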