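import Cfsg.Agent.Lib.Fi23Two.Checks
import Cfsg.Agent.Lib.Fi22Two.Defs
import Cfsg.Agent.Lib.U62Aut.Model.Scalar
import Cfsg.Agent.Lib.U62Rec.Model.Bridge

/-!
Finite facts on the semilinear unitary group acting on 256 vectors: squares generate the linear part, the
fixed vectors of involutions and elements of order three commuting with them.
-/

set_option autoImplicit false
set_option maxRecDepth 20000

namespace Cfsg.Agent.Fi23Two

open Cfsg.Agent.PermCert Cfsg.Agent.U62Rec.Model Cfsg.Agent.U62Aut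
open Cfsg.Agent.Fi22Two (fixV imV tvA)

theorem xor_assoc' (a b c : Vec) : xorV (xorV a b) c = xorV a (xorV b c) := Fin.ext (Nat.xor_assoc _ _ _)

theorem xor_cancel (a b : Vec) : xorV a (xorV a b) = b := by
  rw [← xor_assoc', xorV_self, xorV_comm, xorV_zero]

theorem xor_cancel_right (a b : Vec) : xorV (xorV b a) a = b := by
  rw [xor_assoc', xorV_self, xorV_zero]

theorem word_val (w : List ℕ) (hw : ∀ j ∈ w, j < 6) (v : Vec) :
    (((w.map linP).prod v : Vec) : ℕ) = wordC w v := by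
  induction w with
  | nil => rfl
  | cons j w ih =>
    rw [List.map_cons, List.prod_cons, Equiv.Perm.mul_apply, linP_val (hw j List.mem_cons_self),
      ih fun i hi => hw i (List.mem_cons_of_mem _ hi)]
    rfl

theorem word_mem (w : List ℕ) (hw : ∀ j ∈ w, j < 6) : (w.map linP).prod ∈ Lgrp :=
  list_prod_mem fun x hx => by
    obtain ⟨j, hj, rfl⟩ := List.mem_map.1 hx
    exact linP_mem (hw j hj)

/-- A subgroup containing all squares contains the linear part. -/
theorem inner_of_sq (M : Subgroup Agrp) (h : ∀ σ : Agrp, σ * σ ∈ M) {σ : Agrp} (hσ : σ.1 ∈ Lgrp) : σ ∈ M := by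
  have hM : ∀ g ∈ Lgrp, g * g ∈ M.map Agrp.subtype := fun g hg => ⟨⟨g, lin_le hg⟩ * ⟨g, lin_le hg⟩, h _, rfl⟩
  have hok := sq_ok
  simp only [sqOK, Bool.and_eq_true] at hok
  suffices σ.1 ∈ M.map Agrp.subtype by
    obtain ⟨τ, hτ, e⟩ := this
    exact (Subtype.ext e : τ = σ) ▸ hτ
  refine lin_induction (P := fun g => g ∈ M.map Agrp.subtype) (fun j hj => ?_) (one_mem _)
    (fun a b => mul_mem) hσ
  rcases Nat.lt_or_ge j 3 with hj3 | hj3
  · have e : linP j * linP j * (linP j * linP j) = linP j := Equiv.ext fun v => Fin.ext (by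
      have h1 := allBelow_spec _ _ (allBelow_spec _ _ hok.1 j hj3) (linP j v : Vec) (linP j v).2
      simp only [Equiv.Perm.mul_apply, linP_val hj, Nat.beq_eq] at h1 ⊢
      exact h1)
    rw [← e]
    exact mul_mem (hM _ (linP_mem hj)) (hM _ (linP_mem hj))
  · have h1 := allBelow_spec _ _ hok.2 (j - 3) (by omega)
    simp only [Bool.and_eq_true, List.all_eq_true, Nat.blt_eq] at h1
    obtain ⟨⟨ha, hb⟩, hv⟩ := h1
    generalize sqWords.getD (j - 3) ([], []) = ab at ha hb hv
    have e : ((ab.1.map linP).prod * (ab.1.map linP).prod) * ((ab.2.map linP).prod * (ab.2.map linP).prod) =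
        linP j := Equiv.ext fun v => Fin.ext (by
      have h2 := allBelow_spec _ _ hv v v.2
      rw [Nat.beq_eq, show 3 + (j - 3) = j by omega] at h2
      simp only [Equiv.Perm.mul_apply]
      rw [word_val _ ha, word_val _ ha, word_val _ hb, word_val _ hb, linP_val hj]
      exact h2)
    rw [← e]
    exact mul_mem (hM _ (word_mem _ ha)) (hM _ (word_mem _ hb))

/-! ### Fixed vectors and commutator vectors -/

theorem fixV_xor {σ : Agrp} {a b : Vec} (ha : a ∈ fixV σ) (hb : b ∈ fixV σ) : xorV a b ∈ fixV σ := by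
  show σ.1 (xorV a b) = xorV a b
  rw [semi_xor σ.2, show σ.1 a = a from ha, show σ.1 b = b from hb]

theorem card_fix_im (σ : Agrp) : (fixV σ).ncard * (imV σ).ncard = 256 := by
  set f : Vec → Vec := fun v => xorV v (σ.1 v) with hf
  have hadd : ∀ a b, f (xorV a b) = xorV (f a) (f b) := fun a b => by
    simp only [hf]
    rw [semi_xor σ.2, xor_assoc', xor_assoc', ← xor_assoc' b, xorV_comm b (σ.1 a), xor_assoc' (σ.1 a)]
  have hfix : ∀ {v}, v ∈ fixV σ ↔ f v = zeroV := fun {v} => by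
    constructor
    · intro h
      simp only [hf]
      rw [show σ.1 v = v from h, xorV_self]
    · exact fun h => (xorV_eq_zero h).symm
  have hs : ∀ m : imV σ, ∃ v, f v = m.1 := fun m => m.2
  choose sec hsec using hs
  let e : fixV σ × imV σ ≃ Vec :=
    { toFun := fun x => xorV x.1.1 (sec x.2)
      invFun := fun v => (⟨xorV v (sec ⟨f v, v, rfl⟩), hfix.2 (by rw [hadd, hsec, xorV_self])⟩, ⟨f v, v, rfl⟩)
      left_inv := fun ⟨u, m⟩ => by
        have e1 : f (xorV u.1 (sec m)) = m.1 := by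
          rw [hadd, hfix.1 u.2, hsec, xorV_comm, xorV_zero]
        refine Prod.ext (Subtype.ext ?_) (Subtype.ext e1)
        simp only [e1]
        exact xor_cancel_right _ _
      right_inv := fun v => xor_cancel_right _ _ }
  rw [← Nat.card_coe_set_eq, ← Nat.card_coe_set_eq, ← Nat.card_prod, Nat.card_congr e, Nat.card_eq_fintype_card,
    Fintype.card_fin]

theorem im_le_fix {σ : Agrp} (h2 : σ * σ = 1) : imV σ ⊆ fixV σ := by
  rintro _ ⟨v, rfl⟩
  show σ.1 (xorV v (σ.1 v)) = _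
  rw [semi_xor σ.2, show σ.1 (σ.1 v) = v from
    congrArg (fun τ : Agrp => (τ.1 : Equiv.Perm Vec) v) h2, xorV_comm]

/-- Few vectors are fixed both by a semilinear and a linear map. -/
theorem outer_inter {σ τ : Agrp} (hσ : σ.1 ∉ Lgrp) (hτ : τ.1 ∈ Lgrp) :
    (fixV σ ∩ fixV τ).ncard * (fixV σ ∩ fixV τ).ncard ≤ (fixV τ).ncard := by
  have hsw : ∀ w, σ.1 (omV w) = omV (omV (σ.1 w)) := fun w =>
    DFunLike.congr_fun (omP_swap σ.2 hσ) w
  rw [← Set.ncard_prod]
  refine Set.ncard_le_ncard_of_injOn (fun x : Vec × Vec => xorV x.1 (omV x.2)) (fun x hx => ?_) ?_ (Set.toFinite _)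
  · refine fixV_xor hx.1.2 ?_
    show τ.1 (omV x.2) = omV x.2
    rw [(linLike hτ).2.1, show τ.1 x.2 = x.2 from hx.2.2]
  · rintro ⟨a, b⟩ ⟨ha, hb⟩ ⟨a', b'⟩ ⟨ha', hb'⟩ e
    have hlin : ∀ u w : Vec, omV (xorV u w) = xorV (omV u) (omV w) := isom_omP.1
    set u := xorV a a' with hu
    set w := xorV b b' with hw
    have huw : u = omV w := by
      rw [hu, hw, hlin]
      calc xorV a a' = xorV (xorV (xorV a (omV b)) (omV b)) a' := by rw [xor_cancel_right]
        _ = xorV (omV b) (omV b') := by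
          rw [show xorV a (omV b) = xorV a' (omV b') from e, xor_assoc', xor_assoc', ← xor_assoc' (omV b'),
            xorV_comm (omV b') (omV b), xorV_comm a', xor_cancel_right]
    have h1 : σ.1 u = u := fixV_xor ha.1 ha'.1
    have h2 : σ.1 w = w := fixV_xor hb.1 hb'.1
    rw [huw, hsw, h2] at h1
    have h3 := (omega_facts w).2
    rw [h1, xorV_self, xorV_zero] at h3
    rw [huw, h3, omV_zero] at hu
    exact Prod.ext (xorV_eq_zero hu.symm) (xorV_eq_zero (hw ▸ h3))

theorem fix_tvA (p : Pt) : fixV (tvA p) = {v : Vec | herm v (repC p) = 0} :=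
  Set.ext fun v => Fin.ext_iff.trans ((tvC_check p).1 v v.2).2.2.1

theorem card_tvA (p : Pt) : (fixV (tvA p)).ncard = 64 := by
  rw [fix_tvA]; exact (perp_facts p).2

theorem im_tvA (p : Pt) {v : Vec} (hv : v ∈ imV (tvA p)) : InLine p v := by
  obtain ⟨u, rfl⟩ := hv
  rcases ((tvC_check p).1 u u.2).2.2.2 with h | h | h | h
  · left
    show xorV u ((tvA p).1 u) = zeroV
    rw [show (tvA p).1 u = u from Fin.ext h, xorV_self]
  · exact Or.inr (Or.inl (Fin.ext h))
  · exact Or.inr (Or.inr (Or.inl (Fin.ext h)))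
  · exact Or.inr (Or.inr (Or.inr (Fin.ext h)))

/-- An involution other than a transvection fixes the 16 commutator vectors only. -/
theorem shape_small {σ : Agrp} (h2 : σ * σ = 1) (h1 : σ ≠ 1) (hne : ∀ p, σ ≠ tvA p) :
    fixV σ = imV σ ∧ (fixV σ).ncard = 16 := by
  have hle := im_le_fix h2
  have hc := card_fix_im σ
  by_cases hL : σ.1 ∈ Lgrp
  · obtain ⟨γ, hγ, e⟩ := exists_std (σ := ⟨σ.1, hL⟩) (Subtype.ext (congrArg Subtype.val h2 :))
      (fun h => h1 (Subtype.ext (congrArg Subtype.val h :))) fun p hp => hne p (Subtype.ext (eq_tvV hp))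
    have heq : fixV σ = imV σ := le_antisymm (fun x hx => (other_fix hγ e hx).2) hle
    rw [← heq] at hc
    exact ⟨heq, by nlinarith⟩
  · have hone : fixV (1 : Agrp) = Set.univ := Set.eq_univ_of_forall fun v => rfl
    have h3 := outer_inter (σ := σ) (τ := 1) hL (one_mem _)
    rw [hone, Set.inter_univ, Set.ncard_univ, Nat.card_eq_fintype_card, Fintype.card_fin] at h3
    have h4 := Set.ncard_le_ncard hle (Set.toFinite _)
    have h5 : (fixV σ).ncard = 16 := by nlinarith
    have h6 : (imV σ).ncard = 16 := by rw [h5] at hc; omega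
    exact ⟨(Set.eq_of_subset_of_ncard_le hle (by omega) (Set.toFinite _)).symm, h5⟩

/-- An involution fixing more than 16 of the vectors fixed by a transvection is that transvection. -/
theorem big_fix {τ : Agrp} (h2 : τ * τ = 1) (h1 : τ ≠ 1) (p : Pt) {S : Set Vec} (hS : S ⊆ fixV (tvA p))
    (hτ : S ⊆ fixV τ) (hc : 16 < S.ncard) : τ = tvA p := by
  obtain ⟨q, rfl⟩ : ∃ q, τ = tvA q := by
    by_contra h
    push Not at h
    have := Set.ncard_le_ncard hτ (Set.toFinite _)
    rw [(shape_small h2 h1 h).2] at this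
    omega
  by_contra hne
  have hpq : (p : ℕ) ≠ q := fun e => hne (by rw [Fin.ext e])
  have h := allBelow_spec _ _ (allBelow_spec _ _ pair_ok p p.2) q q.2
  simp only [Bool.or_eq_true, Nat.beq_eq, Nat.ble_eq, hpq, false_or] at h
  have hsub : S ⊆ {v : Vec | herm v (repC p) = 0 ∧ herm v (repC q) = 0} := fun v hv => by
    refine ⟨?_, ?_⟩
    · have := hS hv; rwa [fix_tvA] at this
    · have := hτ hv; rwa [fix_tvA] at this
  have hle : {v : Vec | herm v (repC p) = 0 ∧ herm v (repC q) = 0}.ncard ≤ 16 := by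
    classical
    refine le_trans (le_of_eq ?_) h
    rw [List.countP_eq_length_filter, ← List.toFinset_card_of_nodup (List.nodup_range.filter _),
      Set.ncard_eq_toFinset_card', ← Finset.card_map Fin.valEmbedding]
    refine congrArg Finset.card (Finset.ext fun i => ?_)
    simp only [Finset.mem_map, Set.mem_toFinset, Set.mem_ofPred_eq, List.mem_toFinset, List.mem_filter,
      List.mem_range, Bool.and_eq_true, Nat.beq_eq, Fin.valEmbedding_apply]
    constructor
    · rintro ⟨x, hx, rfl⟩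
      exact ⟨x.2, hx⟩
    · rintro ⟨hi, hx⟩
      exact ⟨⟨i, hi⟩, hx, rfl⟩
  have := Set.ncard_le_ncard hsub (Set.toFinite _)
  omega

/-- A map fixing half of the 16 vectors fixed by a linear involution fixes all of them. -/
theorem fix_half {σ τ : Agrp} (hL : σ.1 ∈ Lgrp) (h16 : (fixV σ).ncard = 16)
    (hc : 8 ≤ (fixV σ ∩ fixV τ).ncard) : fixV σ ⊆ fixV τ := by
  have hτ : τ.1 ∈ Lgrp := by
    by_contra h
    have h1 := outer_inter h hL
    rw [h16, Set.inter_comm] at h1
    nlinarith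
  intro v hv
  by_contra hvτ
  set F := fixV σ ∩ fixV τ with hF
  set F' := xorV v '' F with hF'
  have hd : Disjoint F F' := by
    rw [Set.disjoint_left]
    rintro a ha ⟨b, hb, rfl⟩
    refine hvτ ?_
    have := fixV_xor ha.2 hb.2
    rwa [xor_cancel_right] at this
  have hsub : F ∪ F' ⊆ fixV σ := by
    rintro a (ha | ⟨b, hb, rfl⟩)
    exacts [ha.1, fixV_xor hv hb.1]
  have hinj : Function.Injective (xorV v) := fun a b e => by rw [← xor_cancel v a, e, xor_cancel]
  have hall : F ∪ F' = fixV σ := by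
    refine Set.eq_of_subset_of_ncard_le hsub ?_ (Set.toFinite _)
    rw [Set.ncard_union_eq hd (Set.toFinite _) (Set.toFinite _), hF', Set.ncard_image_of_injective _ hinj, h16]
    omega
  have hωv : omV v ∈ fixV σ := by
    show σ.1 (omV v) = omV v
    rw [(linLike hL).2.1, show σ.1 v = v from hv]
  rw [← hall] at hωv
  rcases hωv with h | ⟨b, hb, e⟩
  · refine hvτ ?_
    show τ.1 v = v
    have h' : τ.1 (omV v) = omV v := h.2
    rw [← (omega_facts v).1, (linLike hτ).2.1, (linLike hτ).2.1, h']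
  · refine hvτ ?_
    show τ.1 v = v
    have e' : b = omV (omV v) := by
      rw [← xor_cancel v b, e]
      refine xorV_eq_zero ?_
      rw [xor_assoc']
      exact (omega_facts v).2
    have h' : τ.1 b = b := hb.2
    rw [e'] at h'
    rw [← (omega_facts v).1, (linLike hτ).2.1]
    exact congrArg omV h'

/-- At a transvection: an element of order three fixing the line pointwise and no other orthogonal vector. -/
theorem tv_free (p : Pt) : ∃ x : Agrp, x.1 ∈ Lgrp ∧ x * x * x = 1 ∧ Commute x (tvA p) ∧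
    (∀ v, InLine p v → x.1 v = v) ∧ ∀ v ∈ fixV (tvA p), x.1 v = v → InLine p v := by
  have h := allBelow_spec _ _ tvFree_ok p p.2
  simp only [List.any_eq_true, Bool.and_eq_true, List.mem_range] at h
  obtain ⟨q, hq, -, r, hr, -, h⟩ := h
  refine ⟨tvA ⟨q, hq⟩ * tvA ⟨r, hr⟩, mul_mem (tvV_mem _) (tvV_mem _), ?_, ?_, ?_, ?_⟩
  all_goals simp only [freeB] at h
  · refine Subtype.ext (Equiv.ext fun v => Fin.ext ?_)
    have := allBelow_spec _ _ h v v.2
    simp only [Bool.and_eq_true, Nat.beq_eq] at this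
    exact this.1.1.1
  · refine Subtype.ext (Equiv.ext fun v => Fin.ext ?_)
    have := allBelow_spec _ _ h v v.2
    simp only [Bool.and_eq_true, Nat.beq_eq] at this
    exact this.1.1.2
  · intro v hv
    refine Fin.ext ?_
    have := allBelow_spec _ _ h v v.2
    simp only [Bool.and_eq_true, Bool.or_eq_true, Bool.not_eq_true', ← Bool.not_eq_true, Nat.beq_eq, lineB] at this
    refine this.1.2.resolve_left fun hn => hn ?_
    rcases hv with rfl | rfl | rfl | rfl
    exacts [Or.inl (Or.inl (Or.inl rfl)), Or.inl (Or.inl (Or.inr rfl)), Or.inl (Or.inr rfl), Or.inr rfl]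
  · intro v hv hx
    rw [fix_tvA] at hv
    have := allBelow_spec _ _ h v v.2
    simp only [Bool.and_eq_true, Bool.or_eq_true, Bool.not_eq_true', ← Bool.not_eq_true, Nat.beq_eq, lineB] at this
    rcases this.2 with (h1 | h1) | ((h1 | h1) | h1) | h1
    · exact absurd hv h1
    · exact absurd (congrArg Fin.val hx) h1
    · exact Or.inl (Fin.ext h1)
    · exact Or.inr (Or.inl (Fin.ext h1))
    · exact Or.inr (Or.inr (Or.inl (Fin.ext h1)))
    · exact Or.inr (Or.inr (Or.inr (Fin.ext h1)))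

/-- An involution fixing the vectors fixed by a linear involution that is no transvection. -/
theorem good {σ τ : Agrp} (hL : σ.1 ∈ Lgrp) (h2 : σ * σ = 1) (h1 : σ ≠ 1) (hne : ∀ p, σ ≠ tvA p)
    (ht2 : τ * τ = 1) (hfix : fixV σ ⊆ fixV τ) :
    τ = 1 ∨ τ = σ ∨ (∃ p, τ = tvA p) ∨
      ∃ x : Agrp, x.1 ∈ Lgrp ∧ x * x * x = 1 ∧ Commute x σ ∧ ¬ Commute x τ := by
  by_cases ht1 : τ = 1
  · exact Or.inl ht1
  by_cases htv : ∃ p, τ = tvA p
  · exact Or.inr (Or.inr (Or.inl htv))
  push Not at htv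
  obtain ⟨hσim, hσ16⟩ := shape_small h2 h1 hne
  obtain ⟨hτim, hτ16⟩ := shape_small ht2 ht1 htv
  have hfeq : fixV τ = fixV σ := (Set.eq_of_subset_of_ncard_le hfix (by omega) (Set.toFinite _)).symm
  have hτL : τ.1 ∈ Lgrp := by
    by_contra h
    have h3 := outer_inter h hL
    rw [hfeq, Set.inter_self, hσ16] at h3
    omega
  obtain ⟨γ, hγ, e⟩ := exists_std (σ := ⟨σ.1, hL⟩) (Subtype.ext (congrArg Subtype.val h2 :))
    (fun h => h1 (Subtype.ext (congrArg Subtype.val h :))) fun p hp => hne p (Subtype.ext (eq_tvV hp))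
  replace e : σ.1 = γ * s0V * γ⁻¹ := e
  obtain ⟨hcm, hcc, hcv⟩ := centP_spec (k := 2) (by norm_num)
  set X : Agrp := ⟨γ * centP 2 * γ⁻¹, lin_le (mul_mem (mul_mem hγ hcm) (inv_mem hγ))⟩ with hX
  have hok := good_ok
  simp only [goodOK, Bool.and_eq_true] at hok
  obtain ⟨⟨⟨⟨⟨⟨hc3, hq1⟩, hq16⟩, hcand⟩, hspan⟩, hm1⟩, hm16⟩ := hok
  have hXL : X.1 ∈ Lgrp := mul_mem (mul_mem hγ hcm) (inv_mem hγ)
  have hX3 : X * X * X = 1 := by
    refine Subtype.ext ?_
    show γ * centP 2 * γ⁻¹ * (γ * centP 2 * γ⁻¹) * (γ * centP 2 * γ⁻¹) = 1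
    rw [show γ * centP 2 * γ⁻¹ * (γ * centP 2 * γ⁻¹) * (γ * centP 2 * γ⁻¹) =
      γ * (centP 2 * centP 2 * centP 2) * γ⁻¹ by group]
    have : centP 2 * centP 2 * centP 2 = 1 := Equiv.ext fun v => Fin.ext (by
      rw [Equiv.Perm.mul_apply, Equiv.Perm.mul_apply, hcv, hcv, hcv]
      exact Nat.eq_of_beq_eq_true (allBelow_spec _ _ hc3 v v.2))
    rw [this, mul_one, mul_inv_cancel]
  have hXσ : Commute X σ := by
    refine Subtype.ext ?_
    show γ * centP 2 * γ⁻¹ * σ.1 = σ.1 * (γ * centP 2 * γ⁻¹)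
    rw [e, show γ * centP 2 * γ⁻¹ * (γ * s0V * γ⁻¹) = γ * (centP 2 * s0V) * γ⁻¹ by group, hcc]
    group
  by_cases hXτ : Commute X τ
  swap
  · exact Or.inr (Or.inr (Or.inr ⟨X, hXL, hX3, hXσ, hXτ⟩))
  right; left
  -- the map in the coordinates of the standard product
  set t : Equiv.Perm Vec := γ⁻¹ * τ.1 * γ with ht
  have htL : t ∈ Lgrp := mul_mem (mul_mem (inv_mem hγ) hτL) hγ
  have hfix' : ∀ v : Vec, t v = v ↔ s0V v = v := fun v => by
    have h3 := Set.ext_iff.1 hfeq (γ v)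
    change τ.1 (γ v) = γ v ↔ σ.1 (γ v) = γ v at h3
    rw [e] at h3
    simp only [ht, Equiv.Perm.mul_apply, perm_inv_self] at h3 ⊢
    constructor
    · intro h4
      refine γ.injective (h3.1 ?_)
      conv_rhs => rw [← h4, perm_self_inv]
    · intro h4
      rw [h3.2 (congrArg γ h4), perm_inv_self]
  have him : ∀ v : Vec, s0V (xorV v (t v)) = xorV v (t v) := fun v => by
    rw [← hfix']
    have h3 : xorV (γ v) (τ.1 (γ v)) ∈ fixV τ := im_le_fix ht2 ⟨γ v, rfl⟩
    have h4 : γ (xorV v (t v)) = xorV (γ v) (τ.1 (γ v)) := by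
      rw [(linLike hγ).1]
      simp only [ht, Equiv.Perm.mul_apply, perm_self_inv]
    show γ⁻¹ (τ.1 (γ (xorV v (t v)))) = _
    rw [h4, show τ.1 _ = _ from h3, ← h4, perm_inv_self]
  have htc : Commute (centP 2) t := by
    have h3 : γ * centP 2 * γ⁻¹ * τ.1 = τ.1 * (γ * centP 2 * γ⁻¹) := congrArg Subtype.val hXτ.eq
    show centP 2 * (γ⁻¹ * τ.1 * γ) = γ⁻¹ * τ.1 * γ * centP 2
    calc centP 2 * (γ⁻¹ * τ.1 * γ) = γ⁻¹ * (γ * centP 2 * γ⁻¹ * τ.1) * γ := by group
      _ = γ⁻¹ * (τ.1 * (γ * centP 2 * γ⁻¹)) * γ := by rw [h3]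
      _ = _ := by group
  obtain ⟨hlx, hlo, hlq⟩ := linLike htL
  have key : ∀ (q : Vec) (k : Vec → Vec), (∀ a b, k (xorV a b) = xorV (k a) (k b)) → centP 2 q = k q →
      t (k q) = k (t q) → s0V q ≠ q →
      (∀ a : Vec, s0V a = a → centP 2 a = k a → q0 (xorV q a) = q0 q →
        polC (xorV q a) (omV (xorV q a)) = polC q (omV q) → a = zeroV ∨ xorV q a = s0V q) →
      t q = s0V q := by
    intro q k hk hxq htk hmov hc
    set a := xorV q (t q) with ha
    have hqa : xorV q a = t q := xor_cancel q (t q)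
    have hxa : centP 2 a = k a := by
      rw [ha, (linLike hcm).1, hk, hxq, show centP 2 (t q) = t (centP 2 q) from DFunLike.congr_fun htc.eq q, hxq,
        htk]
    rcases hc a (him q) hxa (by rw [hqa, hlq]) (by rw [hqa, ← hlo]; exact semi_pol (lin_le htL) q (omV q))
      with h3 | h3
    · exact absurd ((hfix' q).1 (by rw [← hqa, h3, xorV_zero])) hmov
    · rw [← hqa]; exact h3
  have h4 : ∀ a : Vec, s0V a = a → ((centP 2 a = omV a → q0 (xorV ⟨1, by norm_num⟩ a) = q0 1 →
      polC (xorV ⟨1, by norm_num⟩ a) (omV (xorV ⟨1, by norm_num⟩ a)) = polC 1 (omC 1) →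
      a = zeroV ∨ xorV ⟨1, by norm_num⟩ a = s0V ⟨1, by norm_num⟩) ∧
    (centP 2 a = omV (omV a) → q0 (xorV ⟨16, by norm_num⟩ a) = q0 16 →
      polC (xorV ⟨16, by norm_num⟩ a) (omV (xorV ⟨16, by norm_num⟩ a)) = polC 16 (omC 16) →
      a = zeroV ∨ xorV ⟨16, by norm_num⟩ a = s0V ⟨16, by norm_num⟩)) := fun a ha => by
    have h5 := allBelow_spec _ _ hcand a a.2
    have ha' : s0C a = a := (s0V_val a).symm.trans (congrArg Fin.val ha)
    simp only [ha', Nat.beq_refl, Bool.not_true, Bool.false_or, Bool.and_eq_true, Bool.or_eq_true,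
      Bool.not_eq_true', ← Bool.not_eq_true, Nat.beq_eq] at h5
    constructor
    · intro e1 e2 e3
      rcases h5.1 with (h6 | h6) | h6
      · exact absurd ⟨⟨(hcv a).symm.trans (congrArg Fin.val e1), e2⟩, e3⟩ h6
      · exact Or.inl (Fin.ext h6)
      · exact Or.inr (Fin.ext (h6.trans (s0V_val ⟨1, by norm_num⟩).symm))
    · intro e1 e2 e3
      rcases h5.2 with (h6 | h6) | h6
      · exact absurd ⟨⟨(hcv a).symm.trans (congrArg Fin.val e1), e2⟩, e3⟩ h6
      · exact Or.inl (Fin.ext h6)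
      · exact Or.inr (Fin.ext (h6.trans (s0V_val ⟨16, by norm_num⟩).symm))
  simp only [Bool.not_eq_true', ← Bool.not_eq_true, Nat.beq_eq] at hm1 hm16 hq1 hq16
  have t1 : t ⟨1, by norm_num⟩ = s0V ⟨1, by norm_num⟩ :=
    key _ omV isom_omP.1 (Fin.ext ((hcv _).trans hq1)) (hlo _)
      (fun h => hm1 ((s0V_val _).symm.trans (congrArg Fin.val h))) fun a ha => (h4 a ha).1
  have t16 : t ⟨16, by norm_num⟩ = s0V ⟨16, by norm_num⟩ :=
    key _ (fun v => omV (omV v)) (fun a b => by rw [show omV (xorV a b) = _ from isom_omP.1 a b]; exact isom_omP.1 _ _)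
      (Fin.ext ((hcv _).trans hq16)) (by rw [hlo, hlo])
      (fun h => hm16 ((s0V_val _).symm.trans (congrArg Fin.val h))) fun a ha => (h4 a ha).2
  obtain ⟨hsx, hso, -⟩ := linLike s0V_mem
  have hall : t = s0V := by
    refine Equiv.ext fun v => ?_
    have h5 := allBelow_spec _ _ hspan v v.2
    simp only [List.any_eq_true, List.mem_cons, List.not_mem_nil, or_false, Nat.beq_eq] at h5
    obtain ⟨b, hb, b', hb', h5⟩ := h5
    have hB : ∀ {n : ℕ} (q : Vec), (n = 0 ∨ n = (q : ℕ) ∨ n = omC q ∨ n = omC (omC q)) → t q = s0V q →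
        ∃ hn : n < 256, t ⟨n, hn⟩ = s0V ⟨n, hn⟩ := by
      intro n q hn hq
      rcases hn with rfl | rfl | rfl | rfl
      · exact ⟨by norm_num, (lin_zero htL).trans (lin_zero s0V_mem).symm⟩
      · exact ⟨q.2, hq⟩
      · exact ⟨(omV q).2, show t (omV q) = s0V (omV q) by rw [hlo, hq, hso]⟩
      · exact ⟨(omV (omV q)).2, show t (omV (omV q)) = s0V (omV (omV q)) by rw [hlo, hlo, hq, hso, hso]⟩
    obtain ⟨hbn, eb⟩ := hB ⟨1, by norm_num⟩ hb t1
    obtain ⟨hbn', eb'⟩ := hB ⟨16, by norm_num⟩ hb' t16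
    set B : Vec := xorV ⟨b, hbn⟩ ⟨b', hbn'⟩ with hBdef
    have eB : t B = s0V B := by rw [hBdef, hlx, hsx, eb, eb']
    have h6 : s0V (xorV v B) = xorV v B := Fin.ext ((s0V_val _).trans h5)
    rw [← xor_cancel_right B v, hlx, hsx, eB, (hfix' _).2 h6, h6]
  refine Subtype.ext ?_
  rw [e, ← hall, ht]
  group

end Cfsg.Agent.Fi23Two
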