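import Cfsg.Agent.Lib.U62Aut.Red.Build

/-!
A map of order three without fixed points commuting with the inner automorphisms excludes the fixed plane.
-/

set_option autoImplicit false
set_option linter.style.haveILetI false
set_option linter.unusedSectionVars false
set_option maxRecDepth 20000

namespace Cfsg.Agent.Fi23Two

open Subgroup LargeExtra
open Cfsg.Agent.U62Rec.Model Cfsg.Agent.U62Rec.Model.Forced Cfsg.Agent.U62Aut
open Cfsg.Agent.U62Aut.ASpace

universe u

theorem singC_nonempty : ∃ c, c ∈ singC := by decide +kernel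

/-- Without fixed vectors. -/
theorem no_fixed {G : Type u} [Group G] [Finite G] {z : G} {V : Type u} [AddCommGroup V] (S : ASpace z V)
    (Φ : V →+ V) (hfp : ∀ v, Φ v = v → v = 0) (h3 : ∀ v, Φ (Φ (Φ v)) = v) (hq : ∀ v, S.q (Φ v) = S.q v)
    (hc : ∀ x v, Φ (S.inn x v) = S.inn x (Φ v)) : ∀ v, (∀ x, S.inn x v = v) → v = 0 := by
  intro v₀ hv₀
  by_contra hne
  haveI := S.finite
  obtain ⟨u, P⟩ := S.exists_planes ⟨v₀, hne, hv₀⟩
  have hB : ∀ a b, S.B (Φ a) (Φ b) = S.B a b := fun a b => by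
    have h := hq (a + b)
    rw [map_add, S.hq, S.hq, hq, hq] at h
    exact add_left_cancel h
  have hU : ∀ w ∈ U S.gen 0, Φ w ∈ U S.gen 0 := fun w hw => by
    refine (inU_zero_iff _).2 fun k => ?_
    rw [S.eps_eq]
    show S.inn _ (Φ w) = Φ w
    rw [← hc]
    exact congrArg Φ (P.fix_zero _ w hw)
  have hperp : ∀ a ∈ P.perp, Φ a ∈ P.perp := fun a ha w hw => by
    conv_lhs => rw [← h3 w]
    rw [hB]
    exact ha _ (hU _ (hU w hw))
  obtain ⟨c, hcs⟩ := singC_nonempty
  simp only [singC, Finset.mem_filter, Finset.mem_univ, true_and] at hcs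
  set v := S.psi u c with hv
  have hvP : v ∈ P.perp := P.mem_perp.2 ⟨c, rfl⟩
  have hv0 : v ≠ 0 := fun h => hcs.2 (P.psi_inj (h.trans P.psi_none.symm))
  have hvq : S.q v = 0 := by rw [hv, P.q_psi]; exact hcs.1
  obtain ⟨x, hx5, hxv⟩ := P.exists_five hvP hv0 hvq
  have hxp : x ^ 5 = 1 := hx5 ▸ pow_orderOf_eq_one x
  have hx1 : x ≠ 1 := fun h => by rw [h, orderOf_one] at hx5; omega
  have hF := P.card_fix_five hxp hx1
  obtain ⟨x₀, rfl⟩ := five_inner hxp
  obtain ⟨av, avP, -, avB, -⟩ := P.average hxp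
  have hfix : ∀ a, S.ρ (MulAut.conj x₀) a = a → S.ρ (MulAut.conj x₀) (Φ a) = Φ a := fun a ha => by
    show S.inn x₀ (Φ a) = Φ a
    rw [← hc]
    exact congrArg Φ ha
  have m1 : v ∈ P.perp ⊓ S.fixS (MulAut.conj x₀) := ⟨hvP, S.mem_fixS.2 hxv⟩
  have m2 : Φ v ∈ P.perp ⊓ S.fixS (MulAut.conj x₀) := ⟨hperp v hvP, S.mem_fixS.2 (hfix v hxv)⟩
  have e12 : Φ v ≠ v := fun h => hv0 (hfp v h)
  have hsum : v + Φ v ≠ 0 := fun h => e12 (by
    rw [add_eq_zero_iff_eq_neg, S.neg_eq] at h
    exact h.symm)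
  have hall : ∀ w ∈ P.perp ⊓ S.fixS (MulAut.conj x₀), w = 0 ∨ w = v ∨ w = Φ v ∨ w = v + Φ v := by
    classical
    intro w hw
    by_contra h
    simp only [not_or] at h
    have hsub : ↑({0, v, Φ v, v + Φ v, w} : Finset V) ⊆
        ((P.perp ⊓ S.fixS (MulAut.conj x₀) : AddSubgroup V) : Set V) := by
      simp only [Finset.coe_insert, Finset.coe_singleton, Set.insert_subset_iff, Set.singleton_subset_iff,
        SetLike.mem_coe]
      exact ⟨zero_mem _, m1, m2, add_mem m1 m2, hw⟩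
    have h5 := Set.ncard_le_ncard hsub (Set.toFinite _)
    rw [Set.ncard_coe_finset, ← Nat.card_coe_set_eq] at h5
    simp only [SetLike.coe_sort_coe, hF] at h5
    rw [Finset.card_insert_of_notMem, Finset.card_insert_of_notMem, Finset.card_insert_of_notMem,
      Finset.card_insert_of_notMem, Finset.card_singleton] at h5
    · omega
    all_goals simp only [Finset.mem_insert, Finset.mem_singleton, not_or]
    · exact fun e => h.2.2.2 e.symm
    · exact ⟨fun e => hv0 (right_eq_add.1 e), fun e => h.2.2.1 e.symm⟩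
    · exact ⟨e12.symm, fun e => hv0 (by
        have := hfp v (by
          have e' : Φ v = 0 := left_eq_add.1 e
          rw [← h3 v, e', map_zero, map_zero, map_zero])
        exact this), fun e => h.2.1 e.symm⟩
    · exact ⟨hv0.symm, fun e => hv0 (by rw [← h3 v, ← e, map_zero, map_zero]), hsum.symm, fun e => h.1 e.symm⟩
  have hvΦ : S.B v (Φ v) = 0 := by
    have e : v + Φ v = Φ (Φ v) := by
      have h0 : v + Φ v + Φ (Φ v) = 0 := hfp _ (by rw [map_add, map_add, h3]; abel)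
      rwa [add_eq_zero_iff_eq_neg, S.neg_eq] at h0
    have h := S.hq v (Φ v)
    rw [e, hq, hq, hvq, zero_add, zero_add] at h
    exact h.symm
  obtain ⟨y, hy⟩ := S.hnd v hv0
  obtain ⟨d, w, hw, rfl⟩ := P.decomp y
  refine hy ?_
  rw [S.B_add, S.B_symm v w, hvP w hw, add_zero]
  rw [← avB v (S.mem_fixS.2 hxv) (S.psi u d)]
  rcases hall _ (avP _ (P.mem_perp.2 ⟨d, rfl⟩)) with e | e | e | e <;> rw [e]
  · exact S.B_zero v
  · exact S.B_self v
  · exact hvΦ
  · rw [S.B_add, S.B_self, hvΦ, add_zero]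

end Cfsg.Agent.Fi23Two
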