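import Cfsg.Agent.Lib.Fi23Two.Setup
import Cfsg.Agent.Lib.Fi23Two.NoPlane
import Cfsg.Agent.Lib.Fi23Two.Model
import Cfsg.Agent.Lib.U62Aut.Model.Crd
import Cfsg.Agent.Lib.U62Aut.Model.Bridge

/-!
Coordinates on the core modulo its centre in which the centraliser of `z` and an involution of the four-group
is the semilinear group and the centraliser of the four-group the linear group.
-/

set_option autoImplicit false
set_option linter.style.haveILetI false
set_option linter.unusedSectionVars false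

namespace Cfsg.Agent.Fi23Two

open Subgroup LargeExtra
open scoped commutatorElement
open Cfsg.Agent.U62Rec.Model Cfsg.Agent.U62Aut
open Cfsg.Agent.Fi22Two (comm_of_conj conj_of_comm comm_elem_eq)

universe u

variable {G : Type u} [Group G] [Finite G] {z : G}

/-- Coordinates at an involution of the four-group. -/
structure Coord (H : Hyp z) (v : G) where
  v_mem : v ∈ H.A
  v_ne : v ≠ 1
  /-- The vector of an element of the core. -/
  nv : G → Vec
  nv_mul : ∀ a ∈ coreAt z, ∀ b ∈ coreAt z, nv (a * b) = xorV (nv a) (nv b)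
  nv_surj : ∀ w, ∃ a ∈ coreAt z, nv a = w
  nv_zero : ∀ a ∈ coreAt z, (nv a = zeroV ↔ a ∈ ZJ H)
  /-- The map of an element of the centraliser. -/
  lin : G → Agrp
  lin_mul : ∀ g ∈ Hv z v, ∀ h ∈ Hv z v, lin (g * h) = lin g * lin h
  lin_one : ∀ g ∈ Hv z v, (lin g = 1 ↔ g ∈ coreAt z)
  lin_conj : ∀ g ∈ Hv z v, ∀ a ∈ coreAt z, nv (g * a * g⁻¹) = (lin g).1 (nv a)
  lin_surj : ∀ σ, ∃ g ∈ Hv z v, lin g = σ
  lin_inner : ∀ g ∈ Hv z v, ((∀ α ∈ H.A, Commute α g) ↔ (lin g).1 ∈ Lgrp)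

namespace Hyp

variable (H : Hyp z)

theorem core_le_Hv {v : G} (hv : v ∈ H.A) : coreAt z ≤ Hv z v := fun j hj =>
  mem_Hv.2 ⟨H.comm_z hj, H.A_central v hv j hj⟩

theorem A_le_Hv {v : G} (hv : v ∈ H.A) : H.A ≤ Hv z v := H.A_le.trans (H.core_le_Hv hv)

/-- Squares generate the symplectic group. -/
theorem sq_top (M : Subgroup (Cfsg.PSp 2 (ZMod 3))) (h : ∀ x, x * x ∈ M) : M = ⊤ := by
  haveI := U62Rec.Model.simple_X
  set N : Subgroup (Cfsg.PSp 2 (ZMod 3)) := closure (Set.range fun x => x * x) with hN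
  haveI : N.Normal := by
    constructor
    intro a ha g
    induction ha using closure_induction with
    | mem y hy =>
      obtain ⟨x, rfl⟩ := hy
      exact subset_closure ⟨g * x * g⁻¹, show g * x * g⁻¹ * (g * x * g⁻¹) = g * (x * x) * g⁻¹ by group⟩
    | one => simp
    | mul a b _ _ iha ihb => simpa [mul_assoc] using mul_mem iha ihb
    | inv a _ iha => simpa [mul_assoc] using inv_mem iha
  rcases (inferInstance : N.Normal).eq_bot_or_eq_top with h0 | h0
  · exfalso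
    have hx : ∀ x : Cfsg.PSp 2 (ZMod 3), x * x = 1 := fun x => by
      rw [← mem_bot, ← h0]; exact subset_closure ⟨x, rfl⟩
    have hi : ∀ x : Cfsg.PSp 2 (ZMod 3), x⁻¹ = x := fun x => inv_eq_of_mul_eq_one_right (hx x)
    letI : CommGroup (Cfsg.PSp 2 (ZMod 3)) := { (inferInstance : Group (Cfsg.PSp 2 (ZMod 3))) with
      mul_comm := fun x y => by
        have e := hi (x * y)
        rw [mul_inv_rev, hi, hi] at e
        exact e.symm }
    have h1 := IsSimpleGroup.prime_card (α := Cfsg.PSp 2 (ZMod 3))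
    rw [U62Rec.Model.card_X] at h1
    norm_num at h1
  · rw [eq_top_iff, ← h0, hN, closure_le]
    rintro _ ⟨x, rfl⟩
    exact h x

set_option maxHeartbeats 1600000 in
/-- The coordinates. -/
theorem exists_coord {v : G} (hv : v ∈ H.A) (hv1 : v ≠ 1) : Nonempty (Coord H v) := by
  classical
  set S := Hv z v with hS
  haveI hAn : (H.A.subgroupOf S).Normal := ⟨fun a ha g => H.A_norm _ (mem_Hv.1 g.2).1 a ha⟩
  set π := QuotientGroup.mk' (H.A.subgroupOf S) with hπ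
  have hπs : Function.Surjective π := QuotientGroup.mk'_surjective _
  have hπ0 : ∀ g : ↥S, π g = 1 ↔ (g : G) ∈ H.A := fun g => QuotientGroup.eq_one_iff g
  have hzS : z ∈ S := mem_Hv.2 ⟨Commute.refl z, (H.comm_zA hv).symm⟩
  set zb := π ⟨z, hzS⟩ with hzb
  have hzb1 : zb ≠ 1 := fun h => H.z_not_A ((hπ0 _).1 h)
  have hzb2 : zb * zb = 1 := by
    rw [← map_mul, show (⟨z, hzS⟩ : ↥S) * ⟨z, hzS⟩ = 1 from Subtype.ext H.z2, map_one]
  have hzo : orderOf zb = 2 := orderOf_eq_prime (by rw [pow_two, hzb2]) hzb1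
  have hcomm : ∀ q, Commute zb q := fun q => by
    obtain ⟨g, rfl⟩ := hπs q
    exact Commute.map (show Commute (⟨z, hzS⟩ : ↥S) g from Subtype.ext (mem_Hv.1 g.2).1.eq) π
  set J' : Subgroup (↥S ⧸ H.A.subgroupOf S) := ((coreAt z).subgroupOf S).map π with hJ'
  have hJmem : ∀ g : ↥S, π g ∈ J' ↔ (g : G) ∈ coreAt z := fun g => by
    constructor
    · rintro ⟨k, hk, e⟩
      have e1 : π (k⁻¹ * g) = 1 := by rw [map_mul, map_inv, e, inv_mul_cancel]
      have e2 := mul_mem (mem_subgroupOf.1 hk) (H.A_le ((hπ0 _).1 e1))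
      simpa using e2
    · exact fun h => ⟨g, mem_subgroupOf.2 h, rfl⟩
  obtain ⟨χ, hχs, hχ1⟩ := H.quot v hv hv1
  have hker : H.A.subgroupOf S ≤ χ.ker := fun a ha => (hχ1 a).2 (H.A_le (mem_subgroupOf.1 ha))
  set χb : (↥S ⧸ H.A.subgroupOf S) →* AutX := QuotientGroup.lift _ χ hker with hχb
  have hχbm : ∀ g, χb (π g) = χ g := fun g => rfl
  have hJp : IsPGroup 2 J' := ((coreAt_isPGroup z).comap_subtype).map π
  have hJn : J'.Normal := by
    refine ⟨fun q hq r => ?_⟩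
    obtain ⟨g, rfl⟩ := hπs q
    obtain ⟨k, rfl⟩ := hπs r
    rw [← map_inv, ← map_mul, ← map_mul, hJmem]
    exact H.conj_mem_core (mem_Hv.1 k.2).1 ((hJmem g).1 hq)
  set C := centralizer ({zb} : Set (↥S ⧸ H.A.subgroupOf S)) with hC
  have hCtop : ∀ q, q ∈ C := fun q => mem_centralizer_one.2 (hcomm q).eq.symm
  have hcore : coreAt zb = J' := by
    refine le_antisymm (fun q hq => ?_) (le_coreAt hJp (fun q _ => hCtop q) (fun q _ => ?_))
    · haveI : (coreAt zb).Normal := ⟨fun a ha r => LargeExtra.conj_mem (coreAt_normal zb (hCtop r)) ha⟩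
      have hb : (coreAt zb).map χb = ⊥ := by
        haveI : ((coreAt zb).map χb).Normal := Subgroup.Normal.map inferInstance χb (fun x => by
          obtain ⟨g, hg⟩ := hχs x
          exact ⟨π g, hg⟩)
        exact eq_bot_of_two ((coreAt_isPGroup zb).map χb)
      obtain ⟨g, rfl⟩ := hπs q
      rw [hJmem, ← hχ1, ← hχbm, ← mem_bot, ← hb]
      exact mem_map_of_mem χb hq
    · exact mem_normalizer_iff.2 fun a => ⟨fun h => hJn.conj_mem a h q, fun h => by
        simpa [mul_assoc] using hJn.conj_mem _ h q⁻¹⟩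
  set P := Cfsg.pCore 2 ↥C with hP
  have hPmem : ∀ q : ↥C, q ∈ P ↔ (q : ↥S ⧸ H.A.subgroupOf S) ∈ J' := fun q => by
    rw [← hcore]
    exact (mem_map_iff_mem C.subtype_injective).symm
  have hzP : (⟨zb, hCtop _⟩ : ↥C) ∈ P := (hPmem _).2 ((hJmem _).2 H.z_mem)
  haveI hPn : P.Normal := Cfsg.pCore_normal 2 _
  have hPext : Cfsg.IsExtraspecial 2 ↥P := by
    have hlift : ∀ x : ↥P, ∃ g : ↥S, (g : G) ∈ coreAt z ∧ π g = ((x : ↥C) : ↥S ⧸ H.A.subgroupOf S) := fun x => by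
      obtain ⟨g, hg⟩ := hπs ((x : ↥C) : ↥S ⧸ H.A.subgroupOf S)
      exact ⟨g, (hJmem g).1 (hg ▸ (hPmem _).1 x.2), hg⟩
    set zP : ↥P := ⟨_, hzP⟩ with hzPdef
    have hzPo : orderOf zP = 2 := by rw [← orderOf_coe, ← orderOf_coe]; exact hzo
    have hzpow : ∀ {x : ↥P}, ((x : ↥C) : ↥S ⧸ H.A.subgroupOf S) = 1 ∨ ((x : ↥C) : ↥S ⧸ H.A.subgroupOf S) = zb → x ∈ zpowers zP := fun {x} h => by
      rcases h with h | h
      · rw [show x = 1 from Subtype.ext (Subtype.ext h)]; exact one_mem _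
      · rw [show x = zP from Subtype.ext (Subtype.ext h)]; exact mem_zpowers _
    refine isExtraspecial_of (z := zP) (FiniteGroup.pCore_isPGroup 2) hzPo (fun x => ⟨fun hx => ?_, fun hx y => ?_⟩)
      (fun x y => ?_) (fun x => ?_) ?_
    · obtain ⟨g, hg, e⟩ := hlift x
      refine hzpow ?_
      have hcen : g.1 ∈ H.A ∨ g.1 * z ∈ H.A := H.center g hg fun b hb => by
        have hy := hx ⟨⟨π ⟨b, H.core_le_Hv hv hb⟩, hCtop _⟩, (hPmem _).2 ((hJmem _).2 hb)⟩
        have hy' := congrArg (fun t : ↥P => ((t : ↥C) : ↥S ⧸ H.A.subgroupOf S)) hy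
        simp only [Subgroup.coe_mul, ← e] at hy'
        rw [← commutatorElement_eq_one_iff_mul_comm, ← map_commutatorElement, hπ0] at hy'
        rw [← commutatorElement_eq_one_iff_commute]
        rcases H.comm g hg b hb with h | h
        · exact h
        · exact absurd ((congrArg (· ∈ H.A) h).mp hy') H.z_not_A
      rcases hcen with h | h
      · exact Or.inl (e ▸ (hπ0 g).2 h)
      · right
        have h1 : π (g * ⟨z, hzS⟩) = 1 := (hπ0 _).2 h
        rw [map_mul, mul_eq_one_iff_eq_inv, inv_eq_of_mul_eq_one_right hzb2] at h1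
        exact e ▸ h1
    · obtain ⟨n, rfl⟩ := mem_zpowers_iff.1 hx
      refine ((show Commute zP y from Subtype.ext (Subtype.ext ?_)).zpow_left n).eq
      exact (hcomm _).eq
    · obtain ⟨g, hg, e⟩ := hlift x
      obtain ⟨k, hk, e'⟩ := hlift y
      refine hzpow ?_
      show ⁅((x : ↥C) : ↥S ⧸ H.A.subgroupOf S), ((y : ↥C) : ↥S ⧸ H.A.subgroupOf S)⁆ = 1 ∨ ⁅((x : ↥C) : ↥S ⧸ H.A.subgroupOf S), ((y : ↥C) : ↥S ⧸ H.A.subgroupOf S)⁆ = zb
      rw [← e, ← e', ← map_commutatorElement]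
      exact (H.comm g hg k hk).imp (fun h => (hπ0 _).2 ((congrArg (· ∈ H.A) h).mpr (one_mem _)))
        fun h => congrArg π (Subtype.ext h)
    · obtain ⟨g, hg, e⟩ := hlift x
      refine hzpow ?_
      show ((x : ↥C) : ↥S ⧸ H.A.subgroupOf S) ^ 2 = 1 ∨ ((x : ↥C) : ↥S ⧸ H.A.subgroupOf S) ^ 2 = zb
      rw [pow_two, ← e, ← map_mul]
      exact (H.sq g hg).imp (fun h => (hπ0 _).2 ((congrArg (· ∈ H.A) h).mpr (one_mem _)))
        fun h => congrArg π (Subtype.ext h)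
    · by_contra hne
      push Not at hne
      have hsub : (coreAt z : Set G) ⊆ ((H.A : Set G) ∪ (fun a => a * z) '' (H.A : Set G)) := fun a ha => by
        have hcen : a ∈ H.A ∨ a * z ∈ H.A := H.center a ha fun b hb => by
          have hy := hne ⟨⟨π ⟨a, H.core_le_Hv hv ha⟩, hCtop _⟩, (hPmem _).2 ((hJmem _).2 ha)⟩
            ⟨⟨π ⟨b, H.core_le_Hv hv hb⟩, hCtop _⟩, (hPmem _).2 ((hJmem _).2 hb)⟩
          have hy' := congrArg (fun t : ↥P => ((t : ↥C) : ↥S ⧸ H.A.subgroupOf S)) hy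
          simp only [Subgroup.coe_mul] at hy'
          rw [← commutatorElement_eq_one_iff_mul_comm, ← map_commutatorElement, hπ0] at hy'
          rw [← commutatorElement_eq_one_iff_commute]
          rcases H.comm a ha b hb with h | h
          · exact h
          · exact absurd ((congrArg (· ∈ H.A) h).mp hy') H.z_not_A
        rcases hcen with h | h
        · exact Or.inl h
        · exact Or.inr ⟨a * z, h, by show a * z * z = a; rw [mul_assoc, H.z2, mul_one]⟩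
      have h1 := (Set.ncard_le_ncard hsub (Set.toFinite _)).trans (Set.ncard_union_le _ _)
      have h2 := Set.ncard_image_le (f := fun a => a * z) (s := (H.A : Set G)) (hs := Set.toFinite _)
      have h3 : (coreAt z : Set G).ncard = 2048 := by rw [← Nat.card_coe_set_eq]; exact H.card_core
      have h4 : (H.A : Set G).ncard = 4 := by rw [← Nat.card_coe_set_eq]; exact H.A_card
      omega
  have hPc : Nat.card ↥P = 2 ^ 9 := by
    have e1 : Nat.card ↥P = Nat.card ↥J' := by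
      rw [← hcore]; exact (card_map_of_injective C.subtype_injective).symm
    set J0 := (coreAt z).subgroupOf S with hJ0
    have e2 : Nat.card ↥J' * 4 = 2048 := by
      have h := (π.domRestrict J0).ker.card_mul_index
      rw [index_ker, π.domRestrict_range, Nat.card_congr (subgroupOfEquivOfLe (H.core_le_Hv hv)).toEquiv,
        H.card_core] at h
      have hk : Nat.card ↥(π.domRestrict J0).ker = 4 := by
        rw [← H.A_card]
        refine Nat.card_congr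
          { toFun := fun x => ⟨((x.1 : ↥S) : G), (hπ0 _).1 x.2⟩
            invFun := fun a => ⟨⟨⟨a, H.A_le_Hv hv a.2⟩, mem_subgroupOf.2 (H.A_le a.2)⟩, (hπ0 _).2 a.2⟩
            left_inv := fun x => rfl
            right_inv := fun a => rfl }
      rw [hk, mul_comm] at h
      exact h
    omega
  have hPself : centralizer (P : Set ↥C) ≤ P := by
    intro q hq
    rw [hPmem]
    obtain ⟨g, hg⟩ := hπs (q : ↥S ⧸ H.A.subgroupOf S)
    rw [← hg, hJmem]
    refine H.faithful (mem_Hv.1 g.2).1 hv hv1 (mem_Hv.1 g.2).2 fun a ha => Or.inl ?_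
    have h := mem_centralizer_iff.1 hq ⟨π ⟨a, H.core_le_Hv hv ha⟩, hCtop _⟩ ((hPmem _).2 ((hJmem _).2 ha))
    have h' := congrArg (fun t : ↥C => (t : ↥S ⧸ H.A.subgroupOf S)) h.symm
    simp only [Subgroup.coe_mul, ← hg] at h'
    rw [← commutatorElement_eq_one_iff_mul_comm, ← map_commutatorElement, hπ0] at h'
    exact h'
  set f : ↥C →* AutX := χb.comp C.subtype with hf
  have hfs : Function.Surjective f := fun x => by
    obtain ⟨g, hg⟩ := hχs x
    exact ⟨⟨π g, hCtop _⟩, hg⟩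
  have hfk : f.ker = P := by
    ext q
    obtain ⟨g, hg⟩ := hπs (q : ↥S ⧸ H.A.subgroupOf S)
    rw [MonoidHom.mem_ker, hPmem, ← hg, hJmem, hf, MonoidHom.comp_apply]
    show χb (q : ↥S ⧸ H.A.subgroupOf S) = 1 ↔ _
    rw [← hg, hχbm, hχ1]
  let e : (↥C ⧸ P) ≃* MulAut (Cfsg.PSp 2 (ZMod 3)) :=
    (QuotientGroup.quotientMulEquivOfEq hfk.symm).trans (QuotientGroup.quotientKerEquivOfSurjective f hfs)
  obtain ⟨V, iV, ⟨A⟩⟩ := exists_aspace hzo (ZMod.card 3) hPext hPc hPself e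
  letI := iV
  -- the vectors
  have hcjmem : ∀ a : G, a ∈ coreAt z → H.c * a * H.c⁻¹ ∈ S := fun a ha =>
    H.core_le_Hv hv (H.conj_mem_core H.c_z ha)
  let Nv : G → V := fun a => if h : a ∈ S then A.π (π ⟨a, h⟩) else 0
  have Nv_eq : ∀ {a : G} (h : a ∈ S), Nv a = A.π (π ⟨a, h⟩) := fun {a} h => by simp only [Nv, dif_pos h]
  have hin : ∀ {a : G} (h : a ∈ coreAt z), π ⟨a, H.core_le_Hv hv h⟩ ∈ coreAt zb := fun {a} h =>
    hcore.symm ▸ (hJmem _).2 h
  have Nv_mul : ∀ a ∈ coreAt z, ∀ b ∈ coreAt z, Nv (a * b) = Nv a + Nv b := fun a ha b hb => by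
    rw [Nv_eq (H.core_le_Hv hv (mul_mem ha hb)), Nv_eq (H.core_le_Hv hv ha), Nv_eq (H.core_le_Hv hv hb),
      ← A.mul _ (hin ha) _ (hin hb), ← map_mul]
    rfl
  have Nv_surj : ∀ w, ∃ a ∈ coreAt z, Nv a = w := fun w => by
    obtain ⟨q, hq, rfl⟩ := A.surj w
    obtain ⟨g, rfl⟩ := hπs q
    rw [hcore, hJmem] at hq
    exact ⟨g, hq, Nv_eq g.2⟩
  have Nv_zero : ∀ a ∈ coreAt z, (Nv a = 0 ↔ a ∈ ZJ H) := fun a ha => by
    rw [Nv_eq (H.core_le_Hv hv ha), A.π_eq_zero (hin ha)]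
    refine or_congr (hπ0 _) ⟨fun h => ?_, fun h => ?_⟩
    · have h1 : π (⟨a, H.core_le_Hv hv ha⟩ * ⟨z, hzS⟩) = 1 := by rw [map_mul, h, ← hzb, hzb2]
      exact (hπ0 _).1 h1
    · have h1 : π (⟨a, H.core_le_Hv hv ha⟩ * ⟨z, hzS⟩) = 1 := (hπ0 _).2 h
      rw [map_mul, ← hzb, mul_eq_one_iff_eq_inv, inv_eq_of_mul_eq_one_right hzb2] at h1
      exact h1
  choose sec hsec hsec' using Nv_surj
  have Nv_eq' : ∀ {a b : G}, a ∈ coreAt z → b ∈ coreAt z → (Nv a = Nv b ↔ a * b⁻¹ ∈ ZJ H) := fun {a b} ha hb => by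
    have hab := mul_mem ha (inv_mem hb)
    rw [← Nv_zero _ hab]
    constructor
    · intro h
      have := Nv_mul _ hab b hb
      rw [inv_mul_cancel_right, h] at this
      exact right_eq_add.1 this
    · intro h
      have := Nv_mul _ hab b hb
      rw [inv_mul_cancel_right, h, zero_add] at this
      exact this
  have hΦwd : ∀ {a b : G}, a ∈ coreAt z → b ∈ coreAt z → Nv a = Nv b →
      Nv (H.c * a * H.c⁻¹) = Nv (H.c * b * H.c⁻¹) := fun {a b} ha hb h => by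
    rw [Nv_eq' (H.conj_mem_core H.c_z ha) (H.conj_mem_core H.c_z hb),
      show H.c * a * H.c⁻¹ * (H.c * b * H.c⁻¹)⁻¹ = H.c * (a * b⁻¹) * H.c⁻¹ by group]
    exact H.conj_ZJ H.c_z ((Nv_eq' ha hb).1 h)
  have hΦ : ∀ a ∈ coreAt z, Nv (H.c * sec (Nv a) * H.c⁻¹) = Nv (H.c * a * H.c⁻¹) := fun a ha =>
    hΦwd (hsec _) ha (hsec' _)
  let Φ : V →+ V := AddMonoidHom.mk' (fun w => Nv (H.c * sec w * H.c⁻¹)) fun x y => by
    rw [← Nv_mul _ (H.conj_mem_core H.c_z (hsec x)) _ (H.conj_mem_core H.c_z (hsec y)),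
      show H.c * sec x * H.c⁻¹ * (H.c * sec y * H.c⁻¹) = H.c * (sec x * sec y) * H.c⁻¹ by group]
    refine hΦwd (hsec _) (mul_mem (hsec x) (hsec y)) ?_
    rw [hsec', Nv_mul _ (hsec x) _ (hsec y), hsec', hsec']
  have Φ_eq : ∀ a ∈ coreAt z, Φ (Nv a) = Nv (H.c * a * H.c⁻¹) := hΦ
  have Φ3 : ∀ w, Φ (Φ (Φ w)) = w := fun w => by
    rw [← hsec' w, Φ_eq _ (hsec w), Φ_eq _ (H.conj_mem_core H.c_z (hsec w)),
      Φ_eq _ (H.conj_mem_core H.c_z (H.conj_mem_core H.c_z (hsec w))),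
      show H.c * (H.c * (H.c * sec w * H.c⁻¹) * H.c⁻¹) * H.c⁻¹ = (H.c * (H.c * H.c)) * sec w * (H.c * (H.c * H.c))⁻¹
        by group, H.c_inv]
    congr 1
    group
  have Φfp : ∀ w, Φ w = w → w = 0 := by
    intro w hw
    set a := sec w with ha
    have haJ : a ∈ coreAt z := hsec w
    rw [← hsec' w, ← ha, Φ_eq a haJ, hsec', ← hsec' w, ← ha] at hw
    have hζ := (Nv_eq' (H.conj_mem_core H.c_z haJ) haJ).1 hw
    -- correct by an element of the four-group
    obtain ⟨α, hα, hαc⟩ := H.mem_ZJ.1 hζ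
    let T : ↥H.A → ↥H.A := fun β => ⟨H.c * β * H.c⁻¹ * β, mul_mem (H.A_norm _ H.c_z _ β.2) β.2⟩
    have hT : Function.Injective T := by
      intro β γ h
      have h' : H.c * (β : G) * H.c⁻¹ * β = H.c * γ * H.c⁻¹ * γ := congrArg Subtype.val h
      by_contra hne
      have hd : (β : G) * γ ∈ H.A := mul_mem β.2 γ.2
      have hd1 : (β : G) * γ ≠ 1 := fun e => hne (Subtype.ext (by
        rw [mul_eq_one_iff_eq_inv, H.A_inv γ.2] at e; exact e))
      refine H.c_move hd hd1 ?_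
      set γ' := H.c * (γ : G) * H.c⁻¹ with hγ'
      have hγ'A : γ' ∈ H.A := H.A_norm _ H.c_z _ γ.2
      calc H.c * ((β : G) * γ) * H.c⁻¹ = H.c * β * H.c⁻¹ * γ' := by rw [hγ']; group
        _ = H.c * β * H.c⁻¹ * β * β * γ' := by rw [mul_assoc (H.c * β * H.c⁻¹) (β : G) β, H.A_sq _ β.2, mul_one]
        _ = γ' * γ * β * γ' := by rw [h']
        _ = γ' * (γ * β) * γ' := by group
        _ = γ' * γ' * (γ * β) := by
          rw [mul_assoc γ', (H.A_central _ (mul_mem γ.2 β.2) γ' (H.A_le hγ'A)).eq, ← mul_assoc]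
        _ = β * γ := by rw [H.A_sq _ hγ'A, one_mul, (H.A_central _ γ.2 (β : G) (H.A_le β.2)).eq]
    obtain ⟨⟨β, hβ⟩, hTβ⟩ := (Finite.injective_iff_surjective.1 hT) ⟨α, hα⟩
    replace hTβ : H.c * β * H.c⁻¹ * β = α := congrArg Subtype.val hTβ
    set a' := a * β with ha'
    have ha'J : a' ∈ coreAt z := mul_mem haJ (H.A_le hβ)
    have key : H.c * a' * H.c⁻¹ = a' ∨ H.c * a' * H.c⁻¹ = a' * z := by
      have e1 : H.c * a' * H.c⁻¹ = H.c * a * H.c⁻¹ * a⁻¹ * a * (H.c * β * H.c⁻¹) := by rw [ha']; group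
      have hβ' : H.c * β * H.c⁻¹ = α * β := by rw [← hTβ, mul_assoc _ β β, H.A_sq β hβ, mul_one]
      rw [hβ'] at e1
      have hαa : α * a = a * α := (H.A_central α hα a haJ).eq
      have hzz : ∀ b ∈ coreAt z, z * b = b * z := fun b hb => (H.comm_z hb).eq
      rcases hαc with h | h <;> rw [h] at e1
      · left
        rw [e1, hαa, show a * α * (α * β) = a * (α * α) * β by group, H.A_sq α hα, mul_one]
      · right
        rw [e1, show α * z * a * (α * β) = α * (z * a) * α * β by group, hzz a haJ,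
          show α * (a * z) * α * β = α * a * (z * α) * β by group, hzz α (H.A_le hα), hαa,
          show a * α * (α * z) * β = a * (α * α) * (z * β) by group, H.A_sq α hα, mul_one, hzz β (H.A_le hβ),
          ← mul_assoc]
    have hfix : Commute H.c a' := by
      rcases key with h | h
      · exact comm_of_conj h
      · exfalso
        have hcz : H.c * z * H.c⁻¹ = z := conj_of_comm H.c_z.symm
        have e3 : H.c * (H.c * (H.c * a' * H.c⁻¹) * H.c⁻¹) * H.c⁻¹ = a' * z := by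
          rw [h, show H.c * (H.c * (a' * z) * H.c⁻¹) * H.c⁻¹ =
            H.c * (H.c * a' * H.c⁻¹ * (H.c * z * H.c⁻¹)) * H.c⁻¹ by group, hcz, h, mul_assoc a', H.z2, mul_one, h]
        rw [show H.c * (H.c * (H.c * a' * H.c⁻¹) * H.c⁻¹) * H.c⁻¹ =
          (H.c * (H.c * H.c)) * a' * (H.c * (H.c * H.c))⁻¹ by group, H.c_inv] at e3
        simp only [one_mul, inv_one, mul_one] at e3
        exact H.z_ne (mul_eq_left.1 e3.symm)
    rw [← hsec' w, ← ha, Nv_zero a haJ]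
    have e4 : a = a' * β := by rw [ha', mul_assoc, H.A_sq β hβ, mul_one]
    rw [e4]
    refine H.ZJ_mul ?_ (Or.inl hβ)
    rcases H.c_fix a' ha'J hfix with h | h <;> rw [h]
    exacts [H.one_ZJ, H.z_ZJ]
  have Φq : ∀ w, A.q (Φ w) = A.q w := fun w => by
    rw [← hsec' w, Φ_eq _ (hsec w), Nv_eq (hcjmem _ (hsec w)), Nv_eq (H.core_le_Hv hv (hsec w)),
      A.q_π _ (hin (H.conj_mem_core H.c_z (hsec w))), A.q_π _ (hin (hsec w)), ← map_mul, ← map_mul]
    congr 2
    refine Subtype.ext ?_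
    show H.c * sec w * H.c⁻¹ * (H.c * sec w * H.c⁻¹) = sec w * sec w
    rw [show H.c * sec w * H.c⁻¹ * (H.c * sec w * H.c⁻¹) = H.c * (sec w * sec w) * H.c⁻¹ by group]
    rcases H.sq _ (hsec w) with h | h <;> rw [h]
    · group
    · exact conj_of_comm H.c_z.symm
  -- the inner maps come from the centraliser of the four-group
  have hρ : ∀ (g : ↥S) (a : G), a ∈ coreAt z →
      A.ρ (A.χ ⟨π g, hCtop _⟩) (Nv a) = Nv ((g : G) * a * (g : G)⁻¹) := fun g a ha => by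
    rw [Nv_eq (H.core_le_Hv hv ha), A.ρ_π _ _ (hin ha),
      Nv_eq (H.core_le_Hv hv (H.conj_mem_core (mem_Hv.1 g.2).1 ha))]
    show A.π (π g * _ * (π g)⁻¹) = _
    rw [← map_inv, ← map_mul, ← map_mul]
    rfl
  let M : Subgroup (Cfsg.PSp 2 (ZMod 3)) :=
    { carrier := {x | ∃ g : ↥S, (∀ α ∈ H.A, Commute α (g : G)) ∧ A.χ ⟨π g, hCtop _⟩ = MulAut.conj x}
      one_mem' := ⟨1, fun α _ => Commute.one_right α, by
        rw [map_one MulAut.conj, ← map_one A.χ]
        congr 1⟩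
      mul_mem' := fun {x y} ⟨g, hg, eg⟩ ⟨k, hk, ek⟩ => ⟨g * k, fun α h => (hg α h).mul_right (hk α h), by
        rw [map_mul MulAut.conj, ← eg, ← ek, ← map_mul A.χ]
        congr 1⟩
      inv_mem' := fun {x} ⟨g, hg, eg⟩ => ⟨g⁻¹, fun α h => (hg α h).inv_right, by
        rw [map_inv MulAut.conj, ← eg, ← map_inv A.χ]
        congr 1⟩ }
  have hM : M = ⊤ := sq_top M fun x => by
    obtain ⟨⟨q, hq⟩, hg⟩ := A.χ_surj (MulAut.conj x)
    obtain ⟨g, rfl⟩ := hπs q
    refine ⟨g * g, fun α h => H.sq_comm_A (mem_Hv.1 g.2).1 hv hv1 (mem_Hv.1 g.2).2 h, ?_⟩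
    rw [map_mul MulAut.conj, ← hg, ← map_mul A.χ]
    congr 1
  have Φc : ∀ x w, Φ (A.inn x w) = A.inn x (Φ w) := fun x w => by
    obtain ⟨g, hgA, hgx⟩ := (show x ∈ M by rw [hM]; exact mem_top x)
    obtain ⟨hgz, -⟩ := mem_Hv.1 g.2
    have hinn : ∀ a ∈ coreAt z, A.inn x (Nv a) = Nv ((g : G) * a * (g : G)⁻¹) := fun a ha => by
      show A.ρ (MulAut.conj x) (Nv a) = _
      rw [← hgx, hρ g a ha]
    have hga := H.conj_mem_core hgz (hsec w)
    rw [← hsec' w, hinn _ (hsec w), Φ_eq _ hga, Φ_eq _ (hsec w), hinn _ (H.conj_mem_core H.c_z (hsec w))]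
    set j := ⁅(g : G), H.c⁆ with hj
    have hjJ : j ∈ coreAt z := H.c_commute hgz hgA
    set b := (g : G) * (sec w) * (g : G)⁻¹ with hb
    have e2 : (g : G) * (H.c * sec w * H.c⁻¹) * (g : G)⁻¹ = j * (H.c * b * H.c⁻¹) * j⁻¹ := by
      rw [hj, hb, commutatorElement_def]; group
    rw [e2]
    have hcb := H.conj_mem_core H.c_z hga
    rw [Nv_eq' hcb (mul_mem (mul_mem hjJ hcb) (inv_mem hjJ))]
    rcases H.conj_cases hjJ hcb with h | h <;> rw [h]
    · rw [mul_inv_cancel]; exact H.one_ZJ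
    · rw [mul_inv_rev, ← mul_assoc, H.z_inv]
      rw [show H.c * b * H.c⁻¹ * z * (H.c * b * H.c⁻¹)⁻¹ = z from conj_of_comm (H.comm_z hcb).symm]
      exact H.z_ZJ
  obtain ⟨K⟩ := A.exists_crdA (no_fixed A Φ Φfp Φ3 Φq Φc)
  let lin : G → Agrp := fun g => if h : g ∈ S then K.lin (π ⟨g, h⟩) else 1
  have lin_eq : ∀ {g : G} (h : g ∈ S), lin g = K.lin (π ⟨g, h⟩) := fun {g} h => by simp only [lin, dif_pos h]
  let nv : G → Vec := fun a => if h : a ∈ S then K.nv (π ⟨a, h⟩) else zeroV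
  have nv_eq : ∀ {a : G} (h : a ∈ S), nv a = K.nv (π ⟨a, h⟩) := fun {a} h => by simp only [nv, dif_pos h]
  have lin_mul : ∀ g ∈ S, ∀ h ∈ S, lin (g * h) = lin g * lin h := fun g hg h hh => by
    rw [lin_eq (mul_mem hg hh), lin_eq hg, lin_eq hh, ← K.lin_mul _ _ (hcomm _) (hcomm _), ← map_mul]
    rfl
  have lin_one : ∀ g ∈ S, (lin g = 1 ↔ g ∈ coreAt z) := fun g hg => by
    rw [lin_eq hg, K.lin_one _ (hcomm _), hcore, hJmem]
  have lin_surj : ∀ σ, ∃ g ∈ S, lin g = σ := fun σ => by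
    obtain ⟨q, -, rfl⟩ := K.lin_surj σ
    obtain ⟨g, rfl⟩ := hπs q
    exact ⟨g, g.2, lin_eq g.2⟩
  refine ⟨{ v_mem := hv, v_ne := hv1, nv := nv, nv_mul := fun a ha b hb => ?_, nv_surj := fun w => ?_, nv_zero := fun a ha => ?_,
            lin := lin, lin_mul := lin_mul, lin_one := lin_one, lin_conj := fun g hg a ha => ?_,
            lin_surj := lin_surj, lin_inner := fun g hg => ?_ }⟩
  · rw [nv_eq (H.core_le_Hv hv (mul_mem ha hb)), nv_eq (H.core_le_Hv hv ha), nv_eq (H.core_le_Hv hv hb),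
      ← K.nv_mul _ (hin ha) _ (hin hb), ← map_mul]
    rfl
  · obtain ⟨q, hq, rfl⟩ := K.nv_surj w
    obtain ⟨g, rfl⟩ := hπs q
    rw [hcore, hJmem] at hq
    exact ⟨g, hq, nv_eq g.2⟩
  · rw [nv_eq (H.core_le_Hv hv ha), K.nv_zero (hin ha), K.xs.toXSub.mem_zpowers_iff, ← A.π_eq_zero (hin ha),
      ← Nv_eq (H.core_le_Hv hv ha)]
    exact Nv_zero a ha
  · rw [lin_eq hg, nv_eq (H.core_le_Hv hv (H.conj_mem_core (mem_Hv.1 hg).1 ha)), nv_eq (H.core_le_Hv hv ha),
      ← K.lin_conj _ (hcomm _) _ (hin ha), ← map_inv, ← map_mul, ← map_mul]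
    rfl
  · let Λ : ↥S →* Agrp := MonoidHom.mk' (fun k => lin k) fun a b => lin_mul a a.2 b b.2
    have hΛs : Function.Surjective Λ := fun σ => (lin_surj σ).elim fun k h => ⟨⟨k, h.1⟩, h.2⟩
    let CA : Subgroup ↥S := (centralizer (H.A : Set G)).subgroupOf S
    have hCA : ∀ {k : ↥S}, k ∈ CA ↔ ∀ α ∈ H.A, Commute α (k : G) := fun {k} => mem_centralizer_iff
    have hsq : ∀ σ : Agrp, σ * σ ∈ CA.map Λ := fun σ => by
      obtain ⟨k, rfl⟩ := hΛs σ
      exact ⟨k * k, hCA.2 fun α h => H.sq_comm_A (mem_Hv.1 k.2).1 hv hv1 (mem_Hv.1 k.2).2 h, map_mul Λ k k⟩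
    have hback : ∀ k : ↥S, Λ k ∈ CA.map Λ → k ∈ CA := fun k ⟨m, hm, e⟩ => by
      have h1 : ((m⁻¹ * k : ↥S) : G) ∈ coreAt z := (lin_one _ (m⁻¹ * k).2).1 (by
        show Λ (m⁻¹ * k) = 1
        rw [map_mul, map_inv, e, inv_mul_cancel])
      have h2 : m⁻¹ * k ∈ CA := hCA.2 fun α h => H.A_central α h _ h1
      simpa using mul_mem hm h2
    constructor
    · intro hgA
      by_contra hgL
      obtain ⟨s, hsz, hsv, hs⟩ := H.swap v hv hv1
      have hsS : s ∈ S := mem_Hv.2 ⟨hsz, hsv⟩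
      obtain ⟨w, hw, hw1, hwv⟩ : ∃ w ∈ H.A, w ≠ 1 ∧ w ≠ v := by
        by_contra h
        push Not at h
        have hsub : (H.A : Set G) ⊆ ({1, v} : Set G) := fun x hx => by
          by_cases h1 : x = 1
          · exact Or.inl h1
          · exact Or.inr (h x hx h1)
        have h1 := Set.ncard_le_ncard hsub (Set.toFinite _)
        rw [Set.ncard_pair hv1.symm, ← Nat.card_coe_set_eq] at h1
        simp only [SetLike.coe_sort_coe, H.A_card] at h1
        omega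
      refine hs w hw hw1 hwv (hCA.1 (hback ⟨s, hsS⟩ ?_) w hw)
      -- both parts are in the image
      have hgM : Λ ⟨g, hg⟩ ∈ CA.map Λ := mem_map_of_mem Λ (hCA.2 hgA)
      by_cases hsL : (Λ ⟨s, hsS⟩).1 ∈ Lgrp
      · exact inner_of_sq _ hsq hsL
      · have h1 : (Λ ⟨g, hg⟩ * Λ ⟨s, hsS⟩).1 ∈ Lgrp := outer_mul (Λ _).2 (Λ _).2 hgL hsL
        have h2 := mul_mem (inv_mem hgM) (inner_of_sq _ hsq h1)
        rwa [inv_mul_cancel_left] at h2
    · intro hgL α hα
      exact hCA.1 (hback ⟨g, hg⟩ (inner_of_sq _ hsq hgL)) α hα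

end Hyp

end Cfsg.Agent.Fi23Two
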