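import Cfsg.Agent.Lib.Fi23Two.Cases
import Cfsg.Agent.Lib.Involutions.Basic
import Cfsg.Agent.Lib.McLTwoA8.Isolated

/-!
With small centralisers `z` is isolated; otherwise the four-group is normal.
-/

set_option autoImplicit false
set_option linter.style.haveILetI false
set_option linter.unusedSectionVars false

namespace Cfsg.Agent.Fi23Two

open Subgroup LargeExtra
open scoped commutatorElement
open Cfsg.Agent.Fi22Two (comm_of_conj conj_of_comm conj_comm comm_elem_eq)

universe u v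

/-- A group of odd order normalised by a four-group is generated by the three fixed subgroups. -/
theorem four_gen {G : Type*} [Group G] [Finite G] {O N : Subgroup G} (hodd : Odd (Nat.card O)) {a b : G}
    (ha : a * a = 1) (hb : b * b = 1) (hab : Commute a b) (hna : ∀ o ∈ O, a * o * a⁻¹ ∈ O)
    (hnb : ∀ o ∈ O, b * o * b⁻¹ ∈ O)
    (hN : ∀ o ∈ O, Commute a o ∨ Commute b o ∨ Commute (a * b) o → o ∈ N) : O ≤ N := by
  obtain ⟨k, hk⟩ := hodd
  set m := k + 1 with hm
  have hroot : ∀ o ∈ O, o ^ m * o ^ m = o := by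
    intro o ho
    rw [← pow_add, show m + m = 2 * k + 1 + 1 by omega, ← hk, pow_succ,
      show o ^ Nat.card O = 1 from orderOf_dvd_iff_pow_eq_one.1 (orderOf_dvd_natCard O ho), one_mul]
  have hinj : ∀ p ∈ O, ∀ q ∈ O, p * p = q * q → p = q := fun p hp q hq e => by
    rw [← hroot p hp, ← hroot q hq, ← (Commute.refl p).mul_pow, ← (Commute.refl q).mul_pow, e]
  intro g hg
  set w := g⁻¹ * (a * g * a⁻¹) with hw
  have hwO : w ∈ O := mul_mem (inv_mem hg) (hna g hg)
  set s := w ^ m with hs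
  have hsO : s ∈ O := pow_mem hwO m
  have hai : a⁻¹ = a := inv_eq_of_mul_eq_one_right ha
  have hwa : a * w * a⁻¹ = w⁻¹ := by
    rw [hw, hai, show a * (g⁻¹ * (a * g * a)) * a = a * g⁻¹ * a * g * (a * a) by group, ha, mul_one, mul_inv_rev,
      inv_inv, mul_inv_rev, mul_inv_rev, hai]
    group
  have hsa : a * s * a⁻¹ = s⁻¹ := by rw [hs, ← conj_pow, hwa, inv_pow]
  have hc : Commute a (g * s) := by
    refine comm_of_conj ?_
    rw [show a * (g * s) * a⁻¹ = a * g * a⁻¹ * (a * s * a⁻¹) by group, hsa,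
      show a * g * a⁻¹ = g * w by rw [hw, mul_inv_cancel_left],
      show g * w * s⁻¹ = g * (s * s) * s⁻¹ by rw [hs, hroot w hwO]]
    group
  suffices hsN : s ∈ N by
    have h1 := mul_mem (hN _ (mul_mem hg hsO) (Or.inl hc)) (inv_mem hsN)
    rwa [mul_inv_cancel_right] at h1
  -- the inverted element is a product of a fixed element, an inverted one, and the first again
  set t := b * s * b⁻¹ with ht
  have htO : t ∈ O := hnb s hsO
  have hta : a * t * a⁻¹ = t⁻¹ := by
    rw [ht, show a * (b * s * b⁻¹) * a⁻¹ = a * b * s * (a * b)⁻¹ by group, hab.eq,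
      show b * a * s * (b * a)⁻¹ = b * (a * s * a⁻¹) * b⁻¹ by group, hsa]
    group
  set r := s ^ m with hr
  have hrO : r ∈ O := pow_mem hsO m
  have hra : a * r * a⁻¹ = r⁻¹ := by rw [hr, ← conj_pow, hsa, inv_pow]
  set W := r⁻¹ * t * r⁻¹ with hW
  have hWO : W ∈ O := mul_mem (mul_mem (inv_mem hrO) htO) (inv_mem hrO)
  have hWa : a * W * a⁻¹ = W⁻¹ := by
    rw [hW, show a * (r⁻¹ * t * r⁻¹) * a⁻¹ = (a * r * a⁻¹)⁻¹ * (a * t * a⁻¹) * (a * r * a⁻¹)⁻¹ by group,
      hra, hta]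
    group
  set X := r * W ^ m * r with hX
  have hXO : X ∈ O := mul_mem (mul_mem hrO (pow_mem hWO m)) hrO
  have hXa : a * X * a⁻¹ = X⁻¹ := by
    rw [hX, show a * (r * W ^ m * r) * a⁻¹ = a * r * a⁻¹ * (a * W ^ m * a⁻¹) * (a * r * a⁻¹) by group, hra,
      ← conj_pow, hWa, inv_pow]
    group
  have hsr : s⁻¹ = r⁻¹ * r⁻¹ := by rw [← mul_inv_rev, hr, hroot s hsO]
  have heq : X * s⁻¹ * X = t := by
    rw [hX, hsr, show r * W ^ m * r * (r⁻¹ * r⁻¹) * (r * W ^ m * r) = r * (W ^ m * W ^ m) * r by group,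
      hroot W hWO, hW]
    group
  have hbi : b⁻¹ = b := inv_eq_of_mul_eq_one_right hb
  have hXb : b * X * b⁻¹ = X := by
    set Y := b * X * b⁻¹ with hY
    have hYO : Y ∈ O := hnb X hXO
    have htb : b * t * b⁻¹ = s := by
      rw [ht, hbi, show b * (b * s * b) * b = b * b * s * (b * b) by group, hb, one_mul, mul_one]
    have h1 : Y * t⁻¹ * Y = s := by
      have e := congrArg (fun q => b * q * b⁻¹) heq
      change b * (X * s⁻¹ * X) * b⁻¹ = b * t * b⁻¹ at e
      rw [show b * (X * s⁻¹ * X) * b⁻¹ = b * X * b⁻¹ * (b * s * b⁻¹)⁻¹ * (b * X * b⁻¹) by group, ← hY, ← ht,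
        htb] at e
      exact e
    have h2 : Y * s⁻¹ * Y = t := by
      rw [← h1]
      group
    have h3 := hinj (r⁻¹ * Y * r⁻¹) (mul_mem (mul_mem (inv_mem hrO) hYO) (inv_mem hrO))
      (r⁻¹ * X * r⁻¹) (mul_mem (mul_mem (inv_mem hrO) hXO) (inv_mem hrO)) (by
        rw [show r⁻¹ * Y * r⁻¹ * (r⁻¹ * Y * r⁻¹) = r⁻¹ * (Y * (r⁻¹ * r⁻¹) * Y) * r⁻¹ by group,
          show r⁻¹ * X * r⁻¹ * (r⁻¹ * X * r⁻¹) = r⁻¹ * (X * (r⁻¹ * r⁻¹) * X) * r⁻¹ by group, ← hsr, h2, heq])
    exact mul_left_cancel (mul_right_cancel h3)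
  set x := X ^ m with hx
  have hxO : x ∈ O := pow_mem hXO m
  have hxb : Commute b x := comm_of_conj (by rw [hx, ← conj_pow, hXb])
  have hxa : a * x * a⁻¹ = x⁻¹ := by rw [hx, ← conj_pow, hXa, inv_pow]
  set y := x⁻¹ * s * x⁻¹ with hy
  have hyO : y ∈ O := mul_mem (mul_mem (inv_mem hxO) hsO) (inv_mem hxO)
  have hya : a * y * a⁻¹ = y⁻¹ := by
    rw [hy, show a * (x⁻¹ * s * x⁻¹) * a⁻¹ = (a * x * a⁻¹)⁻¹ * (a * s * a⁻¹) * (a * x * a⁻¹)⁻¹ by group,
      hxa, hsa]
    group
  have hyb : b * y * b⁻¹ = y⁻¹ := by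
    rw [hy, show b * (x⁻¹ * s * x⁻¹) * b⁻¹ = (b * x * b⁻¹)⁻¹ * (b * s * b⁻¹) * (b * x * b⁻¹)⁻¹ by group,
      conj_of_comm hxb, ← ht, ← heq]
    rw [show X = x * x from (hroot X hXO).symm]
    group
  have hyab : Commute (a * b) y := by
    refine comm_of_conj ?_
    rw [show a * b * y * (a * b)⁻¹ = a * (b * y * b⁻¹) * a⁻¹ by group, hyb,
      show a * y⁻¹ * a⁻¹ = (a * y * a⁻¹)⁻¹ by group, hya, inv_inv]
  have hdec : s = x * y * x := by rw [hy]; group
  rw [hdec]
  have hxN := hN x hxO (Or.inr (Or.inl hxb))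
  exact mul_mem (mul_mem hxN (hN y hyO (Or.inr (Or.inr hyab)))) hxN

/-- A 2-group in a subgroup is conjugate into a subgroup of odd index. -/
theorem conj_into {G : Type*} [Group G] [Finite G] {B C P : Subgroup G}
    (hodd : Odd (B.subgroupOf C).index) (hP : IsPGroup 2 P) (hPC : P ≤ C) :
    ∃ k ∈ C, ∀ p ∈ P, k * p * k⁻¹ ∈ B := by
  haveI : Fact (Nat.Prime 2) := ⟨Nat.prime_two⟩
  have hP' : IsPGroup 2 ↥(P.subgroupOf C) := hP.comap_subtype
  obtain ⟨q, hq⟩ := hP'.nonempty_fixed_point_of_prime_not_dvd_card (↥C ⧸ B.subgroupOf C) (by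
    rw [← index_eq_card]
    exact fun h => (Nat.not_even_iff_odd.2 hodd) (even_iff_two_dvd.2 h))
  obtain ⟨k, rfl⟩ := QuotientGroup.mk_surjective q
  refine ⟨(k : G)⁻¹, inv_mem k.2, fun p hp => ?_⟩
  have h : (QuotientGroup.mk ((⟨p, hPC hp⟩ : ↥C) * k) : ↥C ⧸ B.subgroupOf C) = QuotientGroup.mk k :=
    hq ⟨⟨p, hPC hp⟩, mem_subgroupOf.2 hp⟩
  rw [eq_comm, QuotientGroup.eq, mem_subgroupOf] at h
  change (k : G)⁻¹ * (p * k) ∈ B at h
  rwa [inv_inv, mul_assoc]

variable {G : Type u} [Group G] [Finite G] {z : G} {K : Type v} [Field K] [Fintype K]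

namespace Hyp

variable (H : Hyp z)

include H

theorem Hv_le_cz {v : G} : Hv z v ≤ centralizer ({z} : Set G) := inf_le_left

/-- An element normalising the four-group and of order at most two fixes an involution of it. -/
theorem fixed_of_norm {g : G} (hg : ∀ a ∈ H.A, g * a * g⁻¹ ∈ H.A) (h2 : g * g = 1) :
    ∃ u ∈ H.A, u ≠ 1 ∧ Commute u g := by
  obtain ⟨w, hw, hw1⟩ := H.exists_ne_one
  set w' := g * w * g⁻¹ with hw'
  have hw'A : w' ∈ H.A := hg w hw
  by_cases he : w' = w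
  · exact ⟨w, hw, hw1, (comm_of_conj he).symm⟩
  refine ⟨w * w', mul_mem hw hw'A, fun e => he ?_, (comm_of_conj ?_).symm⟩
  · rw [mul_eq_one_iff_eq_inv, H.A_inv hw'A] at e
    exact e.symm
  · rw [show g * (w * w') * g⁻¹ = g * w * g⁻¹ * (g * g * w * (g * g)⁻¹) by rw [hw']; group, h2, ← hw',
      show w' * (1 * w * 1⁻¹) = w' * w by group]
    exact (H.A_central w' hw'A w (H.A_le hw)).eq

theorem index_cz {v : G} (hv : v ∈ H.A) (hv1 : v ≠ 1) :
    ((Hv z v).subgroupOf (centralizer ({z} : Set G))).index = 3 := by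
  classical
  set C := centralizer ({z} : Set G)
  set T := {a : G // a ∈ H.A ∧ a ≠ 1}
  have hz : ∀ g : ↥C, Commute z (g : G) := fun g => (mem_centralizer_one.1 g.2).symm
  let f : ↥C ⧸ (Hv z v).subgroupOf C → T := Quotient.lift
    (fun g : ↥C => ⟨(g : G) * v * (g : G)⁻¹, H.A_norm _ (hz g) v hv, fun e => hv1 (conj_eq_one_iff.1 e)⟩)
    (fun g g' h => by
      have h' := (mem_Hv.1 (mem_subgroupOf.1 (QuotientGroup.leftRel_apply.1 h))).2
      refine Subtype.ext ?_
      show (g : G) * v * (g : G)⁻¹ = (g' : G) * v * (g' : G)⁻¹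
      have e := conj_of_comm h'.symm
      change (g : G)⁻¹ * (g' : G) * v * ((g : G)⁻¹ * (g' : G))⁻¹ = v at e
      calc (g : G) * v * (g : G)⁻¹ = (g : G) * ((g : G)⁻¹ * (g' : G) * v * ((g : G)⁻¹ * (g' : G))⁻¹) *
            (g : G)⁻¹ := by rw [e]
        _ = _ := by group)
  have hbij : Function.Bijective f := by
    constructor
    · intro q q'
      refine Quotient.inductionOn₂ q q' fun g g' e => Quotient.sound ?_
      refine QuotientGroup.leftRel_apply.2 (mem_subgroupOf.2 (mem_Hv.2 ⟨(hz g).inv_right.mul_right (hz g'),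
        (comm_of_conj ?_).symm⟩))
      have e' : (g : G) * v * (g : G)⁻¹ = (g' : G) * v * (g' : G)⁻¹ := congrArg Subtype.val e
      calc (g : G)⁻¹ * (g' : G) * v * ((g : G)⁻¹ * (g' : G))⁻¹
          = (g : G)⁻¹ * ((g' : G) * v * (g' : G)⁻¹) * g := by group
        _ = v := by rw [← e']; group
    · rintro ⟨a, ha, ha1⟩
      obtain ⟨g, hg, e⟩ := H.c_trans hv ha hv1 ha1
      exact ⟨QuotientGroup.mk ⟨g, mem_centralizer_one.2 hg.eq.symm⟩, Subtype.ext e⟩
  rw [index_eq_card, Nat.card_congr (Equiv.ofBijective f hbij)]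
  have hT : Nat.card T = ((H.A : Set G) \ {1}).ncard := by
    rw [← Nat.card_coe_set_eq]
    rfl
  rw [hT, Set.ncard_diff_singleton_of_mem H.A.one_mem, ← Nat.card_coe_set_eq]
  simp only [SetLike.coe_sort_coe, H.A_card]

theorem card_cz {v : G} (hv : v ∈ H.A) (hv1 : v ≠ 1) :
    Nat.card ↥(centralizer ({z} : Set G)) = 3 * Nat.card ↥(Hv z v) := by
  rw [← ((Hv z v).subgroupOf (centralizer ({z} : Set G))).index_mul_card, H.index_cz hv hv1,
    Nat.card_congr (subgroupOfEquivOfLe (H.Hv_le_cz (v := v))).toEquiv]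

theorem card_conj_centralizer {g a b : G} (e : g * a * g⁻¹ = b) :
    Nat.card ↥(centralizer ({a} : Set G)) = Nat.card ↥(centralizer ({b} : Set G)) := by
  have hmap : centralizer ({b} : Set G) = (centralizer ({a} : Set G)).map (MulAut.conj g).toMonoidHom := by
    ext x
    constructor
    · intro hx
      refine ⟨g⁻¹ * x * g, mem_centralizer_one.2 ?_, by simp [mul_assoc]⟩
      have := conj_comm (g := g⁻¹) (show Commute x (g * a * g⁻¹) from e.symm ▸ mem_centralizer_one.1 hx)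
      simpa [mul_assoc, Commute, SemiconjBy] using this
    · rintro ⟨y, hy, rfl⟩
      rw [← e]
      exact mem_centralizer_one.2 (conj_comm (show Commute y a from mem_centralizer_one.1 hy)).eq
  rw [hmap, card_map_of_injective (f := (MulAut.conj g).toMonoidHom) (MulAut.conj g).injective]

/-- `z` is not conjugate to an involution with small centraliser. -/
theorem no_conj {v d g : G} (D : Pick H v d) (S : SmallAt z d) : g * z * g⁻¹ ≠ d := by
  intro e
  obtain ⟨O, hodd, hO, hn, hdec⟩ := S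
  have ez : g⁻¹ * d * g⁻¹⁻¹ = z := by rw [← e]; group
  have hO1 : ∀ o ∈ O, o = 1 := by
    intro o ho
    have := H.odd_bot (O := O.map (MulAut.conj g⁻¹).toMonoidHom)
      (by rwa [card_map_of_injective (f := (MulAut.conj g⁻¹).toMonoidHom) (MulAut.conj g⁻¹).injective])
      (by
        rintro _ ⟨p, hp, rfl⟩
        have := conj_comm (g := g⁻¹) (hO p hp)
        rwa [ez] at this)
      (by
        rintro j hj _ ⟨p, hp, rfl⟩
        refine ⟨_, hn (g * j * g⁻¹) ?_ p hp, ?_⟩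
        · have := conj_comm (g := g) (H.comm_z hj)
          rwa [e] at this
        · show g⁻¹ * (g * j * g⁻¹ * p * (g * j * g⁻¹)⁻¹) * g⁻¹⁻¹ = j * (g⁻¹ * p * g⁻¹⁻¹) * j⁻¹
          group) (mem_map_of_mem _ ho)
    exact conj_eq_one_iff.1 this
  have hle : centralizer ({d} : Set G) ≤ Hv z v := by
    intro c hc
    have hdc : Commute d c := (mem_centralizer_one.1 hc).symm
    obtain ⟨h, hh, o, ho, ec⟩ := hdec c hdc
    rw [hO1 o ho, mul_one] at ec
    subst ec
    exact D.mem_Hv_iff.2 ⟨hh, hdc⟩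
  have h1 : Nat.card ↥(centralizer ({d} : Set G)) ≤ Nat.card ↥(Hv z v) :=
    Nat.le_of_dvd Nat.card_pos (card_dvd_of_le hle)
  rw [← H.card_conj_centralizer e, H.card_cz D.v_mem D.v_ne, H.card_Hv D.v_mem D.v_ne] at h1
  omega

theorem small_index {v d : G} (D : Pick H v d) (S : SmallAt z d) :
    Odd ((Hv z v).subgroupOf (centralizer ({d} : Set G))).index := by
  obtain ⟨O, hodd, hO, hn, hdec⟩ := S
  obtain ⟨hN, hdvd⟩ := D.small_card hO hn hdec
  set C := centralizer ({d} : Set G)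
  haveI := hN
  have h1 : Nat.card ↥(O.subgroupOf C) = Nat.card O := by
    refine Nat.card_congr (subgroupOfEquivOfLe fun o ho => ?_).toEquiv
    exact mem_centralizer_one.2 (hO o ho).eq.symm
  have h2 := ((Hv z v).subgroupOf C).index_mul_card
  rw [Nat.card_congr (subgroupOfEquivOfLe D.Hv_le).toEquiv,
    (O.subgroupOf C).card_eq_card_quotient_mul_card_subgroup, h1] at h2
  have h3 : ((Hv z v).subgroupOf C).index * Nat.card ↥(Hv z v) ∣ Nat.card O * Nat.card ↥(Hv z v) := by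
    rw [h2, mul_comm (Nat.card O)]
    exact Nat.mul_dvd_mul hdvd dvd_rfl
  exact hodd.of_dvd_nat (Nat.dvd_of_mul_dvd_mul_right Nat.card_pos h3)

theorem cover_all {v a : G} (hv : v ∈ H.A) (hv1 : v ≠ 1) (ha : a = z ∨ a = v ∨ a = v * z)
    (hv0 : Odd ((Hv z v).subgroupOf (centralizer ({v} : Set G))).index)
    (hv2 : Odd ((Hv z v).subgroupOf (centralizer ({v * z} : Set G))).index) {P : Subgroup G} (hP : IsPGroup 2 P)
    (hPa : ∀ p ∈ P, Commute a p) : ∃ k, Commute a k ∧ ∀ p ∈ P, k * p * k⁻¹ ∈ Hv z v := by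
  have hodd : Odd ((Hv z v).subgroupOf (centralizer ({a} : Set G))).index := by
    rcases ha with rfl | rfl | rfl
    exacts [(H.index_cz hv hv1).symm ▸ ⟨1, rfl⟩, hv0, hv2]
  obtain ⟨k, hk, hk'⟩ := conj_into hodd hP fun p hp => mem_centralizer_one.2 (hPa p hp).eq.symm
  exact ⟨k, (mem_centralizer_one.1 hk).symm, hk'⟩

theorem mem_normalizer_A {g : G} (h : ∀ a ∈ H.A, g * a * g⁻¹ ∈ H.A) : g ∈ normalizer (H.A : Set G) := by
  have hmap : H.A.map (MulAut.conj g).toMonoidHom = H.A := by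
    refine Subgroup.eq_of_le_of_card_ge ?_ ?_
    · rintro _ ⟨a, ha, rfl⟩
      exact h a ha
    · rw [card_map_of_injective (f := (MulAut.conj g).toMonoidHom) (MulAut.conj g).injective]
  refine mem_normalizer_iff.2 fun a => ⟨h a, fun ha => ?_⟩
  obtain ⟨b, hb, e⟩ : g * a * g⁻¹ ∈ H.A.map (MulAut.conj g).toMonoidHom := hmap.symm ▸ ha
  have e' : b = a := mul_left_cancel (mul_right_cancel (show g * b * g⁻¹ = g * a * g⁻¹ from e))
  exact e' ▸ hb

/-- The data when all centralisers are small. -/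
def smallFus (hd : ∀ v ∈ H.A, v ≠ 1 → SmallAt z (v * z)) (hs : ∀ v ∈ H.A, v ≠ 1 → SmallAt z v) : Fus H where
  N := centralizer ({z} : Set G)
  cent _ h := mem_centralizer_one.2 h.eq.symm
  no_z v hv hv1 _ := ⟨H.no_conj ⟨hv, hv1, Or.inl rfl⟩ (hs v hv hv1), H.no_conj ⟨hv, hv1, Or.inr rfl⟩ (hd v hv hv1)⟩
  small := hd
  cover v hv hv1 a ha P hP hPa := H.cover_all hv hv1 ha (H.small_index ⟨hv, hv1, Or.inl rfl⟩ (hs v hv hv1))
    (H.small_index ⟨hv, hv1, Or.inr rfl⟩ (hd v hv hv1)) hP hPa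
  U v hv hv1 g ha hy := by
    obtain ⟨O, hodd, hO, hn, hdec⟩ := hs v hv hv1
    set y := g * z * g⁻¹ with hydef
    have hyJ : ∀ j ∈ coreAt z, Commute y j := by
      intro j hj
      have hj' : Commute v (g⁻¹ * j * g) := by
        have := conj_comm (g := g⁻¹) (H.ZJ_central ha hj)
        simpa [mul_assoc] using this
      obtain ⟨h, hh, o, ho, e⟩ := hdec _ hj'
      have hvh : Commute v h := by
        have := hj'.mul_right (hO o ho).inv_right
        rwa [e, mul_inv_cancel_right] at this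
      have h1 : ⁅z, g⁻¹ * j * g⁆ ∈ O := by
        rw [e, commutatorElement_def, show z * (h * o) * z⁻¹ * (h * o)⁻¹ = z * h * o * z⁻¹ * o⁻¹ * h⁻¹ by group,
          hh.eq, show h * z * o * z⁻¹ * o⁻¹ * h⁻¹ = h * (z * o * z⁻¹ * o⁻¹) * h⁻¹ by group]
        exact hn h hvh _ (mul_mem (hn z (H.comm_zA hv).symm o ho) (inv_mem ho))
      have h2 : ⁅y, j⁆ = MulAut.conj g ⁅z, g⁻¹ * j * g⁆ := by
        simp only [hydef, MulAut.conj_apply, commutatorElement_def]
        group
      obtain ⟨m, hm⟩ := (coreAt_isPGroup z) ⟨_, H.bracket_mem hy hj⟩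
      have hm' := congrArg Subtype.val hm
      rw [SubmonoidClass.coe_pow, OneMemClass.coe_one] at hm'
      have hd' := orderOf_dvd_natCard O h1
      rw [← MulEquiv.orderOf_eq (MulAut.conj g), ← h2] at hd'
      exact commutatorElement_eq_one_iff_commute.1 (orderOf_eq_one_iff.1 (Nat.eq_one_of_dvd_coprimes
        ((Nat.coprime_two_right.2 hodd).pow_right m) hd' (orderOf_dvd_of_pow_eq_one hm')))
    obtain ⟨α, hα, e⟩ := H.mem_ZJ.1 (H.center y (H.self y hy hyJ) hyJ)
    by_cases hα1 : α = 1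
    · subst hα1
      rcases e with e | e
      · exact absurd (conj_eq_one_iff.1 e) H.z_ne
      · rw [one_mul] at e
        exact mem_centralizer_one.2 (comm_of_conj e).eq
    · rcases e with e | e
      · exact absurd e (H.no_conj ⟨hα, hα1, Or.inl rfl⟩ (hs α hα hα1))
      · exact absurd e (H.no_conj ⟨hα, hα1, Or.inr rfl⟩ (hd α hα hα1))
  wN g hg _ ha := H.A_norm g (mem_centralizer_one.1 hg).symm _ ha
  adj _ _ _ g hg hne _ _ := absurd (conj_of_comm (show Commute g z from mem_centralizer_one.1 hg)) hne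

/-- With small centralisers `z` is isolated. -/
theorem isolated (hd : ∀ v ∈ H.A, v ≠ 1 → SmallAt z (v * z)) (hs : ∀ v ∈ H.A, v ≠ 1 → SmallAt z v) :
    centralizer ({z} : Set G) ⊔ Cfsg.oddCore G = ⊤ :=
  McLTwoA8.sup_oddCore_of_isolated z (orderOf_eq_prime (by rw [pow_two, H.z2]) H.z_ne) fun g hg =>
    conj_of_comm (show Commute g z from mem_centralizer_one.1 ((H.smallFus hd hs).fusion hg))

theorem card_CA (hK : Fintype.card K = 4) (B : Big H K) :
    Nat.card ↥(centralizer (H.A : Set G)) = 4 * 9196830720 := by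
  obtain ⟨φ, hφ, hφ1⟩ := B.2.2
  have hk : φ.ker = H.A.subgroupOf (centralizer (H.A : Set G)) := by
    ext x
    exact (hφ1 x).trans mem_subgroupOf.symm
  have hle : H.A ≤ centralizer (H.A : Set G) := fun a ha =>
    mem_centralizer_iff.2 fun b hb => (H.A_central b hb a (H.A_le ha)).eq
  rw [φ.ker.card_eq_card_quotient_mul_card_subgroup,
    Nat.card_congr (QuotientGroup.quotientKerEquivOfSurjective φ hφ).toEquiv, card_psu hK, hk,
    Nat.card_congr (subgroupOfEquivOfLe hle).toEquiv, H.A_card, mul_comm]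

theorem big_index (hK : Fintype.card K = 4) (B : Big H K) {v : G} (hv : v ∈ H.A) (hv1 : v ≠ 1) :
    ((Hv z v).subgroupOf (centralizer ({v} : Set G))).index = 693 := by
  have hle : Hv z v ≤ centralizer ({v} : Set G) := inf_le_right
  have h := ((Hv z v).subgroupOf (centralizer ({v} : Set G))).index_mul_card
  rw [Nat.card_congr (subgroupOfEquivOfLe hle).toEquiv, B.2.1 v hv hv1, H.card_CA hK B, H.card_Hv hv hv1] at h
  omega

theorem no_z_big (hK : Fintype.card K = 4) (B : Big H K) {v g : G} (hv : v ∈ H.A) (hv1 : v ≠ 1) :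
    g * z * g⁻¹ ≠ v := fun e => by
  have h := H.card_conj_centralizer e
  rw [H.card_cz hv hv1, H.card_Hv hv hv1, B.2.1 v hv hv1, H.card_CA hK B] at h
  omega

theorem cz_le_big (hd : ∀ v ∈ H.A, v ≠ 1 → SmallAt z (v * z)) (B : Big H K) {v k : G}
    (hv : v ∈ H.A) (hv1 : v ≠ 1) (hk : Commute (v * z) k) : k ∈ normalizer (H.A : Set G) := by
  obtain ⟨O, hodd, hO, hn, hdec⟩ := hd v hv hv1
  obtain ⟨h, hh, o, ho, rfl⟩ := hdec k hk
  refine mul_mem (H.mem_normalizer_A (H.A_norm h hh)) ?_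
  obtain ⟨w, hw, hw1, hwv⟩ : ∃ w ∈ H.A, w ≠ 1 ∧ w ≠ v :=
    ⟨_, H.A_norm _ H.c_z v hv, fun e => hv1 (conj_eq_one_iff.1 e), H.c_move hv hv1⟩
  have hdA : ∀ a ∈ H.A, Commute (v * z) a := fun a ha =>
    (H.A_central v hv a (H.A_le ha)).mul_left (H.comm_zA ha)
  have hvw : v * w ≠ 1 := fun e => hwv (by rw [mul_eq_one_iff_eq_inv, H.A_inv hw] at e; exact e.symm)
  have hin : ∀ a ∈ H.A, a ≠ 1 → ∀ p : G, Commute a p → p ∈ normalizer (H.A : Set G) :=
    fun a ha ha1 p hp => H.mem_normalizer_A (B.1 a ha ha1 p hp)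
  exact four_gen hodd (H.A_sq v hv) (H.A_sq w hw) (H.A_central v hv w (H.A_le hw))
    (fun p hp => hn v (hdA v hv) p hp) (fun p hp => hn w (hdA w hw) p hp) (by
      rintro p - (h' | h' | h')
      exacts [hin v hv hv1 p h', hin w hw hw1 p h', hin _ (mul_mem hv hw) hvw p h']) ho

/-- The data in the large case. -/
def bigFus (hK : Fintype.card K = 4) (hd : ∀ v ∈ H.A, v ≠ 1 → SmallAt z (v * z)) (B : Big H K) : Fus H where
  N := normalizer (H.A : Set G)
  cent h hh := H.mem_normalizer_A (H.A_norm h hh)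
  no_z v hv hv1 _ := ⟨H.no_z_big hK B hv hv1, H.no_conj ⟨hv, hv1, Or.inr rfl⟩ (hd v hv hv1)⟩
  small := hd
  cover v hv hv1 a ha P hP hPa := H.cover_all hv hv1 ha (H.big_index hK B hv hv1 ▸ ⟨346, rfl⟩)
    (H.small_index ⟨hv, hv1, Or.inr rfl⟩ (hd v hv hv1)) hP hPa
  U v hv hv1 g ha _ := by
    haveI := simple_psu hK
    obtain ⟨φ, hφ, hφ1⟩ := B.2.2
    obtain ⟨α, hα, e⟩ := H.mem_ZJ.1 ha
    have hα1 : α ≠ 1 := by
      rintro rfl
      rcases e with e | e
      · exact hv1 (conj_eq_one_iff.1 e)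
      · rw [one_mul] at e
        exact H.no_z_big hK B (g := g⁻¹) hv hv1 (by rw [← e]; group)
    have hCv : ∀ c ∈ centralizer (H.A : Set G), Commute v c := fun c hc => mem_centralizer_iff.1 hc v hv
    have hCα : ∀ c ∈ centralizer (H.A : Set G), Commute α c := fun c hc => mem_centralizer_iff.1 hc α hα
    rcases e with e | e
    swap
    · exfalso
      let ε : ↥(centralizer (H.A : Set G)) ≃* ↥((centralizer (H.A : Set G)).map (MulAut.conj g).toMonoidHom) :=
        equivMapOfInjective _ _ (MulAut.conj g).injective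
      refine Pick.no_big (v := α) (d := α * z) ⟨hα, hα1, Or.inr rfl⟩ hK (hd α hα hα1)
        (L := (centralizer (H.A : Set G)).map (MulAut.conj g).toMonoidHom) ?_ (φ := φ.comp ε.symm.toMonoidHom)
        (hφ.comp ε.symm.surjective) ?_
      · rintro _ ⟨l, hl, rfl⟩
        rw [← e]
        exact conj_comm (hCv l hl)
      · intro x hx
        obtain ⟨l, rfl⟩ := ε.surjective x
        rw [MonoidHom.comp_apply, MulEquiv.coe_toMonoidHom, ε.symm_apply_apply, hφ1] at hx
        show g * (l : G) * g⁻¹ * (g * (l : G) * g⁻¹) = 1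
        rw [show g * (l : G) * g⁻¹ * (g * (l : G) * g⁻¹) = g * ((l : G) * l) * g⁻¹ by group, H.A_sq _ hx]
        group
    set A' := H.A.map (MulAut.conj g).toMonoidHom with hA'
    have hnA' : ∀ c, Commute α c → ∀ x ∈ A', c * x * c⁻¹ ∈ A' := by
      rintro c hc _ ⟨a, ha', rfl⟩
      refine ⟨_, B.1 v hv hv1 (g⁻¹ * c * g) ?_ a ha', ?_⟩
      · rw [← e] at hc
        have := conj_comm (g := g⁻¹) hc
        simpa [mul_assoc] using this
      · show g * (g⁻¹ * c * g * a * (g⁻¹ * c * g)⁻¹) * g⁻¹ = c * (g * a * g⁻¹) * c⁻¹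
        group
    have hin : ∀ x ∈ A', x ∈ centralizer (H.A : Set G) → x ∈ H.A := by
      intro x hx hxC
      haveI hnm : ((A'.subgroupOf (centralizer (H.A : Set G))).map φ).Normal :=
        Subgroup.Normal.map ⟨fun p hp c => mem_subgroupOf.2 (hnA' _ (hCα _ c.2) _ (mem_subgroupOf.1 hp))⟩ φ hφ
      have hA2 : IsPGroup 2 A' :=
        (IsPGroup.of_card (n := 2) (by rw [H.A_card]; norm_num)).map _
      have hbot : (A'.subgroupOf (centralizer (H.A : Set G))).map φ = ⊥ := by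
        refine hnm.eq_bot_or_eq_top.resolve_right fun htop => ?_
        haveI : Fact (Nat.Prime 2) := ⟨Nat.prime_two⟩
        haveI : Finite (Cfsg.PSU 6 K 2) := Nat.finite_of_card_ne_zero (by rw [card_psu hK]; norm_num)
        obtain ⟨n, hn⟩ := ((hA2.comap_subtype (K := centralizer (H.A : Set G))).map φ).exists_card_eq
        change Nat.card ↥((A'.subgroupOf (centralizer (H.A : Set G))).map φ) = 2 ^ n at hn
        rw [htop, card_top, card_psu hK] at hn
        have h7 : 7 ∣ 2 ^ n := hn ▸ by norm_num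
        exact absurd ((Nat.prime_dvd_prime_iff_eq (by norm_num) Nat.prime_two).1
          ((by norm_num : Nat.Prime 7).dvd_of_dvd_pow h7)) (by norm_num)
      have h1 : φ ⟨x, hxC⟩ = 1 := by
        rw [← mem_bot, ← hbot]
        exact mem_map_of_mem φ (mem_subgroupOf.2 hx)
      exact (hφ1 _).1 h1
    have hle : A' ≤ H.A := by
      intro x hx
      refine hin x hx ?_
      by_contra hxC
      obtain ⟨a, ha', hxe⟩ := id hx
      have hαx : Commute α x := by
        rw [← e, ← hxe]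
        exact conj_comm (H.A_central v hv a (H.A_le ha'))
      have hxn := B.1 α hα hα1 x hαx
      -- commutators of `x` with the centraliser of the four-group lie in the four-group
      have hbr : ∀ c ∈ centralizer (H.A : Set G), ⁅x, c⁆ ∈ H.A := by
        intro c hc
        refine hin _ ?_ ?_
        · rw [commutatorElement_def, show x * c * x⁻¹ * c⁻¹ = x * (c * x⁻¹ * c⁻¹) by group]
          exact mul_mem hx (hnA' c (hCα c hc) _ (inv_mem hx))
        · rw [commutatorElement_def]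
          refine mul_mem ?_ (inv_mem hc)
          refine mem_centralizer_iff.2 fun b hb => ?_
          have hb' : x⁻¹ * b * x ∈ H.A := by
            have := B.1 α hα hα1 x⁻¹ hαx.inv_right b hb
            rwa [inv_inv] at this
          have := conj_comm (g := x) (show Commute (x⁻¹ * b * x) c from mem_centralizer_iff.1 hc _ hb')
          rw [show x * (x⁻¹ * b * x) * x⁻¹ = b by group] at this
          exact this.eq
      have hzC : z ∈ centralizer (H.A : Set G) := mem_centralizer_iff.2 fun b hb => (H.comm_zA hb).symm.eq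
      have hxz : Commute z x := by
        set β := ⁅x, z⁆ with hβ
        have hβA : β ∈ H.A := hbr z hzC
        have e1 : x * z * x⁻¹ = β * z := by rw [hβ, comm_elem_eq]
        by_contra hne
        refine H.no_conj (g := x) ⟨hβA, fun h1 => hne ?_, Or.inr rfl⟩ (hd β hβA fun h1 => hne ?_) e1
        all_goals
          rw [h1, one_mul] at e1
          exact (comm_of_conj e1).symm
      refine hxC (mem_centralizer_iff.2 fun b hb => (H.A_central b hb x (H.faithful hxz hα hα1 hαx fun j hj =>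
        H.A_le_ZJ (hbr j (mem_centralizer_iff.2 fun b hb => (H.A_central b hb j hj).eq)))).eq)
    exact H.mem_normalizer_A fun a ha' => hle ⟨a, ha', rfl⟩
  wN g hg v hv := (mem_normalizer_iff.1 hg v).1 hv
  adj v hv hv1 g hg _ k hk := by
    exact mul_mem hg (H.cz_le_big hd B hv hv1 hk)

/-- In the large case the four-group is normal. -/
theorem normal_big (hK : Fintype.card K = 4) (hd : ∀ v ∈ H.A, v ≠ 1 → SmallAt z (v * z)) (B : Big H K) :
    H.A.Normal := by
  obtain ⟨v, hv, hv1⟩ := H.exists_ne_one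
  let F := H.bigFus hK hd B
  have hz2 : ∀ {h a : G}, a * a = 1 → IsPGroup 2 (zpowers (h * a * h⁻¹)) := fun {h a} ha =>
    fun x => ⟨1, Subtype.ext (by
      obtain ⟨i, hi⟩ := mem_zpowers_iff.1 x.2
      rw [SubmonoidClass.coe_pow, OneMemClass.coe_one, ← hi, ← zpow_natCast, ← zpow_mul, mul_comm, zpow_mul, zpow_natCast, pow_one, pow_two,
        show h * a * h⁻¹ * (h * a * h⁻¹) = 1 by rw [show h * a * h⁻¹ * (h * a * h⁻¹) = h * (a * a) * h⁻¹ by group, ha]; group, one_zpow])⟩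
  -- conjugates of `z` and `v` commuting with an involution of the four-group
  have hzc : ∀ u ∈ H.A, u ≠ 1 → ∀ h : G, Commute u (h * z * h⁻¹) → h ∈ F.N := by
    intro u hu hu1 h hc
    obtain ⟨k, huk, hk⟩ := F.cover u hu hu1 u (Or.inr (Or.inl rfl)) _ (hz2 H.z2) (fun p hp => by
      obtain ⟨i, rfl⟩ := mem_zpowers_iff.1 hp
      exact hc.zpow_right i)
    have h1 := (mem_Hv.1 (hk _ (mem_zpowers _))).1
    rw [show k * (h * z * h⁻¹) * k⁻¹ = k * h * z * (k * h)⁻¹ by group] at h1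
    have h2 := mul_mem (inv_mem (H.mem_normalizer_A (B.1 u hu hu1 k huk) : k ∈ F.N)) (F.fusion h1)
    rwa [inv_mul_cancel_left] at h2
  have hvc : ∀ h : G, Commute v (h * v * h⁻¹) → h * v * h⁻¹ ∈ H.A := by
    intro h hc
    obtain ⟨k, hvk, hk⟩ := F.cover v hv hv1 v (Or.inr (Or.inl rfl)) _ (hz2 (H.A_sq v hv)) (fun p hp => by
      obtain ⟨i, rfl⟩ := mem_zpowers_iff.1 hp
      exact hc.zpow_right i)
    have h1 := (mem_Hv.1 (hk _ (mem_zpowers _))).1
    rw [show k * (h * v * h⁻¹) * k⁻¹ = k * h * v * (k * h)⁻¹ by group] at h1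
    obtain ⟨g', he, hg'⟩ := F.adjust hv hv1 (Or.inr (Or.inl rfl)) h1
    have hN := F.mem_N hv hv1 (hg' z (Or.inl rfl)).1 (hg' v (Or.inr (Or.inl rfl))).1
    have h2 : k * h * v * (k * h)⁻¹ ∈ H.A := he ▸ F.wN g' hN v hv
    have h3 := F.wN k⁻¹ (inv_mem (H.mem_normalizer_A (B.1 v hv hv1 k hvk))) _ h2
    rwa [show k⁻¹ * (k * h * v * (k * h)⁻¹) * k⁻¹⁻¹ = h * v * h⁻¹ by group] at h3
  suffices hall : ∀ g : G, g ∈ F.N from ⟨fun a ha g => F.wN g (hall g) a ha⟩
  intro g
  set y := g * z * g⁻¹ with hydef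
  have hy2 : y * y = 1 := Fus.conj_two F H.z2
  have hvi : v⁻¹ = v := H.A_inv hv
  have hyi : y⁻¹ = y := inv_eq_of_mul_eq_one_right hy2
  have hvv : v * v = 1 := H.A_sq v hv
  suffices hyN : y ∈ F.N by
    obtain ⟨u, hu, hu1, huy⟩ := H.fixed_of_norm (fun a ha => F.wN y hyN a ha) hy2
    exact hzc u hu hu1 g huy
  by_cases hc : Commute v y
  · exact H.mem_normalizer_A (B.1 v hv hv1 y hc)
  set p := v * y with hp
  have hpy : y = v * p := by rw [hp, ← mul_assoc, hvv, one_mul]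
  have hpp : v * p * v⁻¹ = p⁻¹ := by
    rw [hp, mul_inv_rev, hyi, hvi, ← mul_assoc, hvv, one_mul]
  have hsw : ∀ n : ℕ, p ^ n * v * (p ^ n)⁻¹ = p ^ (2 * n) * v := by
    intro n
    have h1 : v * p ^ n * v⁻¹ = (p ^ n)⁻¹ := by rw [← conj_pow, hpp, inv_pow]
    calc p ^ n * v * (p ^ n)⁻¹ = p ^ n * v * (v * p ^ n * v⁻¹) := by rw [h1]
      _ = p ^ n * (v * v) * p ^ n * v⁻¹ := by group
      _ = p ^ (2 * n) * v := by rw [hvv, mul_one, ← pow_add, two_mul, hvi]
  obtain ⟨k, hk⟩ | ⟨k, hk⟩ := (orderOf p).even_or_odd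
  swap
  · exfalso
    have h1 := hsw (k + 1)
    rw [show p ^ (2 * (k + 1)) = p by
      rw [show 2 * (k + 1) = orderOf p + 1 by omega, pow_succ, pow_orderOf_eq_one, one_mul]] at h1
    refine H.no_z_big hK B (g := (p ^ (k + 1))⁻¹ * v * g) hv hv1 ?_
    calc (p ^ (k + 1))⁻¹ * v * g * z * ((p ^ (k + 1))⁻¹ * v * g)⁻¹
        = (p ^ (k + 1))⁻¹ * (v * y * v⁻¹) * p ^ (k + 1) := by rw [hydef]; group
      _ = (p ^ (k + 1))⁻¹ * (p * v) * p ^ (k + 1) := by rw [hp, hvi]
      _ = (p ^ (k + 1))⁻¹ * (p ^ (k + 1) * v * (p ^ (k + 1))⁻¹) * p ^ (k + 1) := by rw [h1]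
      _ = v := by group
  set u := p ^ k with hu
  have hu2 : u * u = 1 := by rw [hu, ← pow_add, ← hk, pow_orderOf_eq_one]
  have hk0 : 0 < k := by
    have := orderOf_pos p
    omega
  have hu1 : u ≠ 1 := pow_ne_one_of_lt_orderOf (by omega) (by omega)
  have hui : u⁻¹ = u := inv_eq_of_mul_eq_one_right hu2
  have huv : Commute v u := comm_of_conj (by rw [hu, ← conj_pow, hpp, inv_pow, ← hu, hui])
  have huy : Commute u y := by
    rw [hpy]
    exact huv.symm.mul_right ((Commute.refl p).pow_left k)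
  obtain ⟨l, hl⟩ | ⟨l, hl⟩ := k.even_or_odd
  · have h1 : p ^ l * v * (p ^ l)⁻¹ = u * v := by rw [hsw l, hu, hl, two_mul]
    have h2 := hvc (p ^ l) (by rw [h1]; exact huv.mul_right (Commute.refl v))
    rw [h1, mul_mem_cancel_right hv] at h2
    exact H.mem_normalizer_A (B.1 u h2 hu1 y huy)
  · set h := p ^ l * v * g with hh
    have h1 : u * v = h * z * h⁻¹ := by
      calc u * v = p ^ (2 * l) * p * v := by rw [hu, hl, pow_succ]
        _ = p * (p ^ (2 * l) * v) := by rw [← pow_succ, pow_succ', mul_assoc]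
        _ = p * (p ^ l * v * (p ^ l)⁻¹) := by rw [hsw]
        _ = p * p ^ l * v * (p ^ l)⁻¹ := by group
        _ = p ^ l * (p * v) * (p ^ l)⁻¹ := by rw [← pow_succ', pow_succ]; group
        _ = p ^ l * (v * y * v) * (p ^ l)⁻¹ := by rw [hp]
        _ = p ^ l * (v * (g * z * g⁻¹) * v⁻¹) * (p ^ l)⁻¹ := by rw [hvi, hydef]
        _ = h * z * h⁻¹ := by rw [hh]; group
    have hhN := hzc v hv hv1 h (by rw [← h1]; exact huv.mul_right (Commute.refl v))
    set v' := h⁻¹ * v * h with hv'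
    have hv'A : v' ∈ H.A := by
      have := F.wN h⁻¹ (inv_mem hhN) v hv
      rwa [inv_inv] at this
    have hv'1 : v' ≠ 1 := fun e => hv1 (by
      rw [show v = h * v' * h⁻¹ by rw [hv']; group, e]
      group)
    have e2 : h⁻¹ * u * h = v' * z := by
      have e3 : u = h * z * h⁻¹ * v := by rw [← h1, mul_assoc, hvv, mul_one]
      rw [e3, ← (H.comm_zA hv'A).eq, hv']
      group
    have h3 : Commute (v' * z) (h⁻¹ * y * h) := by
      rw [← e2]
      have := conj_comm (g := h⁻¹) huy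
      rwa [inv_inv] at this
    have h4 := mul_mem (mul_mem hhN (H.cz_le_big hd B hv'A hv'1 h3 : h⁻¹ * y * h ∈ F.N)) (inv_mem hhN)
    rwa [show h * (h⁻¹ * y * h) * h⁻¹ = y by group] at h4

end Hyp

end Cfsg.Agent.Fi23Two
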