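import Cfsg.Agent.Lib.Fi23Two.Main
import Cfsg.Agent.Lib.Fi23Two.AutU6

/-!
The recognition by the centraliser of a two-central involution in the Fischer group on 23 letters, given the
characterisation by the centraliser in the Fischer group on 22 letters.
-/

set_option autoImplicit false
set_option linter.style.haveILetI false
set_option linter.unusedSectionVars false
set_option linter.unusedVariables false

namespace Cfsg.Agent.Fi23Two

universe u v w

/-- The statement, given the characterisation for 22 letters. -/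
theorem final {G : Type u} [Group G] [Finite G] (z : G) (hz : orderOf z = 2)
    {F : Type w} [Field F] [Fintype F] (hF : Fintype.card F = 3) {K : Type v} [Field K] [Fintype K] (hK : Fintype.card K = 4) (T : Thm22.{u, v} K)
    (V E : Subgroup ↥(Subgroup.centralizer ({z} : Set G))) (hVE : Cfsg.IsInternalDirectProduct V E (Cfsg.pCore 2 ↥(Subgroup.centralizer ({z} : Set G)))) (hV : Nat.card ↥V = 4) (hV2 : ∀ v ∈ V, v ^ 2 = 1)
    (hE : Cfsg.IsExtraspecial 2 ↥E) (hEc : Nat.card ↥E = 2 ^ 9)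
    (hCJ : Subgroup.centralizer ((Cfsg.pCore 2 ↥(Subgroup.centralizer ({z} : Set G))) : Set ↥(Subgroup.centralizer ({z} : Set G))) ≤ Cfsg.pCore 2 ↥(Subgroup.centralizer ({z} : Set G)))
    (zc c : ↥(Subgroup.centralizer ({z} : Set G))) (hzc : (zc : G) = z) (hc : orderOf c = 3)
    [hJc : (Cfsg.pCore 2 ↥(Subgroup.centralizer ({z} : Set G)) ⊔ Subgroup.zpowers c).Normal] (e : (↥(Subgroup.centralizer ({z} : Set G)) ⧸ (Cfsg.pCore 2 ↥(Subgroup.centralizer ({z} : Set G)) ⊔ Subgroup.zpowers c)) ≃* MulAut (Cfsg.PSp 2 F))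
    [hcz : ((Subgroup.zpowers c ⊔ Subgroup.zpowers zc).subgroupOf (Subgroup.centralizer ({c} : Set ↥(Subgroup.centralizer ({z} : Set G))))).Normal]
    (e' : (↥(Subgroup.centralizer ({c} : Set ↥(Subgroup.centralizer ({z} : Set G)))) ⧸ (Subgroup.zpowers c ⊔ Subgroup.zpowers zc).subgroupOf (Subgroup.centralizer ({c} : Set ↥(Subgroup.centralizer ({z} : Set G))))) ≃* Cfsg.PSp 2 F) :
    Subgroup.centralizer ({z} : Set G) ⊔ Cfsg.oddCore G = ⊤ ∨ Cfsg.Spor.IsoFi23 G ∨
      (∃ (W : Subgroup G) (hW : W.Normal), Nat.card ↥W = 4 ∧ (∀ w ∈ W, w ^ 2 = 1) ∧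
        Nonempty ((G ⧸ W) ≃* MulAut (Cfsg.PSU 6 K 2))) := by
  obtain ⟨H⟩ := exists_hyp z hz hF V E hVE hV hV2 hE hEc hCJ zc c hzc hc e e'
  rcases main H hK T (exists_extra H hVE hE hEc) with h | h | ⟨hn, hU, hzz⟩
  · exact Or.inl h
  · exact Or.inr (Or.inl h)
  · haveI := hn
    exact Or.inr (Or.inr ⟨H.A, hn, H.A_card, fun w hw => by rw [pow_two]; exact H.A_sq w hw,
      aut_iso H hzz hK hU⟩)

end Cfsg.Agent.Fi23Two
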