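import Cfsg.Agent.Lib.Fi23Two.Coord

/-!
The part of the core centralised by an involution; elements of odd order centralising it; lifts of elements
of order three.
-/

set_option autoImplicit false
set_option linter.style.haveILetI false
set_option linter.unusedSectionVars false

namespace Cfsg.Agent.Fi23Two

open Subgroup LargeExtra
open scoped commutatorElement
open Cfsg.Agent.U62Rec.Model Cfsg.Agent.U62Aut
open Cfsg.Agent.Fi22Two (fixV imV tvA comm_of_conj conj_of_comm comm_elem_eq)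

universe u

/-- A map of odd period commuting with an involution and fixing half of its fixed vectors is trivial. -/
theorem odd_model {σ τ : Agrp} (h2 : σ * σ = 1) (hc : Commute τ σ) {n : ℕ} (hn : Odd n) (hτn : τ ^ n = 1)
    {T : Set Vec} (hTτ : T ⊆ fixV τ)
    (hhalf : ∀ a ∈ fixV σ, ∀ b ∈ fixV σ, a ∉ T → b ∉ T → xorV a b ∈ T) : τ = 1 := by
  have hiter : ∀ w d : Vec, τ.1 w = xorV w d → τ.1 d = d → d = zeroV := by
    intro w d h1 hd
    have key : ∀ m : ℕ, (τ ^ m).1 w = if Odd m then xorV w d else w := by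
      intro m
      induction m with
      | zero => simp
      | succ m ih =>
        rw [pow_succ', Subgroup.coe_mul, Equiv.Perm.mul_apply, ih]
        by_cases hm : Odd m
        · rw [if_pos hm, if_neg (by simpa [Nat.odd_add_one] using hm), semi_xor τ.2, h1, hd, xor_cancel_right]
        · rw [if_neg hm, if_pos (by simpa [Nat.odd_add_one] using hm), h1]
    have h3 := key n
    rw [hτn, if_pos hn] at h3
    have h4 := congrArg (xorV w) (show w = xorV w d from h3)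
    rw [xorV_self, xor_cancel] at h4
    exact h4.symm
  have hcomm : ∀ w, τ.1 (σ.1 w) = σ.1 (τ.1 w) := fun w =>
    DFunLike.congr_fun (congrArg Subtype.val hc.eq) w
  have hfix : ∀ w ∈ fixV σ, τ.1 w = w := by
    intro w hw
    by_contra hne
    have hwT : w ∉ T := fun h => hne (hTτ h)
    have h1 : τ.1 w ∈ fixV σ := by
      show σ.1 (τ.1 w) = τ.1 w
      rw [← hcomm, show σ.1 w = w from hw]
    have h2' : τ.1 w ∉ T := fun h => hne (τ.1.injective (hTτ h : τ.1 (τ.1 w) = τ.1 w))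
    have hd := hiter w (xorV w (τ.1 w)) (xor_cancel _ _).symm (hTτ (hhalf w hw _ h1 hwT h2'))
    exact hne (xorV_eq_zero hd).symm
  refine Subtype.ext (Equiv.ext fun w => ?_)
  have hd2 : xorV w (τ.1 w) ∈ fixV σ := by
    have h3 := hfix _ (im_le_fix h2 ⟨w, rfl⟩)
    simp only [semi_xor τ.2, hcomm] at h3
    show σ.1 (xorV w (τ.1 w)) = xorV w (τ.1 w)
    rw [semi_xor σ.2]
    calc xorV (σ.1 w) (σ.1 (τ.1 w)) = xorV (σ.1 w) (xorV (τ.1 w) (xorV (τ.1 w) (σ.1 (τ.1 w)))) := by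
          rw [xor_cancel]
      _ = xorV (σ.1 w) (xorV (τ.1 w) (xorV w (σ.1 w))) := by rw [h3]
      _ = xorV w (τ.1 w) := by
          rw [xorV_comm w (σ.1 w), ← xor_assoc', xor_assoc' (σ.1 w) (τ.1 w), xorV_comm (τ.1 w) (xorV _ _),
            xor_assoc' (σ.1 w) w, xor_cancel]
  exact (xorV_eq_zero (hiter w _ (xor_cancel _ _).symm (hfix _ hd2))).symm

variable {G : Type u} [Group G] [Finite G] {z : G} {H : Hyp z}

namespace Coord

variable {v : G} (K : Coord H v)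

include K

/-- The vectors of the part of the core centralised by an element. -/
def CI (g : G) : Set Vec := K.nv '' {a | a ∈ coreAt z ∧ Commute g a}

theorem nv_eq_iff {a b : G} (ha : a ∈ coreAt z) (hb : b ∈ coreAt z) : K.nv a = K.nv b ↔ a * b⁻¹ ∈ ZJ H := by
  have hab := mul_mem ha (inv_mem hb)
  rw [← K.nv_zero _ hab]
  have h := K.nv_mul _ hab b hb
  rw [inv_mul_cancel_right] at h
  constructor
  · intro e
    rw [e] at h
    rw [← xor_cancel_right (K.nv b) (K.nv (a * b⁻¹)), ← h, xorV_self]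
  · intro e
    rw [h, e, xorV_comm, xorV_zero]

theorem mem_fix_iff {g a : G} (hg : g ∈ Hv z v) (ha : a ∈ coreAt z) :
    K.nv a ∈ fixV (K.lin g) ↔ ⁅g, a⁆ ∈ ZJ H := by
  show (K.lin g).1 (K.nv a) = K.nv a ↔ _
  rw [← K.lin_conj g hg a ha, K.nv_eq_iff (H.conj_mem_core (mem_Hv.1 hg).1 ha) ha, commutatorElement_def]

theorem CI_fix {g : G} (hg : g ∈ Hv z v) {w : Vec} (hw : w ∈ K.CI g) : w ∈ fixV (K.lin g) := by
  obtain ⟨a, ⟨ha, hc⟩, rfl⟩ := hw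
  rw [K.mem_fix_iff hg ha, commutatorElement_eq_one_iff_commute.2 hc]
  exact H.one_ZJ

theorem CI_xor {g : G} {a b : Vec} (ha : a ∈ K.CI g) (hb : b ∈ K.CI g) : xorV a b ∈ K.CI g := by
  obtain ⟨p, ⟨hp, hp'⟩, rfl⟩ := ha
  obtain ⟨q, ⟨hq, hq'⟩, rfl⟩ := hb
  exact ⟨p * q, ⟨mul_mem hp hq, hp'.mul_right hq'⟩, K.nv_mul p hp q hq⟩

theorem fix_of_commute {g h : G} (hh : h ∈ Hv z v) (hc : ∀ a ∈ coreAt z, Commute g a → Commute h a) :
    K.CI g ⊆ fixV (K.lin h) := by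
  rintro _ ⟨a, ⟨ha, hga⟩, rfl⟩
  exact K.CI_fix hh ⟨a, ⟨ha, hc a ha hga⟩, rfl⟩

theorem lin_eq_one {g : G} (hg : g ∈ Hv z v) (h : g ∈ coreAt z) : K.lin g = 1 := (K.lin_one g hg).2 h

theorem lin_sq {g : G} (hg : g ∈ Hv z v) (h2 : g * g = 1) : K.lin g * K.lin g = 1 := by
  rw [← K.lin_mul g hg g hg, h2]
  exact K.lin_eq_one (one_mem _) (one_mem _)

theorem lin_one' : K.lin 1 = 1 := K.lin_eq_one (one_mem _) (one_mem _)

theorem lin_inv {g : G} (hg : g ∈ Hv z v) : K.lin g⁻¹ = (K.lin g)⁻¹ :=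
  eq_inv_of_mul_eq_one_left (by rw [← K.lin_mul _ (inv_mem hg) _ hg, inv_mul_cancel, K.lin_one'])

theorem lin_pow {g : G} (hg : g ∈ Hv z v) (n : ℕ) : K.lin (g ^ n) = K.lin g ^ n := by
  induction n with
  | zero => rw [pow_zero, pow_zero, K.lin_one']
  | succ n ih => rw [pow_succ, K.lin_mul _ (pow_mem hg n) _ hg, ih, pow_succ]

/-- The commutator with an involution of a commutator. -/
theorem bracket_two {g b : G} (hz : Commute z g) (h2 : g * g = 1) (hb : b ∈ coreAt z) :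
    ⁅g, ⁅g, b⁆⁆ = 1 ∨ ⁅g, ⁅g, b⁆⁆ = z := by
  rw [show ⁅g, ⁅g, b⁆⁆ = (⁅g, b⁆ * ⁅g, b⁆)⁻¹ by
    simp [commutatorElement_def, inv_eq_of_mul_eq_one_right h2, mul_assoc, ← mul_assoc g g, h2]]
  rcases H.sq _ (H.bracket_mem hz hb) with h | h <;> rw [h]
  · exact Or.inl inv_one
  · exact Or.inr H.z_inv

theorem nv_bracket {g b : G} (hg : g ∈ Hv z v) (hb : b ∈ coreAt z) :
    K.nv ⁅g, b⁆ = xorV (K.nv b) ((K.lin g).1 (K.nv b)) := by
  have h1 : K.nv b⁻¹ = K.nv b := by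
    rw [K.nv_eq_iff (inv_mem hb) hb]
    rcases H.sq b hb with h | h
    · rw [show b⁻¹ * b⁻¹ = (b * b)⁻¹ by group, h, inv_one]; exact H.one_ZJ
    · rw [show b⁻¹ * b⁻¹ = (b * b)⁻¹ by group, h, H.z_inv]; exact H.z_ZJ
  rw [commutatorElement_def, K.nv_mul _ (H.conj_mem_core (mem_Hv.1 hg).1 hb) _ (inv_mem hb),
    K.lin_conj g hg b hb, h1, xorV_comm]

theorem comm_one_or_z {g a b : G} (ha : a ∈ coreAt z) (h : ⁅g, a⁆ = 1 ∨ ⁅g, a⁆ = z)
    (h' : ⁅g, b⁆ = 1 ∨ ⁅g, b⁆ = z) :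
    ⁅g, a * b⁆ = ⁅g, a⁆ * ⁅g, b⁆ := by
  rw [show ⁅g, a * b⁆ = ⁅g, a⁆ * (a * ⁅g, b⁆ * a⁻¹) by simp [commutatorElement_def, mul_assoc]]
  congr 1
  rcases h' with h | h <;> rw [h]
  · group
  · exact conj_of_comm (H.comm_z ha).symm

/-- The vectors with a lift whose commutator is `1` or `z` are centralised up to one translation. -/
theorem half {g : G} {a b : Vec} (ha : ∃ p ∈ coreAt z, K.nv p = a ∧ (⁅g, p⁆ = 1 ∨ ⁅g, p⁆ = z))
    (hb : ∃ p ∈ coreAt z, K.nv p = b ∧ (⁅g, p⁆ = 1 ∨ ⁅g, p⁆ = z)) (haI : a ∉ K.CI g) (hbI : b ∉ K.CI g) :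
    xorV a b ∈ K.CI g := by
  obtain ⟨p, hp, rfl, hp'⟩ := ha
  obtain ⟨q, hq, rfl, hq'⟩ := hb
  have e1 : ⁅g, p⁆ = z := hp'.resolve_left fun h =>
    haI ⟨p, ⟨hp, commutatorElement_eq_one_iff_commute.1 h⟩, rfl⟩
  have e2 : ⁅g, q⁆ = z := hq'.resolve_left fun h =>
    hbI ⟨q, ⟨hq, commutatorElement_eq_one_iff_commute.1 h⟩, rfl⟩
  refine ⟨p * q, ⟨mul_mem hp hq, commutatorElement_eq_one_iff_commute.1 ?_⟩, K.nv_mul p hp q hq⟩
  rw [K.comm_one_or_z hp hp' hq', e1, e2, H.z2]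

/-- Every fixed vector of an involution has a lift whose commutator with it is `1` or `z`. -/
theorem good_lift {g : G} (hg : g ∈ Hv z v) (h2 : g * g = 1) {w : Vec} (hw : w ∈ fixV (K.lin g)) :
    ∃ p ∈ coreAt z, K.nv p = w ∧ (⁅g, p⁆ = 1 ∨ ⁅g, p⁆ = z) := by
  obtain ⟨hgz, hgv⟩ := mem_Hv.1 hg
  obtain ⟨a, ha, rfl⟩ := K.nv_surj w
  have hs := K.lin_sq hg h2
  by_cases h1 : K.lin g = 1
  · exact ⟨a, ha, rfl, H.comm g ((K.lin_one g hg).1 h1) a ha⟩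
  by_cases htv : ∃ p, K.lin g = tvA p
  swap
  · push Not at htv
    rw [(shape_small hs h1 htv).1] at hw
    obtain ⟨u, hu⟩ := hw
    obtain ⟨b, hb, rfl⟩ := K.nv_surj u
    exact ⟨⁅g, b⁆, H.bracket_mem hgz hb, (K.nv_bracket hg hb).trans hu, K.bracket_two hgz h2 hb⟩
  obtain ⟨p, hp⟩ := htv
  refine ⟨a, ha, rfl, ?_⟩
  have hgA : ∀ α ∈ H.A, Commute α g := (K.lin_inner g hg).2 (by rw [hp]; exact tvV_mem p)
  have hgZ : ∀ ζ ∈ ZJ H, Commute ζ g := fun ζ hζ => H.ZJ_comm hζ hgz hgA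
  obtain ⟨x, hxL, hx3, hxc, hxline, hxfix⟩ := tv_free p
  obtain ⟨X, hX, rfl⟩ := K.lin_surj x
  obtain ⟨hXz, -⟩ := mem_Hv.1 hX
  have hXA : ∀ α ∈ H.A, Commute α X := (K.lin_inner X hX).2 hxL
  -- the hom on the fixed part
  have hψ : ∀ {a b : G}, a ∈ coreAt z → ⁅g, b⁆ ∈ ZJ H → ⁅g, a * b⁆ = ⁅g, a⁆ * ⁅g, b⁆ := fun {a b} ha hb => by
    rw [show ⁅g, a * b⁆ = ⁅g, a⁆ * (a * ⁅g, b⁆ * a⁻¹) by simp [commutatorElement_def, mul_assoc],
      conj_of_comm (H.ZJ_central hb ha).symm]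
  set a1 := X * a * X⁻¹ with ha1
  set a2 := X * a1 * X⁻¹ with ha2
  have ha1J : a1 ∈ coreAt z := H.conj_mem_core hXz ha
  have ha2J : a2 ∈ coreAt z := H.conj_mem_core hXz ha1J
  -- the action changes commutators with `g` by `1` or `z`
  have hstep : ∀ {b : G}, b ∈ coreAt z → ⁅g, b⁆ ∈ ZJ H →
      ⁅g, X * b * X⁻¹⁆ = ⁅g, b⁆ ∨ ⁅g, X * b * X⁻¹⁆ = z * ⁅g, b⁆ := fun {b} hb hbZ => by
    have hjS : g⁻¹ * (X⁻¹ * g * X) ∈ Hv z v := mul_mem (inv_mem hg) (mul_mem (mul_mem (inv_mem hX) hg) hX)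
    have hj : g⁻¹ * (X⁻¹ * g * X) ∈ coreAt z := by
      rw [← K.lin_one _ hjS, K.lin_mul _ (inv_mem hg) _ (mul_mem (mul_mem (inv_mem hX) hg) hX),
        K.lin_mul _ (mul_mem (inv_mem hX) hg) _ hX, K.lin_mul _ (inv_mem hX) _ hg, K.lin_inv hg, K.lin_inv hX,
        hp, mul_assoc (K.lin X)⁻¹, ← hxc.eq]
      group
    set j := g⁻¹ * (X⁻¹ * g * X) with hjdef
    have e : ⁅g, X * b * X⁻¹⁆ = X * ⁅g * j, b⁆ * X⁻¹ := by
      rw [hjdef]; simp [commutatorElement_def, mul_assoc]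
    have e' : ⁅g * j, b⁆ = g * ⁅j, b⁆ * g⁻¹ * ⁅g, b⁆ := by simp [commutatorElement_def, mul_assoc]
    rw [e, e']
    rcases H.comm j hj b hb with h | h <;> rw [h]
    · left
      rw [mul_one, mul_inv_cancel, one_mul, conj_of_comm (H.ZJ_comm hbZ hXz hXA).symm]
    · right
      rw [conj_of_comm hgz.symm, conj_of_comm ((hXz.mul_left (H.ZJ_comm hbZ hXz hXA))).symm]
  have hwa : ⁅g, a⁆ ∈ ZJ H := (K.mem_fix_iff hg ha).1 hw
  have hwa1 : ⁅g, a1⁆ ∈ ZJ H := by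
    rcases hstep ha hwa with h | h <;> rw [ha1, h]
    exacts [hwa, H.ZJ_mul H.z_ZJ hwa]
  have hwa2 : ⁅g, a2⁆ ∈ ZJ H := by
    rcases hstep ha1J hwa1 with h | h <;> rw [ha2, h]
    exacts [hwa1, H.ZJ_mul H.z_ZJ hwa1]
  -- the sum over the orbit lies in the line, so is a commutator
  set s := xorV (K.nv a) (xorV ((K.lin X).1 (K.nv a)) ((K.lin X).1 ((K.lin X).1 (K.nv a)))) with hs'
  have hsnv : K.nv (a * (a1 * a2)) = s := by
    rw [K.nv_mul _ ha _ (mul_mem ha1J ha2J), K.nv_mul _ ha1J _ ha2J, ha2, K.lin_conj X hX _ ha1J, ha1,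
      K.lin_conj X hX a ha]
  have hmove : ∀ u ∈ fixV (tvA p), (K.lin X).1 u ∈ fixV (tvA p) := fun u hu => by
    show (tvA p).1 ((K.lin X).1 u) = _
    rw [show (tvA p).1 ((K.lin X).1 u) = (K.lin X).1 ((tvA p).1 u) from
      (DFunLike.congr_fun (congrArg Subtype.val hxc.eq) u).symm, show (tvA p).1 u = u from hu]
  have hline : InLine p s := by
    refine hxfix s ?_ ?_
    · rw [hp] at hw
      exact fixV_xor hw (fixV_xor (hmove _ hw) (hmove _ (hmove _ hw)))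
    · have h3 : (K.lin X).1 ((K.lin X).1 ((K.lin X).1 (K.nv a))) = K.nv a :=
        DFunLike.congr_fun (congrArg Subtype.val hx3) (K.nv a)
      rw [hs', semi_xor (K.lin X).2, semi_xor (K.lin X).2, h3, xorV_comm (K.nv a), ← xor_assoc']
  have hb : ∃ b ∈ coreAt z, K.nv (a * (a1 * a2)) = K.nv ⁅g, b⁆ := by
    have him : s ∈ imV (K.lin g) := by
      -- the commutator vectors fill the line
      have hc := card_fix_im (tvA p)
      rw [card_tvA] at hc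
      have heq : imV (tvA p) = {u : Vec | InLine p u} := Set.eq_of_subset_of_ncard_le
        (fun u hu => im_tvA p hu) (by rw [line_card]; omega) (Set.toFinite _)
      rw [hp, heq]
      exact hline
    obtain ⟨u, hu⟩ := him
    obtain ⟨b, hb, rfl⟩ := K.nv_surj u
    exact ⟨b, hb, hsnv.trans (hu.symm.trans (K.nv_bracket hg hb).symm)⟩
  obtain ⟨b, hbJ, hbe⟩ := hb
  set ζ := ⁅g, b⁆⁻¹ * (a * (a1 * a2)) with hζdef
  have hbr := H.bracket_mem hgz hbJ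
  have hprod := mul_mem ha (mul_mem ha1J ha2J)
  have hζ : ζ ∈ ZJ H := by
    have h1 := (K.nv_eq_iff hprod hbr).1 hbe
    have h2 := H.ZJ_central h1 hbr
    rw [hζdef]
    convert h1 using 1
    calc ⁅g, b⁆⁻¹ * (a * (a1 * a2)) = ⁅g, b⁆⁻¹ * ((a * (a1 * a2)) * ⁅g, b⁆⁻¹ * ⁅g, b⁆) := by group
      _ = _ := by rw [h2.eq]; group
  have e1 : ⁅g, a * (a1 * a2)⁆ = ⁅g, a⁆ * (⁅g, a1⁆ * ⁅g, a2⁆) := by
    rw [hψ ha (by rw [hψ ha1J hwa2]; exact H.ZJ_mul hwa1 hwa2), hψ ha1J hwa2]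
  have e2 : ⁅g, a * (a1 * a2)⁆ = 1 ∨ ⁅g, a * (a1 * a2)⁆ = z := by
    rw [show a * (a1 * a2) = ⁅g, b⁆ * ζ by rw [hζdef]; group,
      hψ hbr (by rw [commutatorElement_eq_one_iff_commute.2 (hgZ ζ hζ).symm]; exact H.one_ZJ),
      commutatorElement_eq_one_iff_commute.2 (hgZ ζ hζ).symm, mul_one]
    exact K.bracket_two hgz h2 hbJ
  have hzc : Commute z ⁅g, a⁆ := H.comm_z (H.ZJ_mem hwa)
  have q1 : ∃ ε, (ε = 1 ∨ ε = z) ∧ ⁅g, a1⁆ = ε * ⁅g, a⁆ := by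
    rcases hstep ha hwa with h | h
    exacts [⟨1, Or.inl rfl, by rw [one_mul]; exact h⟩, ⟨z, Or.inr rfl, h⟩]
  obtain ⟨ε, hε, q1⟩ := q1
  have q2 : ∃ δ, (δ = 1 ∨ δ = z) ∧ ⁅g, a2⁆ = δ * ⁅g, a⁆ := by
    rcases hstep ha1J hwa1 with h | h
    · exact ⟨ε, hε, h.trans q1⟩
    · rcases hε with rfl | rfl
      · exact ⟨z, Or.inr rfl, by rw [show a2 = X * a1 * X⁻¹ from rfl, h, q1, one_mul]⟩
      · exact ⟨1, Or.inl rfl, by rw [show a2 = X * a1 * X⁻¹ from rfl, h, q1, ← mul_assoc, H.z2]⟩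
  obtain ⟨δ, hδ, q2⟩ := q2
  rw [e1, q1, q2] at e2
  have hsqa : ⁅g, a⁆ * ⁅g, a⁆ = 1 := H.ZJ_sq hwa
  have hεc : Commute ε ⁅g, a⁆ := by rcases hε with rfl | rfl; exacts [Commute.one_left _, hzc]
  have hδc : Commute δ ⁅g, a⁆ := by rcases hδ with rfl | rfl; exacts [Commute.one_left _, hzc]
  have e3 : ⁅g, a⁆ * (ε * ⁅g, a⁆ * (δ * ⁅g, a⁆)) = ε * δ * ⁅g, a⁆ := by
    calc ⁅g, a⁆ * (ε * ⁅g, a⁆ * (δ * ⁅g, a⁆)) = ⁅g, a⁆ * ε * (⁅g, a⁆ * δ) * ⁅g, a⁆ := by group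
      _ = ε * ⁅g, a⁆ * (δ * ⁅g, a⁆) * ⁅g, a⁆ := by rw [← hεc.eq, ← hδc.eq]
      _ = ε * (⁅g, a⁆ * δ) * (⁅g, a⁆ * ⁅g, a⁆) := by group
      _ = _ := by rw [hsqa, mul_one, ← hδc.eq, ← mul_assoc]
  rw [e3] at e2
  have key : ⁅g, a⁆ = (ε * δ)⁻¹ * (ε * δ * ⁅g, a⁆) := by group
  rcases hε with rfl | rfl <;> rcases hδ with rfl | rfl <;> rcases e2 with h | h <;> rw [h] at key <;>
    rw [key] <;> simp [H.z2, H.z_inv]

/-- Centralised vectors are at least half of the fixed ones. -/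
theorem CI_large {g : G} (hg : g ∈ Hv z v) (h2 : g * g = 1) :
    (fixV (K.lin g)).ncard ≤ 2 * (K.CI g).ncard := by
  by_cases hall : fixV (K.lin g) ⊆ K.CI g
  · have := Set.ncard_le_ncard hall (Set.toFinite _)
    omega
  obtain ⟨u, hu, huI⟩ := Set.not_subset.1 hall
  have hsub : fixV (K.lin g) ⊆ K.CI g ∪ xorV u '' K.CI g := by
    intro w hw
    by_cases hwI : w ∈ K.CI g
    · exact Or.inl hwI
    · exact Or.inr ⟨xorV u w, K.half (K.good_lift hg h2 hu) (K.good_lift hg h2 hw) huI hwI, xor_cancel u w⟩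
  have h1 := (Set.ncard_le_ncard hsub (Set.toFinite _)).trans (Set.ncard_union_le _ _)
  have h3 := Set.ncard_image_le (f := xorV u) (s := K.CI g) (hs := Set.toFinite _)
  omega

/-- An element of odd order commuting with an involution and centralising its centraliser in the core. -/
theorem odd_trivial {g o : G} (hg : g ∈ Hv z v) (h2 : g * g = 1) (ho : o ∈ Hv z v) (hgo : Commute g o)
    (hodd : Odd (orderOf o)) (hc : ∀ a ∈ coreAt z, Commute g a → Commute o a) : o = 1 := by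
  have hτ : K.lin o = 1 := odd_model (K.lin_sq hg h2)
    (show Commute (K.lin o) (K.lin g) by
      show K.lin o * K.lin g = K.lin g * K.lin o
      rw [← K.lin_mul o ho g hg, ← K.lin_mul g hg o ho, hgo.eq])
    hodd (by rw [← K.lin_pow ho, pow_orderOf_eq_one, K.lin_one'])
    (K.fix_of_commute ho hc)
    fun a ha b hb => K.half (K.good_lift hg h2 ha) (K.good_lift hg h2 hb)
  obtain ⟨k, hk⟩ := coreAt_isPGroup z ⟨o, (K.lin_one o ho).1 hτ⟩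
  have hk' := congrArg Subtype.val hk
  rw [SubmonoidClass.coe_pow, OneMemClass.coe_one] at hk'
  exact orderOf_eq_one_iff.1 (Nat.eq_one_of_dvd_coprimes ((Nat.coprime_two_right.2 hodd).pow_right k) dvd_rfl
    (orderOf_dvd_of_pow_eq_one hk'))

/-- An element of order three commuting with an inner involution modulo the core has a lift commuting with it. -/
theorem exists_lift {e : G} (he : e ∈ Hv z v) (he2 : e * e = 1) (him : fixV (K.lin e) = imV (K.lin e))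
    {x : Agrp} (hxL : x.1 ∈ Lgrp) (hx3 : x * x * x = 1) (hxc : Commute x (K.lin e)) :
    ∃ X ∈ Hv z v, K.lin X = x ∧ Commute X e := by
  obtain ⟨X, hX, rfl⟩ := K.lin_surj x
  obtain ⟨hez, -⟩ := mem_Hv.1 he
  have hXA : ∀ α ∈ H.A, Commute α X := (K.lin_inner X hX).2 hxL
  have hjS : e⁻¹ * (X * e * X⁻¹) ∈ Hv z v := mul_mem (inv_mem he) (mul_mem (mul_mem hX he) (inv_mem hX))
  have hj : e⁻¹ * (X * e * X⁻¹) ∈ coreAt z := by
    rw [← K.lin_one _ hjS, K.lin_mul _ (inv_mem he) _ (mul_mem (mul_mem hX he) (inv_mem hX)),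
      K.lin_mul _ (mul_mem hX he) _ (inv_mem hX), K.lin_mul _ hX _ he, K.lin_inv he, K.lin_inv hX, hxc.eq]
    group
  set j := e⁻¹ * (X * e * X⁻¹) with hjdef
  have hej : e * j * (e * j) = 1 := by
    rw [hjdef, show e * (e⁻¹ * (X * e * X⁻¹)) * (e * (e⁻¹ * (X * e * X⁻¹))) = X * (e * e) * X⁻¹ by group, he2]
    group
  have hbrk : ⁅e, j⁆ ∈ ZJ H := by
    have h1 : e * j * e = j⁻¹ := eq_inv_of_mul_eq_one_left (by rw [← hej]; group)
    rw [commutatorElement_def, inv_eq_of_mul_eq_one_right he2, h1, show j⁻¹ * j⁻¹ = (j * j)⁻¹ by group]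
    rcases H.sq j hj with h | h <;> rw [h]
    · rw [inv_one]; exact H.one_ZJ
    · rw [H.z_inv]; exact H.z_ZJ
  have hjf := (K.mem_fix_iff he hj).2 hbrk
  rw [him] at hjf
  obtain ⟨u, hu⟩ := hjf
  obtain ⟨i, hi, rfl⟩ := K.nv_surj u
  have hbi := H.bracket_mem hez hi
  have hζ0 : j * ⁅e, i⁆⁻¹ ∈ ZJ H :=
    (K.nv_eq_iff hj hbi).1 (hu.symm.trans (K.nv_bracket he hi).symm)
  set ζ := j * ⁅e, i⁆⁻¹ with hζdef
  have hζbr : Commute ζ ⁅e, i⁆ := H.ZJ_central hζ0 hbi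
  have hei : e * ⁅e, i⁆ = i * e * i⁻¹ := by
    rw [commutatorElement_def, inv_eq_of_mul_eq_one_right he2, ← mul_assoc, ← mul_assoc, ← mul_assoc, he2,
      one_mul]
  have hXe : X * e * X⁻¹ = i * e * i⁻¹ * ζ := by
    calc X * e * X⁻¹ = e * (ζ * ⁅e, i⁆) := by rw [hζdef, hjdef]; group
      _ = e * ⁅e, i⁆ * ζ := by rw [hζbr.eq, mul_assoc]
      _ = _ := by rw [hei]
  set X1 := i⁻¹ * X with hX1
  have hiS : i ∈ Hv z v := H.core_le_Hv K.v_mem hi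
  have hX1S : X1 ∈ Hv z v := mul_mem (inv_mem hiS) hX
  have hX1A : ∀ α ∈ H.A, Commute α X1 := fun α h => (H.A_central α h i hi).inv_right.mul_right (hXA α h)
  have hX1ζ : X1 * ζ * X1⁻¹ = ζ := conj_of_comm (H.ZJ_comm hζ0 (mem_Hv.1 hX1S).1 hX1A).symm
  have h1 : X1 * e * X1⁻¹ = e * ζ := by
    rw [hX1, show i⁻¹ * X * e * (i⁻¹ * X)⁻¹ = i⁻¹ * (X * e * X⁻¹) * i by group, hXe,
      show i⁻¹ * (i * e * i⁻¹ * ζ) * i = e * i⁻¹ * (ζ * i) by group, (H.ZJ_central hζ0 hi).eq,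
      ← mul_assoc, inv_mul_cancel_right]
  have h3 : X1 * X1 * X1 * e * (X1 * X1 * X1)⁻¹ = e * ζ := by
    rw [show X1 * X1 * X1 * e * (X1 * X1 * X1)⁻¹ = X1 * (X1 * (X1 * e * X1⁻¹) * X1⁻¹) * X1⁻¹ by group, h1,
      show X1 * (e * ζ) * X1⁻¹ = X1 * e * X1⁻¹ * (X1 * ζ * X1⁻¹) by group, h1, hX1ζ, mul_assoc e ζ ζ, H.ZJ_sq hζ0,
      mul_one, h1]
  have hlin : K.lin X1 = K.lin X := by
    rw [K.lin_mul _ (inv_mem hiS) _ hX, K.lin_eq_one (inv_mem hiS) (inv_mem hi), one_mul]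
  set k := X1 * X1 * X1 with hk
  have hkJ : k ∈ coreAt z := by
    rw [← K.lin_one _ (mul_mem (mul_mem hX1S hX1S) hX1S), K.lin_mul _ (mul_mem hX1S hX1S) _ hX1S,
      K.lin_mul _ hX1S _ hX1S, hlin, hx3]
  have hkS : k ∈ Hv z v := mul_mem (mul_mem hX1S hX1S) hX1S
  refine ⟨k⁻¹ * X1, mul_mem (inv_mem hkS) hX1S, ?_, comm_of_conj ?_⟩
  · rw [K.lin_mul _ (inv_mem hkS) _ hX1S, K.lin_eq_one (inv_mem hkS) (inv_mem hkJ), one_mul, hlin]
  · rw [show k⁻¹ * X1 * e * (k⁻¹ * X1)⁻¹ = k⁻¹ * (X1 * e * X1⁻¹) * k by group, h1, ← h3]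
    group

end Coord

end Cfsg.Agent.Fi23Two
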