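import Cfsg.Agent.Lib.Fi23Two.Setup
import Cfsg.Prelude.Def_TwoFusion

/-!
The hypotheses `Hyp` from an involution centraliser whose 2-core is the product of a four-group and an extraspecial
group of order `2^9` and which has an element of order three as described.
-/

set_option autoImplicit false
set_option linter.style.haveILetI false
set_option linter.unusedSectionVars false
set_option linter.unusedVariables false

namespace Cfsg.Agent.Fi23Two

open Subgroup LargeExtra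
open scoped commutatorElement
open Cfsg.Agent.U62Aut (AutX)

theorem card_mul_set {H : Type*} [Group H] {S₁ S₂ S : Subgroup H}
    (hset : ∀ x, x ∈ S ↔ ∃ a ∈ S₁, ∃ b ∈ S₂, x = a * b) (hdis : S₁ ⊓ S₂ = ⊥) :
    Nat.card S = Nat.card S₁ * Nat.card S₂ := by
  rw [← Nat.card_prod]
  refine (Nat.card_congr (Equiv.ofBijective
    (fun p : S₁ × S₂ => (⟨p.1 * p.2, (hset _).2 ⟨p.1, p.1.2, p.2, p.2.2, rfl⟩⟩ : S)) ⟨?_, ?_⟩)).symm
  · rintro ⟨a, b⟩ ⟨a', b'⟩ e
    have e1 : (a : H) * b = a' * b' := congrArg Subtype.val e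
    have h1 : (a' : H)⁻¹ * a = b' * (b : H)⁻¹ := by
      rw [eq_mul_inv_iff_mul_eq, mul_assoc, e1, inv_mul_cancel_left]
    have h2 : (a' : H)⁻¹ * a ∈ S₁ ⊓ S₂ :=
      ⟨S₁.mul_mem (S₁.inv_mem a'.2) a.2, h1 ▸ S₂.mul_mem b'.2 (S₂.inv_mem b.2)⟩
    rw [hdis, mem_bot] at h2
    have ha : (a : H) = a' := (inv_mul_eq_one.1 h2).symm
    rw [h2] at h1
    exact Prod.ext (Subtype.ext ha) (Subtype.ext (mul_inv_eq_one.1 h1.symm).symm)
  · intro x
    obtain ⟨a, ha, b, hb, e⟩ := (hset x).1 x.2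
    exact ⟨(⟨a, ha⟩, ⟨b, hb⟩), Subtype.ext e.symm⟩

theorem inf_bot_of_coprime {H : Type*} [Group H] {S₁ S₂ : Subgroup H}
    (h : Nat.Coprime (Nat.card S₁) (Nat.card S₂)) : S₁ ⊓ S₂ = ⊥ :=
  disjoint_iff.1 (Subgroup.disjoint_of_coprime_natCard h)

theorem prod_set {H : Type*} [Group H] {S₁ S₂ S : Subgroup H} (hp : Cfsg.IsInternalDirectProduct S₁ S₂ S) (x : H) :
    x ∈ S ↔ ∃ a ∈ S₁, ∃ b ∈ S₂, x = a * b := by
  obtain ⟨h1, h2, hc, -, hsup⟩ := hp
  constructor
  · intro hx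
    have hn : S₁ ≤ Subgroup.normalizer (S₂ : Set H) := fun a ha =>
      Subgroup.centralizer_le_normalizer _ fun b hb => (hc a ha b hb).symm
    rw [← hsup, ← SetLike.mem_coe, Subgroup.coe_mul_of_left_le_normalizer_right S₁ S₂ hn] at hx
    obtain ⟨a, ha, b, hb, rfl⟩ := hx
    exact ⟨a, ha, b, hb, rfl⟩
  · rintro ⟨a, ha, b, hb, rfl⟩
    exact mul_mem (h1 ha) (h2 hb)

/-- The hypotheses inside the centraliser. -/
structure Pre {H : Type*} [Group H] (J V E : Subgroup H) (zc c : H) : Prop where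
  prod : Cfsg.IsInternalDirectProduct V E J
  cardV : Nat.card V = 4
  V2 : ∀ v ∈ V, v * v = 1
  xs : Cfsg.IsExtraspecial 2 E
  cardE : Nat.card E = 2 ^ 9
  self : centralizer (J : Set H) ≤ J
  normal : J.Normal
  two : IsPGroup 2 J
  zc_cen : ∀ g, Commute zc g
  zc2 : zc * zc = 1
  zc_ne : zc ≠ 1
  c3 : orderOf c = 3
  sup_normal : (J ⊔ zpowers c).Normal
  c_cent : ∀ j ∈ J, Commute c j → j ∈ zpowers c ⊔ zpowers zc
  cardC : Nat.card (centralizer ({c} : Set H)) = 155520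
  indexL : (J ⊔ zpowers c).index = 51840

namespace Pre

variable {H : Type*} [Group H] [Finite H] {J V E : Subgroup H} {zc c : H} (P : Pre J V E zc c)

include P

theorem zc_mem : zc ∈ J := P.self fun g _ => (P.zc_cen g).eq.symm

theorem conj_mem (g : H) {j : H} (hj : j ∈ J) : g * j * g⁻¹ ∈ J := P.normal.conj_mem j hj g

theorem cube : c * c * c = 1 := by rw [← pow_three', ← P.c3, pow_orderOf_eq_one]

theorem eq_one_of_cube {x : H} (hx : x ∈ J) (h3 : x ^ 3 = 1) : x = 1 := by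
  obtain ⟨k, hk⟩ := P.two ⟨x, hx⟩
  have h2 : x ^ 2 ^ k = 1 := congrArg Subtype.val hk
  have hg : Nat.gcd 3 (2 ^ k) = 1 := (Nat.Coprime.pow_right k (by norm_num : Nat.Coprime 3 2))
  have := pow_gcd_eq_one.2 ⟨h3, h2⟩
  rwa [hg, pow_one] at this

theorem c_not_mem : c ∉ J := fun h => by
  have h1 := P.eq_one_of_cube h (by rw [← P.c3, pow_orderOf_eq_one])
  have h2 := P.c3
  rw [h1, orderOf_one] at h2
  norm_num at h2

/-- The elements fixed by the element of order three. -/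
theorem c_fix {j : H} (hj : j ∈ J) (hc : Commute c j) : j = 1 ∨ j = zc := by
  have h := P.c_cent j hj hc
  haveI : (zpowers zc).Normal := ⟨fun x hx g => by
    obtain ⟨n, rfl⟩ := mem_zpowers_iff.1 hx
    rw [((P.zc_cen g).zpow_left n).eq.symm, mul_inv_cancel_right]
    exact hx⟩
  rw [← SetLike.mem_coe, Subgroup.mul_normal] at h
  obtain ⟨x, hx, y, hy, e⟩ := h
  have hy' : y = 1 ∨ y = zc := by
    obtain ⟨n, rfl⟩ := mem_zpowers_iff.1 hy
    rcases Int.even_or_odd' n with ⟨m, rfl | rfl⟩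
    · exact Or.inl (by rw [zpow_mul, zpow_two, P.zc2, one_zpow])
    · exact Or.inr (by rw [zpow_add, zpow_mul, zpow_two, P.zc2, one_zpow, one_mul, zpow_one])
  have hxJ : x ∈ J := by
    have hyJ : y ∈ J := by rcases hy' with rfl | rfl; exacts [one_mem _, P.zc_mem]
    have : x = j * y⁻¹ := eq_mul_inv_of_mul_eq e
    rw [this]
    exact mul_mem hj (inv_mem hyJ)
  have hx1 : x = 1 := P.eq_one_of_cube hxJ (by
    obtain ⟨n, rfl⟩ := mem_zpowers_iff.1 hx
    rw [← zpow_natCast, ← zpow_mul, mul_comm, zpow_mul, zpow_natCast, ← P.c3, pow_orderOf_eq_one, one_zpow])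
  rw [← e, hx1]
  simpa using hy'

theorem card_J : Nat.card J = 2048 := by
  rw [card_mul_set (prod_set P.prod) P.prod.2.2.2.1, P.cardV, P.cardE]
  norm_num

theorem V_central {v j : H} (hv : v ∈ V) (hj : j ∈ J) : Commute v j := by
  obtain ⟨a, ha, b, hb, rfl⟩ := (prod_set P.prod j).1 hj
  have hva : Commute v a := by
    have h1 := P.V2 _ (mul_mem hv ha)
    have h2 := P.V2 v hv
    have h3 := P.V2 a ha
    calc v * a = (v * a)⁻¹ := (inv_eq_of_mul_eq_one_right h1).symm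
      _ = a * v := by rw [mul_inv_rev, inv_eq_of_mul_eq_one_right h2, inv_eq_of_mul_eq_one_right h3]
  exact hva.mul_right (P.prod.2.2.1 v hv b hb)

/-- The centre of the extraspecial factor. -/
theorem center_E : ∃ t ∈ E, t ≠ 1 ∧ (∀ e ∈ E, Commute t e) ∧
    (∀ e ∈ E, (∀ f ∈ E, Commute e f) → e = 1 ∨ e = t) ∧ (∀ e ∈ E, e * e = 1 ∨ e * e = t) ∧
    (∀ e ∈ E, ∀ f ∈ E, ⁅e, f⁆ = 1 ∨ ⁅e, f⁆ = t) ∧ ∃ e ∈ E, ∃ f ∈ E, ⁅e, f⁆ = t := by
  classical
  haveI : Fact (Nat.Prime 2) := ⟨Nat.prime_two⟩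
  obtain ⟨hs, hc2⟩ := P.xs
  haveI : Nontrivial (center E) := Finite.one_lt_card_iff_nontrivial.1 (by rw [hc2]; norm_num)
  obtain ⟨t, ht⟩ := exists_ne (1 : center E)
  have hall : ∀ x : center E, x = 1 ∨ x = t := fun x => by
    by_contra hx
    simp only [not_or] at hx
    haveI := Fintype.ofFinite (center E)
    have h := Finset.card_le_univ ({1, t, x} : Finset (center E))
    rw [Finset.card_insert_of_notMem (by simp [Ne.symm ht, Ne.symm hx.1]),
      Finset.card_insert_of_notMem (by simp [Ne.symm hx.2]), Finset.card_singleton,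
      ← Nat.card_eq_fintype_card, hc2] at h
    omega
  have hall' : ∀ x : E, x ∈ center E → (x : H) = 1 ∨ (x : H) = (t : E) := fun x hx => by
    rcases hall ⟨x, hx⟩ with h | h
    · exact Or.inl (congrArg (fun y : center E => ((y : E) : H)) h)
    · exact Or.inr (congrArg (fun y : center E => ((y : E) : H)) h)
  have ht1 : ((t : E) : H) ≠ 1 := fun e => ht (Subtype.ext (Subtype.ext e))
  obtain ⟨hcomm, hsq, -⟩ := PGroupBasics.special_center hs
  refine ⟨(t : E), (t : E).2, ht1, fun e he =>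
    congrArg Subtype.val (mem_center_iff.1 t.2 ⟨e, he⟩).symm, fun e he hcen =>
    hall' ⟨e, he⟩ (mem_center_iff.2 fun f => Subtype.ext (hcen f f.2).eq.symm), fun e he => ?_,
    fun e he f hf => ?_, ?_⟩
  · simpa [pow_two] using hall' _ (hsq ⟨e, he⟩)
  · simpa [commutatorElement_def] using hall' _ (hcomm ⟨e, he⟩ ⟨f, hf⟩)
  · by_contra hno
    push Not at hno
    refine ht ?_
    have hbot : _root_.commutator E ≤ ⊥ := by
      rw [_root_.commutator_def, commutator_le]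
      intro e _ f _
      rw [mem_bot]
      rcases hall' _ (hcomm e f) with h | h
      · exact Subtype.ext h
      · exact absurd (by simpa [commutatorElement_def] using h) (hno e e.2 f f.2)
    rw [hs.2.2] at hbot
    exact Subtype.ext (mem_bot.1 (hbot t.2))

theorem comm_of_decomp {a a' b b' : H} (ha : a ∈ V) (ha' : a' ∈ V) (hb : b ∈ J) (hb' : b' ∈ J) :
    ⁅a * b, a' * b'⁆ = ⁅b, b'⁆ := by
  have h1 := (P.V_central ha (P.prod.1 ha')).eq
  have e1 : a * b * (a' * b') = a * a' * (b * b') := (P.V_central ha' hb).symm.mul_mul_mul_comm a b'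
  have e2 : a' * b' * (a * b) = a * a' * (b' * b) := by
    rw [(P.V_central ha hb').symm.mul_mul_mul_comm a' b, ← h1]
  have hx : Commute (a * a') (⁅b, b'⁆) :=
    (P.V_central ha (mul_mem (mul_mem (mul_mem hb hb') (inv_mem hb)) (inv_mem hb'))).mul_left
      (P.V_central ha' (mul_mem (mul_mem (mul_mem hb hb') (inv_mem hb)) (inv_mem hb')))
  calc ⁅a * b, a' * b'⁆ = a * b * (a' * b') * (a' * b' * (a * b))⁻¹ := by rw [commutatorElement_def]; group
    _ = a * a' * ⁅b, b'⁆ * (a * a')⁻¹ := by rw [e1, e2, commutatorElement_def]; group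
    _ = _ := by rw [hx.eq, mul_inv_cancel_right]

/-- The centre of the extraspecial factor is generated by the central involution. -/
theorem E_facts : zc ∈ E ∧ (∀ j ∈ J, j * j = 1 ∨ j * j = zc) ∧
    (∀ j ∈ J, ∀ k ∈ J, ⁅j, k⁆ = 1 ∨ ⁅j, k⁆ = zc) ∧
    ∀ j ∈ J, (∀ k ∈ J, Commute j k) → ∃ v ∈ V, j = v ∨ j = v * zc := by
  obtain ⟨t, htE, ht1, htc, htcen, htsq, htcomm, e, he, f, hf, hef⟩ := P.center_E
  have hcomm : ∀ j ∈ J, ∀ k ∈ J, ⁅j, k⁆ = 1 ∨ ⁅j, k⁆ = t := fun j hj k hk => by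
    obtain ⟨a, ha, b, hb, rfl⟩ := (prod_set P.prod j).1 hj
    obtain ⟨a', ha', b', hb', rfl⟩ := (prod_set P.prod k).1 hk
    rw [P.comm_of_decomp ha ha' (P.prod.2.1 hb) (P.prod.2.1 hb')]
    exact htcomm b hb b' hb'
  have ht : ∀ g, Commute g t := fun g => by
    have h := hcomm _ (P.conj_mem g (P.prod.2.1 he)) _ (P.conj_mem g (P.prod.2.1 hf))
    rw [show ⁅g * e * g⁻¹, g * f * g⁻¹⁆ = g * ⁅e, f⁆ * g⁻¹ by simp [commutatorElement_def, mul_assoc], hef] at h
    exact Fi22Two.comm_of_conj (h.resolve_left fun k => ht1 (conj_eq_one_iff.1 k))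
  have htz : t = zc := (P.c_fix (P.prod.2.1 htE) (ht c)).resolve_left ht1
  subst htz
  refine ⟨htE, fun j hj => ?_, hcomm, fun j hj hjc => ?_⟩
  · obtain ⟨a, ha, b, hb, rfl⟩ := (prod_set P.prod j).1 hj
    rw [(P.V_central ha (P.prod.2.1 hb)).symm.mul_mul_mul_comm, P.V2 a ha, one_mul]
    exact htsq b hb
  · obtain ⟨a, ha, b, hb, rfl⟩ := (prod_set P.prod j).1 hj
    have hbc : ∀ k ∈ E, Commute b k := fun k hk => by
      have h1 := (P.V_central ha (P.prod.2.1 hk)).inv_left.mul_left (hjc k (P.prod.2.1 hk))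
      rwa [inv_mul_cancel_left] at h1
    rcases htcen b hb hbc with rfl | rfl
    · exact ⟨a, ha, Or.inl (mul_one a)⟩
    · exact ⟨a, ha, Or.inr rfl⟩

/-- The centre of the core. -/
def Zsub (_P : Pre J V E zc c) : Subgroup H := J ⊓ centralizer (J : Set H)

theorem mem_Z {x : H} : x ∈ P.Zsub ↔ x ∈ J ∧ ∀ k ∈ J, Commute x k := by
  rw [Zsub, mem_inf, mem_centralizer_iff]
  exact and_congr_right fun _ => ⟨fun h k hk => (h k hk).symm, fun h k hk => (h k hk).eq.symm⟩

theorem conj_Z (g : H) {x : H} (hx : x ∈ P.Zsub) : g * x * g⁻¹ ∈ P.Zsub := by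
  obtain ⟨h1, h2⟩ := P.mem_Z.1 hx
  refine P.mem_Z.2 ⟨P.conj_mem g h1, fun k hk => ?_⟩
  have h3 := (h2 _ (P.conj_mem g⁻¹ hk)).map (MulAut.conj g)
  simpa [mul_assoc] using h3

theorem zc_Z : zc ∈ P.Zsub := P.mem_Z.2 ⟨P.zc_mem, fun k _ => P.zc_cen k⟩

theorem card_Z : Nat.card P.Zsub = 8 := by
  obtain ⟨hzE, -, -, hcen⟩ := P.E_facts
  have hz2 : Nat.card (zpowers zc) = 2 := by
    rw [Nat.card_zpowers]; exact orderOf_eq_prime (by rw [pow_two]; exact P.zc2) P.zc_ne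
  have hdis : V ⊓ zpowers zc = ⊥ :=
    le_bot_iff.1 ((inf_le_inf_left V (zpowers_le.2 hzE)).trans P.prod.2.2.2.1.le)
  have hset : ∀ x, x ∈ P.Zsub ↔ ∃ a ∈ V, ∃ b ∈ zpowers zc, x = a * b := fun x => by
    constructor
    · intro hx
      obtain ⟨h1, h2⟩ := P.mem_Z.1 hx
      obtain ⟨v, hv, e | e⟩ := hcen x h1 h2
      · exact ⟨v, hv, 1, one_mem _, by rw [e, mul_one]⟩
      · exact ⟨v, hv, zc, mem_zpowers zc, e⟩
    · rintro ⟨a, ha, b, hb, rfl⟩
      exact mul_mem (P.mem_Z.2 ⟨P.prod.1 ha, fun k hk => P.V_central ha hk⟩) (zpowers_le.2 P.zc_Z hb)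
  rw [card_mul_set hset hdis, P.cardV, hz2]

theorem Z_sq {x : H} (hx : x ∈ P.Zsub) : x * x = 1 := by
  obtain ⟨h1, h2⟩ := P.mem_Z.1 hx
  obtain ⟨v, hv, rfl | rfl⟩ := P.E_facts.2.2.2 x h1 h2
  · exact P.V2 _ hv
  · rw [(P.zc_cen v).mul_mul_mul_comm, P.V2 v hv, P.zc2, one_mul]

/-- The commutator map of the element of order three on the centre. -/
def dd (P : Pre J V E zc c) : ↥P.Zsub →* H where
  toFun x := (x : H)⁻¹ * (c * x * c⁻¹)
  map_one' := by simp
  map_mul' x y := by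
    have h : Commute (y : H)⁻¹ ((x : H)⁻¹ * (c * x * c⁻¹)) :=
      ((P.mem_Z.1 y.2).2 _ (mul_mem (inv_mem (P.mem_Z.1 x.2).1) (P.conj_mem c (P.mem_Z.1 x.2).1))).inv_left
    calc ((x * y : ↥P.Zsub) : H)⁻¹ * (c * (x * y : ↥P.Zsub) * c⁻¹)
        = (y : H)⁻¹ * ((x : H)⁻¹ * (c * x * c⁻¹)) * (c * y * c⁻¹) := by rw [coe_mul]; group
      _ = _ := by rw [h.eq, mul_assoc]

theorem dd_apply (x : ↥P.Zsub) : P.dd x = (x : H)⁻¹ * (c * x * c⁻¹) := rfl

/-- The four-group moved by the element of order three. -/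
def Agrp (P : Pre J V E zc c) : Subgroup H := P.dd.range

theorem A_le_Z {x : H} (hx : x ∈ P.Agrp) : x ∈ P.Zsub := by
  obtain ⟨y, rfl⟩ := hx
  exact mul_mem (inv_mem y.2) (P.conj_Z c y.2)

theorem card_A : Nat.card P.Agrp = 4 := by
  have hker : Nat.card P.dd.ker = 2 := by
    rw [← orderOf_eq_prime (p := 2) (x := zc) (by rw [pow_two]; exact P.zc2) P.zc_ne, ← Nat.card_zpowers]
    refine Nat.card_congr (Equiv.ofBijective (fun x => ⟨((x : ↥P.Zsub) : H), ?_⟩) ⟨?_, ?_⟩)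
    · obtain ⟨⟨x, hx⟩, hk⟩ := x
      have hk' : x⁻¹ * (c * x * c⁻¹) = 1 := hk
      rcases P.c_fix (P.mem_Z.1 hx).1 (Fi22Two.comm_of_conj (inv_mul_eq_one.1 hk').symm) with rfl | rfl
      exacts [one_mem _, mem_zpowers _]
    · exact fun x y h => Subtype.ext (Subtype.ext (congrArg (fun w : zpowers zc => (w : H)) h))
    · rintro ⟨x, hx⟩
      obtain ⟨n, rfl⟩ := mem_zpowers_iff.1 hx
      refine ⟨⟨⟨zc ^ n, zpow_mem P.zc_Z n⟩, ?_⟩, rfl⟩
      show (zc ^ n)⁻¹ * (c * zc ^ n * c⁻¹) = 1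
      rw [((P.zc_cen c).zpow_left n).eq.symm, mul_inv_cancel_right, inv_mul_cancel]
  have h := P.dd.ker.card_mul_index
  rw [index_ker, hker, P.card_Z] at h
  show Nat.card P.dd.range = 4
  omega

theorem zc_not_A : zc ∉ P.Agrp := by
  rintro ⟨⟨x, hx⟩, e⟩
  have h1 : c * x * c⁻¹ = x * zc := by
    rw [← show x⁻¹ * (c * x * c⁻¹) = zc from e, mul_inv_cancel_left]
  have hz : c * zc * c⁻¹ = zc := by rw [(P.zc_cen c).eq.symm, mul_inv_cancel_right]
  have h2 : c * c * c * x * (c * c * c)⁻¹ = x * zc * zc * zc := by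
    calc c * c * c * x * (c * c * c)⁻¹ = c * (c * (c * x * c⁻¹) * c⁻¹) * c⁻¹ := by group
      _ = c * (c * (x * zc) * c⁻¹) * c⁻¹ := by rw [h1]
      _ = c * ((c * x * c⁻¹) * (c * zc * c⁻¹)) * c⁻¹ := by group
      _ = c * (x * zc * zc) * c⁻¹ := by rw [h1, hz]
      _ = (c * x * c⁻¹) * (c * zc * c⁻¹) * (c * zc * c⁻¹) := by group
      _ = _ := by rw [h1, hz]
  rw [P.cube, mul_assoc (x * zc) zc zc, P.zc2, mul_one, inv_one, one_mul, mul_one] at h2
  exact P.zc_ne (mul_eq_left.1 h2.symm)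

theorem A_sq {x : H} (hx : x ∈ P.Agrp) : x * x = 1 := P.Z_sq (P.A_le_Z hx)

theorem A_central {x : H} (hx : x ∈ P.Agrp) {j : H} (hj : j ∈ J) : Commute x j :=
  (P.mem_Z.1 (P.A_le_Z hx)).2 j hj

theorem center_cases {x : H} (hx : x ∈ P.Zsub) : x ∈ P.Agrp ∨ x * zc ∈ P.Agrp := by
  classical
  by_contra hno
  simp only [not_or] at hno
  have hset : ((P.Agrp : Set H) ∪ (fun a => a * zc) '' (P.Agrp : Set H)).ncard = 8 := by
    rw [Set.ncard_union_eq ?_ (Set.toFinite _) (Set.toFinite _), Set.ncard_image_of_injective _ (mul_left_injective zc),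
      ← Nat.card_coe_set_eq, show Nat.card ↥(P.Agrp : Set H) = 4 from P.card_A]
    rw [Set.disjoint_left]
    rintro a ha ⟨b, hb, rfl⟩
    exact P.zc_not_A (by simpa using mul_mem (inv_mem hb) ha)
  have hsub : insert x ((P.Agrp : Set H) ∪ (fun a => a * zc) '' (P.Agrp : Set H)) ⊆ (P.Zsub : Set H) := by
    rintro a (rfl | ha | ⟨b, hb, rfl⟩)
    exacts [hx, P.A_le_Z ha, mul_mem (P.A_le_Z hb) P.zc_Z]
  have h := Set.ncard_le_ncard hsub (Set.toFinite _)
  rw [Set.ncard_insert_of_notMem ?_ (Set.toFinite _), hset, ← Nat.card_coe_set_eq (P.Zsub : Set H),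
    show Nat.card ↥(P.Zsub : Set H) = 8 from P.card_Z] at h
  · omega
  rintro (h1 | ⟨b, hb, e⟩)
  · exact hno.1 h1
  · refine hno.2 ?_
    rw [← e]
    simpa [mul_assoc, P.zc2] using hb

theorem sup_cases {x : H} (hx : x ∈ J ⊔ zpowers c) : ∃ j ∈ J, x = j ∨ x = j * c ∨ x = j * c⁻¹ := by
  haveI := P.normal
  rw [← SetLike.mem_coe, Subgroup.normal_mul] at hx
  obtain ⟨j, hj, y, hy, rfl⟩ := hx
  refine ⟨j, hj, ?_⟩
  obtain ⟨n, rfl⟩ := mem_zpowers_iff.1 hy
  have hmod : c ^ n = c ^ (n % 3) := by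
    have := (zpow_mod_orderOf c n).symm
    rwa [P.c3] at this
  have h2 : c * c = c⁻¹ := (inv_eq_of_mul_eq_one_left P.cube).symm
  rcases (show n % 3 = 0 ∨ n % 3 = 1 ∨ n % 3 = 2 by omega) with e | e | e
  · exact Or.inl (by simp [hmod, e])
  · exact Or.inr (Or.inl (by simp [hmod, e]))
  · refine Or.inr (Or.inr ?_)
    show j * c ^ n = j * c⁻¹
    rw [hmod, e, zpow_two, h2]

theorem c_norm (g : H) : ∃ j ∈ J, g * c * g⁻¹ = j * c ∨ g * c * g⁻¹ = j * c⁻¹ := by
  obtain ⟨j, hj, e⟩ := P.sup_cases (P.sup_normal.conj_mem c (le_sup_right (a := J) (mem_zpowers c)) g)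
  refine ⟨j, hj, e.resolve_left fun h => P.c_not_mem ?_⟩
  have := P.conj_mem g⁻¹ (h ▸ hj)
  rwa [show g⁻¹ * (g * c * g⁻¹) * g⁻¹⁻¹ = c by group] at this

theorem A_norm (g : H) {x : H} (hx : x ∈ P.Agrp) : g * x * g⁻¹ ∈ P.Agrp := by
  obtain ⟨⟨w, hw⟩, rfl⟩ := hx
  obtain ⟨j, hj, e⟩ := P.c_norm g
  have hy := P.conj_Z g hw
  have hfix : ∀ u ∈ P.Zsub, j * u * j⁻¹ = u := fun u hu => by
    rw [((P.mem_Z.1 hu).2 j hj).eq.symm, mul_inv_cancel_right]
  rw [dd_apply, show g * (w⁻¹ * (c * w * c⁻¹)) * g⁻¹ =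
    (g * w * g⁻¹)⁻¹ * ((g * c * g⁻¹) * (g * w * g⁻¹) * (g * c * g⁻¹)⁻¹) by group]
  set y := g * w * g⁻¹ with hydef
  rcases e with e | e <;> rw [e]
  · refine ⟨⟨y, hy⟩, ?_⟩
    rw [dd_apply, show j * c * y * (j * c)⁻¹ = j * (c * y * c⁻¹) * j⁻¹ by group, hfix _ (P.conj_Z c hy)]
  · have hu := P.conj_Z c⁻¹ hy
    rw [show j * c⁻¹ * y * (j * c⁻¹)⁻¹ = j * (c⁻¹ * y * c⁻¹⁻¹) * j⁻¹ by group, hfix _ hu]
    have h1 : P.dd ⟨_, hu⟩⁻¹ = y⁻¹ * (c⁻¹ * y * c⁻¹⁻¹) := by
      rw [map_inv, dd_apply]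
      group
    exact ⟨_, h1⟩

/-- The element of order three is transitive on the involutions of the four-group. -/
theorem A_trans {v w : H} (hv : v ∈ P.Agrp) (hw : w ∈ P.Agrp) (hv1 : v ≠ 1) (hw1 : w ≠ 1) :
    ∃ n : ℕ, c ^ n * v * (c ^ n)⁻¹ = w := by
  classical
  have hmove : ∀ a ∈ P.Agrp, a ≠ 1 → c * a * c⁻¹ ≠ a := fun a ha ha1 e => by
    rcases P.c_fix (P.mem_Z.1 (P.A_le_Z ha)).1 (Fi22Two.comm_of_conj e) with h | h
    exacts [ha1 h, P.zc_not_A (h ▸ ha)]
  set u := c * v * c⁻¹ with hu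
  set t := c * u * c⁻¹ with ht
  have hu1 : u ≠ 1 := fun e => hv1 (conj_eq_one_iff.1 e)
  have ht1 : t ≠ 1 := fun e => hu1 (conj_eq_one_iff.1 e)
  have hback : c * t * c⁻¹ = v := by
    rw [ht, hu, show c * (c * (c * v * c⁻¹) * c⁻¹) * c⁻¹ = c * c * c * v * (c * c * c)⁻¹ by group, P.cube]
    group
  have huA : u ∈ P.Agrp := P.A_norm c hv
  have htA : t ∈ P.Agrp := P.A_norm c huA
  have hvu : v ≠ u := fun e => hmove v hv hv1 e.symm
  have hut : u ≠ t := fun e => hmove u huA hu1 e.symm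
  have hvt : v ≠ t := fun e => hmove t htA ht1 (hback.trans e)
  have hmem : w = v ∨ w = u ∨ w = t := by
    by_contra h
    simp only [not_or] at h
    have hsub : ↑({1, v, u, t, w} : Finset H) ⊆ (P.Agrp : Set H) := by
      simp only [Finset.coe_insert, Finset.coe_singleton, Set.insert_subset_iff, Set.singleton_subset_iff,
        SetLike.mem_coe]
      exact ⟨one_mem _, hv, huA, htA, hw⟩
    have hc := Set.ncard_le_ncard hsub (Set.toFinite _)
    rw [Set.ncard_coe_finset, ← Nat.card_coe_set_eq (P.Agrp : Set H),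
      show Nat.card ↥(P.Agrp : Set H) = 4 from P.card_A,
      Finset.card_insert_of_notMem (by simp [hv1.symm, hu1.symm, ht1.symm, hw1.symm]),
      Finset.card_insert_of_notMem (by simp [hvu, hvt, Ne.symm h.1]),
      Finset.card_insert_of_notMem (by simp [hut, Ne.symm h.2.1]),
      Finset.card_insert_of_notMem (by simp [Ne.symm h.2.2]), Finset.card_singleton] at hc
    omega
  rcases hmem with rfl | rfl | rfl
  · exact ⟨0, by simp⟩
  · exact ⟨1, by rw [pow_one]⟩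
  · exact ⟨2, by rw [ht, hu, pow_two]; group⟩

/-- An element inverting the element of order three modulo the core. -/
theorem outer : ∃ g : H, ∃ j ∈ J, g * c * g⁻¹ = j * c⁻¹ := by
  classical
  by_contra hno
  push Not at hno
  have hin : ∀ g : H, g * c * g⁻¹ * c⁻¹ ∈ J := fun g => by
    obtain ⟨j, hj, e | e⟩ := P.c_norm g
    · rw [e, mul_inv_cancel_right]; exact hj
    · exact absurd e (hno g j hj)
  have hz6 : ∀ g : H, g * c * g⁻¹ * c⁻¹ ≠ zc := fun g e => by
    have h1 : g * c * g⁻¹ = zc * c := by rw [← e, inv_mul_cancel_right]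
    have h2 : zc * c * (zc * c) * (zc * c) = 1 := by
      rw [← h1, show g * c * g⁻¹ * (g * c * g⁻¹) * (g * c * g⁻¹) = g * (c * c * c) * g⁻¹ by group, P.cube]
      group
    rw [(P.zc_cen c).symm.mul_mul_mul_comm, P.zc2, one_mul,
      show c * c * (zc * c) = c * c * zc * c by group, ((P.zc_cen c).mul_right (P.zc_cen c)).eq.symm,
      mul_assoc, show c * c * c = 1 from P.cube, mul_one] at h2
    exact P.zc_ne h2
  set C := centralizer ({c} : Set H)
  let f : H ⧸ C → J := fun q => ⟨q.out * c * q.out⁻¹ * c⁻¹, hin _⟩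
  have hinj : Function.Injective f := by
    intro q q' e
    have h1 : q.out * c * q.out⁻¹ = q'.out * c * q'.out⁻¹ := mul_right_cancel (congrArg Subtype.val e)
    rw [← q.out_eq, ← q'.out_eq]
    refine QuotientGroup.eq.2 (mem_centralizer_singleton_iff.2 (mul_inv_eq_iff_eq_mul.1 ?_))
    rw [show q.out⁻¹ * q'.out * c * (q.out⁻¹ * q'.out)⁻¹ = q.out⁻¹ * (q'.out * c * q'.out⁻¹) * q.out by group,
      ← h1]
    group
  have hns : ¬ Function.Surjective f := fun hs => by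
    obtain ⟨q, hq⟩ := hs ⟨zc, P.zc_mem⟩
    exact hz6 _ (congrArg Subtype.val hq)
  have hlt : Nat.card (H ⧸ C) < Nat.card J := by
    haveI := Fintype.ofFinite (H ⧸ C)
    haveI := Fintype.ofFinite J
    rw [Nat.card_eq_fintype_card, Nat.card_eq_fintype_card]
    exact Fintype.card_lt_of_injective_not_surjective f hinj hns
  have hL : Nat.card (J ⊔ zpowers c : Subgroup H) = 2048 * 3 := by
    haveI := P.normal
    have hset : ∀ x, x ∈ J ⊔ zpowers c ↔ ∃ a ∈ J, ∃ b ∈ zpowers c, x = a * b := fun x => by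
      rw [← SetLike.mem_coe, Subgroup.normal_mul, Set.mem_mul]
      constructor
      · rintro ⟨a, ha, b, hb, e⟩; exact ⟨a, ha, b, hb, e.symm⟩
      · rintro ⟨a, ha, b, hb, e⟩; exact ⟨a, ha, b, hb, e.symm⟩
    have hcop : Nat.Coprime (Nat.card J) (Nat.card (zpowers c)) := by
      rw [P.card_J, Nat.card_zpowers, P.c3]; norm_num
    rw [card_mul_set hset (inf_bot_of_coprime hcop), P.card_J, Nat.card_zpowers, P.c3]
  have h1 := C.card_mul_index
  have h2 := (J ⊔ zpowers c).card_mul_index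
  rw [P.cardC, index] at h1
  rw [P.indexL, hL] at h2
  rw [P.card_J] at hlt
  omega

theorem swap {v : H} (hv : v ∈ P.Agrp) (hv1 : v ≠ 1) :
    ∃ s : H, Commute v s ∧ ∀ w ∈ P.Agrp, w ≠ 1 → w ≠ v → ¬ Commute w s := by
  obtain ⟨g, j, hj, hg⟩ := P.outer
  obtain ⟨n, hn⟩ := P.A_trans hv (P.A_norm g hv) hv1 fun e => hv1 (conj_eq_one_iff.1 e)
  set s := (c ^ n)⁻¹ * g with hs
  have hsv : s * v * s⁻¹ = v := by
    rw [hs, show (c ^ n)⁻¹ * g * v * ((c ^ n)⁻¹ * g)⁻¹ = (c ^ n)⁻¹ * (g * v * g⁻¹) * c ^ n by group, ← hn]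
    group
  have hsc : s * c * s⁻¹ = (c ^ n)⁻¹ * j * c ^ n * c⁻¹ := by
    rw [hs, show (c ^ n)⁻¹ * g * c * ((c ^ n)⁻¹ * g)⁻¹ = (c ^ n)⁻¹ * (g * c * g⁻¹) * c ^ n by group, hg,
      mul_assoc, mul_assoc j, (Commute.pow_right (Commute.inv_left (Commute.refl c)) n).eq, ← mul_assoc,
      ← mul_assoc]
  refine ⟨s, (Fi22Two.comm_of_conj hsv).symm, fun w hw hw1 hwv hws => ?_⟩
  set u := c * v * c⁻¹ with hu
  have huA : u ∈ P.Agrp := P.A_norm c hv
  -- the swap fixes the whole four-group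
  have hsu : s * u * s⁻¹ = u := by
    have huvw : u = 1 ∨ u = v ∨ u = w ∨ u = v * w := by
      by_contra h
      simp only [not_or] at h
      classical
      have hvw1 : v * w ≠ 1 := fun e => hwv
        ((eq_inv_of_mul_eq_one_right e).trans (inv_eq_of_mul_eq_one_right (P.A_sq hv)))
      have hsub : ↑({1, v, w, v * w, u} : Finset H) ⊆ (P.Agrp : Set H) := by
        simp only [Finset.coe_insert, Finset.coe_singleton, Set.insert_subset_iff, Set.singleton_subset_iff,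
          SetLike.mem_coe]
        exact ⟨one_mem _, hv, hw, mul_mem hv hw, huA⟩
      have hc := Set.ncard_le_ncard hsub (Set.toFinite _)
      rw [Set.ncard_coe_finset, ← Nat.card_coe_set_eq (P.Agrp : Set H),
        show Nat.card ↥(P.Agrp : Set H) = 4 from P.card_A,
        Finset.card_insert_of_notMem (by simp [hv1.symm, hw1.symm, hvw1.symm, Ne.symm h.1]),
        Finset.card_insert_of_notMem (by simp [Ne.symm hwv, hw1, Ne.symm h.2.1]),
        Finset.card_insert_of_notMem (by simp [hv1, Ne.symm h.2.2.1]),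
        Finset.card_insert_of_notMem (by simp [Ne.symm h.2.2.2]), Finset.card_singleton] at hc
      omega
    have hsw : s * w * s⁻¹ = w := by rw [← hws.eq, mul_inv_cancel_right]
    rcases huvw with e | e | e | e <;> rw [e]
    · group
    · exact hsv
    · exact hsw
    · rw [show s * (v * w) * s⁻¹ = s * v * s⁻¹ * (s * w * s⁻¹) by group, hsv, hsw]
  have hjj : (c ^ n)⁻¹ * j * c ^ n ∈ J := by simpa using P.conj_mem (c ^ n)⁻¹ hj
  set j' := (c ^ n)⁻¹ * j * c ^ n
  have h1 : c⁻¹ * v * c = u := by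
    have e2 : j' * c⁻¹ * v * (j' * c⁻¹)⁻¹ = u := by
      rw [← hsc, show s * c * s⁻¹ * v * (s * c * s⁻¹)⁻¹ = s * (c * (s⁻¹ * v * s) * c⁻¹) * s⁻¹ by group,
        show s⁻¹ * v * s = v by conv_lhs => rw [← hsv]
                                group, ← hu, hsu]
    have hcv : c⁻¹ * v * c ∈ P.Agrp := by simpa using P.A_norm c⁻¹ hv
    rw [show j' * c⁻¹ * v * (j' * c⁻¹)⁻¹ = j' * (c⁻¹ * v * c) * j'⁻¹ by group,
      (P.A_central hcv hjj).eq.symm, mul_inv_cancel_right] at e2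
    exact e2
  have h2 : c * c * v * (c * c)⁻¹ = v := by
    rw [show c * c * v * (c * c)⁻¹ = c * u * c⁻¹ by rw [hu]; group, ← h1]
    group
  have h3 : c * v * c⁻¹ = v := by
    calc c * v * c⁻¹ = c * (c * c * v * (c * c)⁻¹) * c⁻¹ := by rw [h2]
      _ = c * c * c * v * (c * c * c)⁻¹ := by group
      _ = v := by rw [P.cube]; group
  rcases P.c_fix (P.mem_Z.1 (P.A_le_Z hv)).1 (Fi22Two.comm_of_conj h3) with h | h
  exacts [hv1 h, P.zc_not_A (h ▸ hv)]

end Pre

set_option maxHeartbeats 1000000 in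
/-- The hypotheses from the statement. -/
theorem exists_hyp {G : Type*} [Group G] [Finite G] (z : G) (hz : orderOf z = 2)
    {F : Type*} [Field F] [Fintype F] (hF : Fintype.card F = 3)
    (V E : Subgroup ↥(Subgroup.centralizer ({z} : Set G))) (hVE : Cfsg.IsInternalDirectProduct V E (Cfsg.pCore 2 ↥(Subgroup.centralizer ({z} : Set G)))) (hV : Nat.card ↥V = 4) (hV2 : ∀ v ∈ V, v ^ 2 = 1)
    (hE : Cfsg.IsExtraspecial 2 ↥E) (hEc : Nat.card ↥E = 2 ^ 9)
    (hCJ : Subgroup.centralizer ((Cfsg.pCore 2 ↥(Subgroup.centralizer ({z} : Set G))) : Set ↥(Subgroup.centralizer ({z} : Set G))) ≤ Cfsg.pCore 2 ↥(Subgroup.centralizer ({z} : Set G)))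
    (zc c : ↥(Subgroup.centralizer ({z} : Set G))) (hzc : (zc : G) = z) (hc : orderOf c = 3)
    [hJc : (Cfsg.pCore 2 ↥(Subgroup.centralizer ({z} : Set G)) ⊔ Subgroup.zpowers c).Normal] (e : (↥(Subgroup.centralizer ({z} : Set G)) ⧸ (Cfsg.pCore 2 ↥(Subgroup.centralizer ({z} : Set G)) ⊔ Subgroup.zpowers c)) ≃* MulAut (Cfsg.PSp 2 F))
    [hcz : ((Subgroup.zpowers c ⊔ Subgroup.zpowers zc).subgroupOf (Subgroup.centralizer ({c} : Set ↥(Subgroup.centralizer ({z} : Set G))))).Normal]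
    (e' : (↥(Subgroup.centralizer ({c} : Set ↥(Subgroup.centralizer ({z} : Set G)))) ⧸ (Subgroup.zpowers c ⊔ Subgroup.zpowers zc).subgroupOf (Subgroup.centralizer ({c} : Set ↥(Subgroup.centralizer ({z} : Set G))))) ≃* Cfsg.PSp 2 F) :
    Nonempty (Hyp z) := by
  classical
  haveI : Fact (Nat.Prime 2) := ⟨Nat.prime_two⟩
  haveI : Fact (Nat.Prime 3) := ⟨Nat.prime_three⟩
  obtain ⟨eF⟩ := S3342Id.nonempty_pspCongr
    (K := F) (F := ZMod 3) (Classical.choice (show Nonempty (F ≃+* ZMod 3) from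
      ⟨(ZMod.ringEquivOfPrime F (by norm_num) hF).symm⟩))
  let eX := e.trans (MulAut.congr eF)
  let eY := e'.trans eF
  have hz1 : z ≠ 1 := fun h => by rw [h, orderOf_one] at hz; omega
  have hz2 : z * z = 1 := by rw [← pow_two, ← hz, pow_orderOf_eq_one]
  have hJp : IsPGroup 2 (Cfsg.pCore 2 ↥(centralizer ({z} : Set G))) := FiniteGroup.pCore_isPGroup 2
  have hJn : (Cfsg.pCore 2 ↥(centralizer ({z} : Set G))).Normal := FiniteGroup.pCore_normal 2
  have hzc2 : zc * zc = 1 := Subtype.ext (by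
    show (zc : G) * zc = 1
    rw [hzc, hz2])
  have hzc1 : zc ≠ 1 := fun h => hz1 (by rw [← hzc, h]; rfl)
  have hzcen : ∀ g : (centralizer ({z} : Set G)), Commute zc g := fun g => Subtype.ext (by
    rw [coe_mul, coe_mul, hzc]
    exact (mem_centralizer_one.1 g.2).symm)
  have hcard_sup : Nat.card (zpowers c ⊔ zpowers zc : Subgroup (centralizer ({z} : Set G))) = 6 := by
    have h2 : orderOf zc = 2 := orderOf_eq_prime (by rw [pow_two]; exact hzc2) hzc1
    have hdis : zpowers c ⊓ zpowers zc = ⊥ := inf_bot_of_coprime (by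
      rw [Nat.card_zpowers, Nat.card_zpowers, hc, h2]; norm_num)
    have hp : Cfsg.IsInternalDirectProduct (zpowers c) (zpowers zc) (zpowers c ⊔ zpowers zc) :=
      ⟨le_sup_left, le_sup_right, fun a ha b hb => by
        obtain ⟨n, rfl⟩ := mem_zpowers_iff.1 hb
        exact ((hzcen a).zpow_left n).eq.symm, hdis, rfl⟩
    rw [card_mul_set (prod_set hp) hdis, Nat.card_zpowers, Nat.card_zpowers, hc, h2]
  have hle : zpowers c ⊔ zpowers zc ≤ (centralizer ({c} : Set ↥(centralizer ({z} : Set G)))) := sup_le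
    (zpowers_le.2 (mem_centralizer_singleton_iff.2 rfl))
    (zpowers_le.2 (mem_centralizer_singleton_iff.2 (hzcen c).eq))
  have hcardC : Nat.card (centralizer ({c} : Set ↥(centralizer ({z} : Set G)))) = 155520 := by
    have h1 := ((zpowers c ⊔ zpowers zc).subgroupOf (centralizer ({c} : Set ↥(centralizer ({z} : Set G))))).card_mul_index
    rw [Nat.card_congr (subgroupOfEquivOfLe hle).toEquiv, hcard_sup, index, Nat.card_congr eY.toEquiv,
      U62Rec.Model.card_X] at h1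
    omega
  have hccent : ∀ j ∈ (Cfsg.pCore 2 ↥(centralizer ({z} : Set G))), Commute c j → j ∈ zpowers c ⊔ zpowers zc := by
    intro j hj hcj
    haveI := U62Rec.Model.simple_X
    set W : Subgroup ↥(centralizer ({c} : Set ↥(centralizer ({z} : Set G)))) := (Cfsg.pCore 2 ↥(centralizer ({z} : Set G))).subgroupOf (centralizer ({c} : Set ↥(centralizer ({z} : Set G))))
    haveI : W.Normal := normal_subgroupOf_of_le_normalizer (by rw [normalizer_eq_top_iff.2 hJn]; exact le_top)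
    set f : ↥(centralizer ({c} : Set ↥(centralizer ({z} : Set G)))) →* Cfsg.PSp 2 (ZMod 3) := eY.toMonoidHom.comp (QuotientGroup.mk' _) with hf
    have hfs : Function.Surjective f := eY.surjective.comp (QuotientGroup.mk'_surjective _)
    haveI : (W.map f).Normal := Subgroup.Normal.map inferInstance f hfs
    have hW2 : IsPGroup 2 (W.map f) := (hJp.comap_subtype (K := (centralizer ({c} : Set ↥(centralizer ({z} : Set G)))))).map f
    have hbot : W.map f = ⊥ := by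
      refine (inferInstance : (W.map f).Normal).eq_bot_or_eq_top.resolve_right fun htop => ?_
      rw [htop] at hW2
      haveI : Finite (Cfsg.PSp 2 (ZMod 3)) :=
        Nat.finite_of_card_ne_zero (by rw [U62Rec.Model.card_X]; norm_num)
      obtain ⟨k, hk⟩ := IsPGroup.iff_card.1 hW2
      rw [card_top, U62Rec.Model.card_X] at hk
      have h3 : 3 ∣ 2 ^ k := ⟨8640, by rw [← hk]⟩
      exact absurd (Nat.prime_three.dvd_of_dvd_pow h3) (by norm_num)
    have hjC : j ∈ (centralizer ({c} : Set ↥(centralizer ({z} : Set G)))) := mem_centralizer_singleton_iff.2 hcj.eq.symm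
    have h1 : f ⟨j, hjC⟩ = 1 := by
      rw [← mem_bot, ← hbot]
      exact mem_map_of_mem f (mem_subgroupOf.2 hj)
    change eY (QuotientGroup.mk _) = 1 at h1
    rw [MulEquiv.map_eq_one_iff, QuotientGroup.eq_one_iff] at h1
    exact mem_subgroupOf.1 h1
  have hindex : ((Cfsg.pCore 2 ↥(centralizer ({z} : Set G))) ⊔ zpowers c).index = 51840 := by
    rw [index, Nat.card_congr eX.toEquiv, U62Aut.card_autX]
  have P : Pre (Cfsg.pCore 2 ↥(centralizer ({z} : Set G))) V E zc c := ⟨hVE, hV, fun v hv => by rw [← pow_two]; exact hV2 v hv, hE, hEc, hCJ, hJn, hJp,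
    hzcen, hzc2, hzc1, hc, hJc, hccent, hcardC, hindex⟩
  have hmem : ∀ {a : G}, a ∈ coreAt z → ∃ k : (centralizer ({z} : Set G)), k ∈ (Cfsg.pCore 2 ↥(centralizer ({z} : Set G))) ∧ (k : G) = a := fun ⟨k, hk, e⟩ => ⟨k, hk, e⟩
  have hin : ∀ {k : (centralizer ({z} : Set G))}, k ∈ (Cfsg.pCore 2 ↥(centralizer ({z} : Set G))) → (k : G) ∈ coreAt z := fun {k} hk => ⟨k, hk, rfl⟩
  have hlift : ∀ {g : G}, Commute z g → g ∈ (centralizer ({z} : Set G)) := fun hg => mem_centralizer_one.2 hg.eq.symm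
  have hcz' : Commute z (c : G) := (mem_centralizer_one.1 c.2).symm
  have hval : ∀ {x y : (centralizer ({z} : Set G))}, Commute x y ↔ Commute (x : G) (y : G) := fun {x y} =>
    ⟨fun h => congrArg Subtype.val h.eq, fun h => Subtype.ext h.eq⟩
  refine ⟨{
    c := c
    A := P.Agrp.map (centralizer ({z} : Set G)).subtype
    z2 := hz2
    z_ne := hz1
    z_mem := ⟨zc, P.zc_mem, hzc⟩
    card_core := by rw [← P.card_J]; exact card_map_of_injective (centralizer ({z} : Set G)).subtype_injective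
    A_le := ?_, A_card := ?_, A_sq := ?_, A_central := ?_, z_not_A := ?_, A_norm := ?_, center := ?_, sq := ?_
    comm := ?_, self := ?_, c_z := hcz', c3 := by rw [orderOf_coe]; exact hc
    c_fix := ?_, c_norm := ?_, swap := ?_, quot := ?_ }⟩
  · rintro _ ⟨a, ha, rfl⟩
    exact hin (P.mem_Z.1 (P.A_le_Z ha)).1
  · rw [card_map_of_injective (centralizer ({z} : Set G)).subtype_injective, P.card_A]
  · rintro _ ⟨a, ha, rfl⟩
    exact congrArg Subtype.val (P.A_sq ha)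
  · rintro _ ⟨a, ha, rfl⟩ b hb
    obtain ⟨k, hk, rfl⟩ := hmem hb
    exact hval.1 (P.A_central ha hk)
  · rintro ⟨a, ha, e1⟩
    exact P.zc_not_A ((Subtype.ext (e1.trans hzc.symm) : a = zc) ▸ ha)
  · rintro g hg _ ⟨a, ha, rfl⟩
    exact ⟨⟨g, hlift hg⟩ * a * ⟨g, hlift hg⟩⁻¹, P.A_norm _ ha, rfl⟩
  · intro a ha hb
    obtain ⟨k, hk, rfl⟩ := hmem ha
    rcases P.center_cases (P.mem_Z.2 ⟨hk, fun m hm => hval.2 (hb m (hin hm))⟩) with h | h
    · exact Or.inl ⟨k, h, rfl⟩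
    · exact Or.inr ⟨k * zc, h, congrArg (fun w : G => (k : G) * w) hzc⟩
  · intro a ha
    obtain ⟨k, hk, rfl⟩ := hmem ha
    rcases P.E_facts.2.1 k hk with h | h
    · exact Or.inl (congrArg Subtype.val h)
    · exact Or.inr ((congrArg Subtype.val h).trans hzc)
  · intro a ha b hb
    obtain ⟨k, hk, rfl⟩ := hmem ha
    obtain ⟨m, hm, rfl⟩ := hmem hb
    rcases P.E_facts.2.2.1 k hk m hm with h | h
    · exact Or.inl (by simpa [commutatorElement_def] using congrArg Subtype.val h)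
    · exact Or.inr (by simpa [commutatorElement_def, hzc] using congrArg Subtype.val h)
  · intro g hg hall
    exact hin (k := ⟨g, hlift hg⟩) (hCJ (mem_centralizer_iff.2 fun m hm =>
      (hval.2 (hall m (hin hm)).symm).eq))
  · intro a ha hca
    obtain ⟨k, hk, rfl⟩ := hmem ha
    rcases P.c_fix hk (hval.2 hca) with h | h
    · exact Or.inl (congrArg Subtype.val h)
    · exact Or.inr ((congrArg Subtype.val h).trans hzc)
  · intro g hg
    obtain ⟨j, hj, h | h⟩ := P.c_norm ⟨g, hlift hg⟩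
    · exact ⟨j, hin hj, Or.inl (congrArg Subtype.val h)⟩
    · exact ⟨j, hin hj, Or.inr (congrArg Subtype.val h)⟩
  · rintro _ ⟨a, ha, rfl⟩ ha1
    obtain ⟨s, hs, hsw⟩ := P.swap ha fun h => ha1 (congrArg Subtype.val h)
    refine ⟨(s : G), (mem_centralizer_one.1 s.2).symm, hval.1 hs, ?_⟩
    rintro _ ⟨w, hw, rfl⟩ hw1 hwv hws
    exact hsw w hw (fun h => hw1 (congrArg Subtype.val h)) (fun h => hwv (congrArg Subtype.val h)) (hval.2 hws)
  · rintro _ ⟨a, ha, rfl⟩ ha1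
    have hHv : Hv z (a : G) ≤ (centralizer ({z} : Set G)) := inf_le_left
    let χ : ↥(Hv z (a : G)) →* AutX :=
      (eX.toMonoidHom.comp (QuotientGroup.mk' _)).comp (Subgroup.inclusion hHv)
    have ha1' : a ≠ 1 := fun h => ha1 (congrArg Subtype.val h)
    refine ⟨χ, fun x => ?_, fun g => ?_⟩
    · obtain ⟨y, hy⟩ := QuotientGroup.mk_surjective (eX.symm x)
      obtain ⟨n, hn⟩ := P.A_trans ha (P.A_norm y ha) ha1' fun h => ha1' (conj_eq_one_iff.1 h)
      set s := (c ^ n)⁻¹ * y with hs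
      have hsv : s * a * s⁻¹ = a := by
        rw [hs, show (c ^ n)⁻¹ * y * a * ((c ^ n)⁻¹ * y)⁻¹ = (c ^ n)⁻¹ * (y * a * y⁻¹) * c ^ n by group, ← hn]
        group
      have hsH : (s : G) ∈ Hv z (a : G) :=
        mem_Hv.2 ⟨(mem_centralizer_one.1 s.2).symm, hval.1 (Fi22Two.comm_of_conj hsv).symm⟩
      refine ⟨⟨s, hsH⟩, ?_⟩
      show eX (QuotientGroup.mk' (Cfsg.pCore 2 ↥(centralizer ({z} : Set G)) ⊔ zpowers c) s) = x
      rw [hs, map_mul, map_inv, show QuotientGroup.mk' (Cfsg.pCore 2 ↥(centralizer ({z} : Set G)) ⊔ zpowers c) (c ^ n)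
        = 1 from (QuotientGroup.eq_one_iff _).2 (le_sup_right (a := Cfsg.pCore 2 ↥(centralizer ({z} : Set G)))
          (pow_mem (mem_zpowers c) n)), inv_one, one_mul]
      exact (congrArg eX hy).trans (eX.apply_symm_apply x)
    · show eX (QuotientGroup.mk (Subgroup.inclusion hHv g)) = 1 ↔ _
      rw [MulEquiv.map_eq_one_iff, QuotientGroup.eq_one_iff]
      constructor
      · intro h
        obtain ⟨j, hj, h⟩ := P.sup_cases h
        rcases h with h | h | h
        · exact (congrArg Subtype.val h : (g : G) = (j : G)) ▸ hin hj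
        all_goals
          exfalso
          have hga : Commute (Subgroup.inclusion hHv g) a := hval.2 (mem_Hv.1 g.2).2.symm
          have hja : Commute j a := (P.A_central ha hj).symm
          have h5 := hja.inv_left.mul_left hga
          rw [h, inv_mul_cancel_left] at h5
          have h6 : Commute c a := by
            first | exact h5 | exact inv_inv c ▸ h5.inv_left
          rcases P.c_fix (P.mem_Z.1 (P.A_le_Z ha)).1 h6 with k | k
          exacts [ha1' k, P.zc_not_A (k ▸ ha)]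
      · intro h
        obtain ⟨k, hk, ek⟩ := hmem h
        exact le_sup_left (b := zpowers c) ((Subtype.ext ek : k = Subgroup.inclusion hHv g) ▸ hk)

end Cfsg.Agent.Fi23Two
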