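import Cfsg.Agent.Lib.Fi23Two.End
import Cfsg.Agent.Lib.Fi23Two.Start

/-!
The three outcomes, from the hypotheses on the centraliser and the characterisation of the quotient.
-/

set_option autoImplicit false
set_option linter.style.haveILetI false
set_option linter.unusedSectionVars false

namespace Cfsg.Agent.Fi23Two

open Subgroup LargeExtra

universe u v

/-- The extraspecial part, in the whole group. -/
theorem exists_extra {G : Type u} [Group G] [Finite G] {z : G} (H : Hyp z)
    {V E : Subgroup ↥(centralizer ({z} : Set G))}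
    (hVE : Cfsg.IsInternalDirectProduct V E (Cfsg.pCore 2 ↥(centralizer ({z} : Set G))))
    (hE : Cfsg.IsExtraspecial 2 ↥E) (hEc : Nat.card ↥E = 2 ^ 9) :
    Extra H (E.map (centralizer ({z} : Set G)).subtype) := by
  let ε : ↥E ≃* ↥(E.map (centralizer ({z} : Set G)).subtype) :=
    equivMapOfInjective E _ (centralizer ({z} : Set G)).subtype_injective
  refine ⟨?_, ?_, Qd.isExtraspecial_congr ε.symm hE⟩
  · rintro _ ⟨e, he, rfl⟩
    exact ⟨e, hVE.2.1 he, rfl⟩
  · rw [← Nat.card_congr ε.toEquiv, hEc]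
    norm_num

/-- Isolated, the Fischer group, or a normal four-group with centraliser over the unitary group. -/
theorem main {G : Type u} [Group G] [Finite G] {z : G} (H : Hyp z) {K : Type v} [Field K] [Fintype K]
    (hK : Fintype.card K = 4) (T : Thm22.{u, v} K) {E : Subgroup G} (X : Extra H E) :
    centralizer ({z} : Set G) ⊔ Cfsg.oddCore G = ⊤ ∨ Cfsg.Spor.IsoFi23 G ∨
      (H.A.Normal ∧
        (∃ φ : ↥(centralizer (H.A : Set G)) →* Cfsg.PSU 6 K 2, Function.Surjective φ ∧
          ∀ x, φ x = 1 ↔ (x : G) ∈ H.A) ∧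
        ∀ g : G, g * z * g⁻¹ ∈ ZJ H → g * z * g⁻¹ = z) := by
  rcases H.trichotomy hK T X with h | ⟨hd, hs | B⟩
  · exact Or.inr (Or.inl h)
  · exact Or.inl (H.isolated hd hs)
  · refine Or.inr (Or.inr ⟨H.normal_big hK hd B, B.2.2, fun g hg => ?_⟩)
    obtain ⟨α, hα, e⟩ := H.mem_ZJ.1 hg
    by_cases hα1 : α = 1
    · subst hα1
      rcases e with e | e
      · exact absurd (conj_eq_one_iff.1 e) H.z_ne
      · rw [e, one_mul]
    · rcases e with e | e
      · exact absurd e (H.no_z_big hK B hα hα1)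
      · exact absurd e (H.no_conj ⟨hα, hα1, Or.inr rfl⟩ (hd α hα hα1))

end Cfsg.Agent.Fi23Two
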