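import Cfsg.Agent.Lib.Fi23Two.Setup
import Cfsg.Agent.Lib.Qd.Basic
import Cfsg.Agent.Lib.FiniteGroup.FittingPow

/-!
The centraliser of `d` modulo `d`, for an involution `d` of the centre of the core of `z` other than `z`, meets
the hypotheses of the characterisation of the centraliser in the Fischer group on 22 letters.
-/

set_option autoImplicit false
set_option linter.style.haveILetI false
set_option linter.unusedSectionVars false

namespace Cfsg.Agent.Fi23Two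

open Subgroup LargeExtra
open scoped commutatorElement
open Cfsg.Agent.U62Aut (AutX)
open Cfsg.Agent.Fi22Two (comm_of_conj conj_of_comm conj_comm comm_elem_eq)

universe u v

instance quo_normal {G : Type*} [Group G] (d : G) :
    ((zpowers d).subgroupOf (centralizer ({d} : Set G))).Normal := by
  refine ⟨fun b hb c => mem_subgroupOf.2 ?_⟩
  obtain ⟨k, hk⟩ := mem_zpowers_iff.1 (mem_subgroupOf.1 hb)
  have hc : Commute (c : G) d := (mem_centralizer_iff.1 c.2 d rfl).symm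
  show (c : G) * (b : G) * (c : G)⁻¹ ∈ zpowers d
  rw [← hk, (hc.zpow_right k).eq, mul_inv_cancel_right]
  exact zpow_mem (mem_zpowers d) k

/-- The centraliser of `d` modulo `d`. -/
abbrev Quo {G : Type u} [Group G] (d : G) : Type u :=
  ↥(centralizer ({d} : Set G)) ⧸ (zpowers d).subgroupOf (centralizer ({d} : Set G))

/-- The conclusion of the characterisation by the centraliser in the Fischer group on 22 letters. -/
def Out22 (Q : Type u) [Group Q] (K : Type v) [Field K] [Fintype K] (z : Q) : Prop :=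
  centralizer ({z} : Set Q) ⊔ Cfsg.oddCore Q = ⊤ ∨
    (∃ z₁ : Q, orderOf z₁ = 2 ∧ z₁ ∉ zpowers z ∧
      (∃ h₁ : z₁ ∈ centralizer ({z} : Set Q), (⟨z₁, h₁⟩ : ↥(centralizer ({z} : Set Q))) ∈
          Cfsg.pCore 2 ↥(centralizer ({z} : Set Q)) ∧
          ∀ j ∈ Cfsg.pCore 2 ↥(centralizer ({z} : Set Q)), j * ⟨z₁, h₁⟩ = ⟨z₁, h₁⟩ * j) ∧
      (zpowers z₁).Normal ∧ ∃ (G₀ : Subgroup Q) (_ : z₁ ∈ G₀), G₀.index = 2 ∧
        ∃ _ : ((zpowers z₁).subgroupOf G₀).Normal,
          Nonempty ((↥G₀ ⧸ (zpowers z₁).subgroupOf G₀) ≃* Cfsg.PSU 6 K 2)) ∨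
    Cfsg.Spor.IsoFi22 Q

/-- The characterisation by the centraliser in the Fischer group on 22 letters. -/
def Thm22 (K : Type v) [Field K] [Fintype K] : Prop :=
  ∀ {Q : Type u} [Group Q] [Finite Q] (z : Q), orderOf z = 2 →
    ∀ (A E : Subgroup ↥(centralizer ({z} : Set Q))),
    Cfsg.IsInternalDirectProduct A E (Cfsg.pCore 2 ↥(centralizer ({z} : Set Q))) → Nat.card ↥A = 2 →
    Cfsg.IsExtraspecial 2 ↥E → Nat.card ↥E = 2 ^ 9 →
    ∀ zc : ↥(centralizer ({z} : Set Q)), (zc : Q) = z →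
    ⁅Cfsg.pCore 2 ↥(centralizer ({z} : Set Q)), Cfsg.pCore 2 ↥(centralizer ({z} : Set Q))⁆ = zpowers zc →
    centralizer ((Cfsg.pCore 2 ↥(centralizer ({z} : Set Q))) : Set ↥(centralizer ({z} : Set Q))) ≤
      Cfsg.pCore 2 ↥(centralizer ({z} : Set Q)) →
    ∀ [(Cfsg.pCore 2 ↥(centralizer ({z} : Set Q))).Normal],
    Nonempty ((↥(centralizer ({z} : Set Q)) ⧸ Cfsg.pCore 2 ↥(centralizer ({z} : Set Q))) ≃* AutX) →
    Out22 Q K z

variable {G : Type u} [Group G] [Finite G] {z : G}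

/-- An involution of the centre of the core other than `z`, named by an involution of the four-group. -/
structure Pick (H : Hyp z) (v d : G) : Prop where
  v_mem : v ∈ H.A
  v_ne : v ≠ 1
  eq : d = v ∨ d = v * z

/-- The extraspecial part of the core. -/
structure Extra (H : Hyp z) (E : Subgroup G) : Prop where
  le : E ≤ coreAt z
  card : Nat.card E = 512
  extra : Cfsg.IsExtraspecial 2 ↥E

theorem mem_zpowers_two {G : Type*} [Group G] {a b : G} (h2 : a * a = 1) (hb : b ∈ zpowers a) : b = 1 ∨ b = a := by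
  obtain ⟨k, rfl⟩ := mem_zpowers_iff.1 hb
  rcases Int.even_or_odd' k with ⟨m, rfl | rfl⟩
  · left; rw [zpow_mul, zpow_two, h2, one_zpow]
  · right; rw [zpow_add_one, zpow_mul, zpow_two, h2, one_zpow, one_mul]

namespace Hyp

variable (H : Hyp z)

include H

/-- A 2-group normalised by the centraliser of `z` and an involution of the four-group is in the core. -/
theorem two_le_core {v : G} (hv : v ∈ H.A) (hv1 : v ≠ 1) {P : Subgroup G} (hP : IsPGroup 2 P)
    (hle : P ≤ Hv z v) (hn : ∀ h ∈ Hv z v, ∀ p ∈ P, h * p * h⁻¹ ∈ P) : P ≤ coreAt z := by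
  obtain ⟨χ, hχs, hχ1⟩ := H.quot v hv hv1
  haveI : ((P.subgroupOf (Hv z v)).map χ).Normal :=
    Subgroup.Normal.map ⟨fun p hp h => mem_subgroupOf.2 (hn _ h.2 _ (mem_subgroupOf.1 hp))⟩ χ hχs
  have hbot : (P.subgroupOf (Hv z v)).map χ = ⊥ := eq_bot_of_two ((hP.comap_subtype (K := Hv z v)).map χ)
  intro p hp
  have : χ ⟨p, hle hp⟩ = 1 := by
    rw [← mem_bot, ← hbot]
    exact mem_map_of_mem χ (mem_subgroupOf.2 hp)
  exact (hχ1 _).1 this

end Hyp

namespace Extra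

variable {H : Hyp z} {E : Subgroup G} (X : Extra H E)

include X

/-- Two elements of the core with commutator `z`. -/
theorem exists_pair : ∃ a ∈ E, ∃ b ∈ E, ⁅a, b⁆ = z := by
  by_contra h
  push Not at h
  have hc : ∀ a ∈ E, ∀ b ∈ E, Commute a b := fun a ha b hb => commutatorElement_eq_one_iff_commute.1
    ((H.comm a (X.le ha) b (X.le hb)).resolve_right (h a ha b hb))
  have ht : center ↥E = ⊤ := eq_top_iff.2 fun a _ =>
    mem_center_iff.2 fun b => Subtype.ext (hc b b.2 a a.2).eq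
  have := X.extra.2
  rw [ht, card_top, X.card] at this
  omega

theorem z_mem : z ∈ E := by
  obtain ⟨a, ha, b, hb, e⟩ := X.exists_pair
  rw [← e, commutatorElement_def]
  exact mul_mem (mul_mem (mul_mem ha hb) (inv_mem ha)) (inv_mem hb)

theorem mem_ZJ {a : G} (ha : a ∈ E) (hz : a ∈ ZJ H) : a = 1 ∨ a = z := by
  classical
  by_contra h
  simp only [not_or] at h
  have hcen : ∀ b : G, ∀ hb : b ∈ E, b ∈ ZJ H → (⟨b, hb⟩ : ↥E) ∈ center ↥E := fun b hb hbZ =>
    mem_center_iff.2 fun c => Subtype.ext (H.ZJ_central hbZ (X.le c.2)).symm.eq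
  have hsub : ↑({1, ⟨z, X.z_mem⟩, ⟨a, ha⟩} : Finset ↥E) ⊆ (center ↥E : Set ↥E) := by
    simp only [Finset.coe_insert, Finset.coe_singleton, Set.insert_subset_iff, Set.singleton_subset_iff,
      SetLike.mem_coe]
    exact ⟨one_mem _, hcen _ _ H.z_ZJ, hcen _ _ hz⟩
  have hc := Set.ncard_le_ncard hsub (Set.toFinite _)
  rw [Set.ncard_coe_finset, ← Nat.card_coe_set_eq (center ↥E : Set ↥E)] at hc
  simp only [SetLike.coe_sort_coe, X.extra.2] at hc
  rw [Finset.card_insert_of_notMem, Finset.card_insert_of_notMem, Finset.card_singleton] at hc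
  · omega
  all_goals simp only [Finset.mem_insert, Finset.mem_singleton, not_or]
  · exact fun e => h.2 (congrArg Subtype.val e).symm
  · exact ⟨fun e => H.z_ne (congrArg Subtype.val e).symm, fun e => h.1 (congrArg Subtype.val e).symm⟩

end Extra

namespace Pick

variable {H : Hyp z} {v d : G} (D : Pick H v d)

include D

theorem mem_ZJ : d ∈ ZJ H := H.mem_ZJ.2 ⟨v, D.v_mem, D.eq⟩

theorem mem_core : d ∈ coreAt z := H.ZJ_mem D.mem_ZJ

theorem sq : d * d = 1 := H.ZJ_sq D.mem_ZJ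

theorem zd : Commute z d := H.comm_z D.mem_core

theorem ne_one : d ≠ 1 := by
  rcases D.eq with rfl | rfl
  · exact D.v_ne
  · exact fun e => H.z_not_A (by
      rw [mul_eq_one_iff_eq_inv, H.z_inv] at e
      exact e ▸ D.v_mem)

theorem ne_z : d ≠ z := by
  rcases D.eq with rfl | rfl
  · exact fun e => H.z_not_A (e ▸ D.v_mem)
  · exact fun e => D.v_ne (mul_eq_right.1 e)

theorem mem_Hv_iff {g : G} : g ∈ Hv z v ↔ Commute z g ∧ Commute d g := by
  rw [mem_Hv]
  rcases D.eq with rfl | rfl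
  · exact Iff.rfl
  · refine ⟨fun h => ⟨h.1, h.2.mul_left h.1⟩, fun h => ⟨h.1, ?_⟩⟩
    have := h.2.mul_left h.1
    rwa [mul_assoc, H.z2, mul_one] at this

theorem Hv_le : Hv z v ≤ centralizer ({d} : Set G) := fun _ hg =>
  mem_centralizer_one.2 (D.mem_Hv_iff.1 hg).2.eq.symm

/-- The map to the quotient. -/
def down : ↥(Hv z v) →* Quo d :=
  (QuotientGroup.mk' ((zpowers d).subgroupOf (centralizer ({d} : Set G)))).comp (inclusion D.Hv_le)

theorem down_eq {g h : ↥(Hv z v)} : D.down g = D.down h ↔ (h : G) = g ∨ (h : G) = g * d := by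
  show ((QuotientGroup.mk (inclusion D.Hv_le g)) : Quo d) = QuotientGroup.mk (inclusion D.Hv_le h) ↔ _
  rw [QuotientGroup.eq, mem_subgroupOf]
  show (g : G)⁻¹ * (h : G) ∈ zpowers d ↔ _
  refine ⟨fun hm => (mem_zpowers_two D.sq hm).imp (fun e => (inv_mul_eq_one.1 e).symm) inv_mul_eq_iff_eq_mul.1, ?_⟩
  rintro (e | e) <;> rw [e]
  · rw [inv_mul_cancel]; exact one_mem _
  · rw [inv_mul_cancel_left]; exact mem_zpowers d

theorem down_one {g : ↥(Hv z v)} : D.down g = 1 ↔ (g : G) = 1 ∨ (g : G) = d := by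
  rw [← map_one D.down, eq_comm, D.down_eq]
  simp

/-- `z` in the centraliser of `z` and `v`. -/
def zH : ↥(Hv z v) := ⟨z, D.mem_Hv_iff.2 ⟨Commute.refl z, D.zd.symm⟩⟩

/-- The image of `z`. -/
def zq : Quo d := D.down D.zH

theorem order_zq : orderOf D.zq = 2 := by
  refine orderOf_eq_prime ?_ fun h => ?_
  · rw [zq, ← map_pow, D.down_one]
    exact Or.inl (by rw [SubmonoidClass.coe_pow]; exact (pow_two z).trans H.z2)
  · rcases D.down_one.1 h with e | e
    exacts [H.z_ne e, D.ne_z e.symm]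

theorem down_comm (g : ↥(Hv z v)) : D.down g ∈ centralizer ({D.zq} : Set (Quo d)) := by
  refine mem_centralizer_one.2 ?_
  rw [zq, ← map_mul, ← map_mul]
  exact congrArg D.down (Subtype.ext (D.mem_Hv_iff.1 g.2).1.eq.symm)

/-- The map to the centraliser of the image of `z`. -/
def ψ : ↥(Hv z v) →* ↥(centralizer ({D.zq} : Set (Quo d))) := D.down.codRestrict _ D.down_comm

theorem ψ_eq {g h : ↥(Hv z v)} : D.ψ g = D.ψ h ↔ (h : G) = g ∨ (h : G) = g * d := by
  rw [← D.down_eq]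
  exact Subtype.ext_iff

theorem ψ_one {g : ↥(Hv z v)} : D.ψ g = 1 ↔ (g : G) = 1 ∨ (g : G) = d := by
  rw [← D.down_one]
  exact Subtype.ext_iff

/-- No element fixing `d` moves `z` to `z * d`. -/
theorem no_swap {E : Subgroup G} (X : Extra H E) {x : G} (hx : Commute d x) : x * z * x⁻¹ ≠ z * d := by
  intro e
  have ezd : x * (z * d) * x⁻¹ = z := by
    rw [show x * (z * d) * x⁻¹ = x * z * x⁻¹ * (x * d * x⁻¹) by group, e, conj_of_comm hx.symm, mul_assoc,
      D.sq, mul_one]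
  have einv : x⁻¹ * z * x⁻¹⁻¹ = z * d := by
    calc x⁻¹ * z * x⁻¹⁻¹ = x⁻¹ * (x * (z * d) * x⁻¹) * x⁻¹⁻¹ := by rw [ezd]
      _ = z * d := by group
  have hback : ∀ {y : G}, Commute d y → y * (z * d) * y⁻¹ = z → ∀ g ∈ Hv z v, y * g * y⁻¹ ∈ Hv z v := by
    intro y hy ey g hg
    obtain ⟨h1, h2⟩ := D.mem_Hv_iff.1 hg
    refine D.mem_Hv_iff.2 ⟨?_, ?_⟩
    · have := conj_comm (g := y) (h1.mul_left h2)
      rwa [ey] at this
    · have := conj_comm (g := y) h2
      rwa [conj_of_comm hy.symm] at this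
  have hxH := hback hx ezd
  have hxH' : ∀ g ∈ Hv z v, x⁻¹ * g * x⁻¹⁻¹ ∈ Hv z v := hback hx.inv_right (by
    rw [show x⁻¹ * (z * d) * x⁻¹⁻¹ = x⁻¹ * z * x⁻¹⁻¹ * (x⁻¹ * d * x⁻¹⁻¹) by group, einv,
      conj_of_comm hx.inv_right.symm, mul_assoc, D.sq, mul_one])
  have hJ : (coreAt z).map (MulAut.conj x).toMonoidHom ≤ coreAt z := by
    refine H.two_le_core D.v_mem D.v_ne ((coreAt_isPGroup z).map _) ?_ ?_
    · rintro _ ⟨j, hj, rfl⟩
      exact hxH j (mem_Hv.2 ⟨H.comm_z hj, H.A_central v D.v_mem j hj⟩)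
    · rintro h hh _ ⟨j, hj, rfl⟩
      refine ⟨_, H.conj_mem_core (D.mem_Hv_iff.1 (hxH' h hh)).1 hj, ?_⟩
      show x * (x⁻¹ * h * x⁻¹⁻¹ * j * (x⁻¹ * h * x⁻¹⁻¹)⁻¹) * x⁻¹ = h * (x * j * x⁻¹) * h⁻¹
      group
  obtain ⟨a, ha, b, hb, hab⟩ := X.exists_pair
  have h1 := H.comm _ (hJ ⟨a, X.le ha, rfl⟩) _ (hJ ⟨b, X.le hb, rfl⟩)
  rw [← map_commutatorElement, hab] at h1
  change x * z * x⁻¹ = 1 ∨ x * z * x⁻¹ = z at h1
  rw [e] at h1
  rcases h1 with h1 | h1
  · rw [mul_eq_one_iff_eq_inv, inv_eq_of_mul_eq_one_right D.sq] at h1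
    exact D.ne_z h1.symm
  · exact D.ne_one (mul_eq_left.1 h1)

theorem ψ_surj {E : Subgroup G} (X : Extra H E) : Function.Surjective D.ψ := by
  rintro ⟨q, hq⟩
  obtain ⟨g, rfl⟩ := QuotientGroup.mk'_surjective _ q
  have hdg : Commute d (g : G) := (mem_centralizer_one.1 g.2).symm
  have h := mem_centralizer_one.1 hq
  rw [zq, down, MonoidHom.comp_apply, ← map_mul, ← map_mul, eq_comm] at h
  have h' := mem_subgroupOf.1 (QuotientGroup.eq.1 h)
  change (z * (g : G))⁻¹ * ((g : G) * z) ∈ zpowers d at h'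
  have hzg : Commute z (g : G) := by
    rcases mem_zpowers_two D.sq h' with e | e
    · exact inv_mul_eq_one.1 e
    · refine absurd ?_ (D.no_swap X hdg)
      rw [inv_mul_eq_iff_eq_mul] at e
      rw [e, mul_assoc z, hdg.symm.eq, ← mul_assoc, mul_inv_cancel_right]
  exact ⟨⟨g, D.mem_Hv_iff.2 ⟨hzg, hdg⟩⟩, Subtype.ext rfl⟩

/-- The core in the centraliser of `z` and `v`. -/
def JH (_D : Pick H v d) : Subgroup ↥(Hv z v) := (coreAt z).subgroupOf (Hv z v)

theorem ψ_core_iff {g : ↥(Hv z v)} : D.ψ g ∈ D.JH.map D.ψ ↔ (g : G) ∈ coreAt z := by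
  refine ⟨?_, fun h => mem_map_of_mem _ (mem_subgroupOf.2 h)⟩
  rintro ⟨k, hk, e⟩
  rcases D.ψ_eq.1 e with e' | e' <;> rw [e']
  exacts [mem_subgroupOf.1 hk, mul_mem (mem_subgroupOf.1 hk) D.mem_core]

theorem core_eq {E : Subgroup G} (X : Extra H E) :
    Cfsg.pCore 2 ↥(centralizer ({D.zq} : Set (Quo d))) = D.JH.map D.ψ := by
  haveI : Fact (Nat.Prime 2) := ⟨Nat.prime_two⟩
  refine le_antisymm ?_ (le_sSup ⟨Subgroup.Normal.map ⟨fun j hj g => ?_⟩ _ (D.ψ_surj X),
    ((coreAt_isPGroup z).comap_subtype).map _⟩)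
  · have hn : (Cfsg.pCore 2 ↥(centralizer ({D.zq} : Set (Quo d)))).Normal :=
      Cfsg.Agent.FiniteGroup.pCore_normal 2
    set P := ((Cfsg.pCore 2 ↥(centralizer ({D.zq} : Set (Quo d)))).comap D.ψ).map (Hv z v).subtype with hP
    have hP2 : IsPGroup 2 P := by
      refine IsPGroup.map (((Cfsg.Agent.FiniteGroup.pCore_isPGroup 2).comap_of_ker_isPGroup D.ψ ?_)) _
      intro g
      refine ⟨1, Subtype.ext (Subtype.ext ?_)⟩
      show (g : G) ^ 2 ^ 1 = 1
      rcases D.ψ_one.1 (MonoidHom.mem_ker.1 g.2) with e | e <;> rw [pow_one, pow_two, e]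
      exacts [one_mul 1, D.sq]
    have hle : P ≤ coreAt z := H.two_le_core D.v_mem D.v_ne hP2 (map_subtype_le _) (by
      rintro h hh _ ⟨p, hp, rfl⟩
      refine ⟨⟨h, hh⟩ * p * ⟨h, hh⟩⁻¹, ?_, rfl⟩
      show D.ψ (⟨h, hh⟩ * p * ⟨h, hh⟩⁻¹) ∈ Cfsg.pCore 2 ↥(centralizer ({D.zq} : Set (Quo d)))
      rw [map_mul, map_mul, map_inv]
      exact hn.conj_mem _ hp _)
    intro q hq
    obtain ⟨g, rfl⟩ := D.ψ_surj X q
    exact D.ψ_core_iff.2 (hle ⟨g, hq, rfl⟩)
  · rw [JH, mem_subgroupOf] at hj ⊢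
    exact H.conj_mem_core (mem_Hv.1 g.2).1 hj

theorem ψ_inj_on {E : Subgroup G} (X : Extra H E) {a b : ↥(Hv z v)} (ha : (a : G) ∈ E) (hb : (b : G) ∈ E)
    (h : D.ψ a = D.ψ b) : a = b := by
  rcases D.ψ_eq.1 h with e | e
  · exact Subtype.ext e.symm
  · exfalso
    have hd : d ∈ E := by
      have := mul_mem (inv_mem ha) hb
      rwa [e, inv_mul_cancel_left] at this
    rcases X.mem_ZJ hd D.mem_ZJ with e' | e'
    exacts [D.ne_one e', D.ne_z e']

/-- The characterisation applies to the quotient. -/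
theorem out {K : Type v} [Field K] [Fintype K] (T : Thm22.{u, v} K) {E : Subgroup G} (X : Extra H E) :
    Out22 (Quo d) K D.zq := by
  classical
  haveI := Cfsg.Agent.FiniteGroup.pCore_normal (G := ↥(centralizer ({D.zq} : Set (Quo d)))) 2
  obtain ⟨w, hw, hw1, hwv⟩ : ∃ w ∈ H.A, w ≠ 1 ∧ w ≠ v :=
    ⟨_, H.A_norm _ H.c_z v D.v_mem, fun e => D.v_ne (conj_eq_one_iff.1 e), H.c_move D.v_mem D.v_ne⟩
  have hwH : w ∈ Hv z v := mem_Hv.2 ⟨H.comm_zA hw, H.A_central v D.v_mem w (H.A_le hw)⟩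
  have hEH : E ≤ Hv z v := fun e he => mem_Hv.2 ⟨H.comm_z (X.le he), H.A_central v D.v_mem e (X.le he)⟩
  have hvz : ∀ b : G, b ∈ E → b = w ∨ b = w * d → False := by
    intro b hb hbe
    have hwd : b ∈ ZJ H := by
      rcases hbe with rfl | rfl
      exacts [H.A_le_ZJ hw, H.ZJ_mul (H.A_le_ZJ hw) D.mem_ZJ]
    have hwA : ∀ x ∈ H.A, w ≠ x * z := fun x hx e => H.z_not_A (by
      have := mul_mem (inv_mem hx) hw
      rwa [e, inv_mul_cancel_left] at this)
    rcases X.mem_ZJ hb hwd with e | e <;> rcases hbe with rfl | rfl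
    · exact hw1 e
    · rw [mul_eq_one_iff_eq_inv, inv_eq_of_mul_eq_one_right D.sq] at e
      rcases D.eq with e' | e'
      exacts [hwv (e.trans e'), hwA v D.v_mem (e.trans e')]
    · exact H.z_not_A (e ▸ hw)
    · rw [← eq_mul_inv_iff_mul_eq, inv_eq_of_mul_eq_one_right D.sq] at e
      rcases D.eq with e' | e' <;> rw [e'] at e
      · rw [(H.comm_zA D.v_mem).eq] at e
        exact hwA v D.v_mem e
      · rw [(H.comm_zA D.v_mem).eq.symm, ← mul_assoc, H.z2, one_mul] at e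
        exact hwv e
  have hJ := D.core_eq X
  set wH : ↥(Hv z v) := ⟨w, hwH⟩
  set A' := zpowers (D.ψ wH) with hA'
  set E' := (E.subgroupOf (Hv z v)).map D.ψ with hE'
  have hA'o : orderOf (D.ψ wH) = 2 := by
    refine orderOf_eq_prime ?_ fun h => ?_
    · rw [← map_pow, D.ψ_one]
      exact Or.inl (by rw [SubmonoidClass.coe_pow]; exact (pow_two w).trans (H.A_sq w hw))
    · rcases D.ψ_one.1 h with e | e
      · exact hw1 e
      · exact hvz 1 (one_mem E) (Or.inr (by rw [show w = d from e, D.sq]))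
  have hA'2 : D.ψ wH * D.ψ wH = 1 := by rw [← pow_two, ← hA'o, pow_orderOf_eq_one]
  have hA'E : ∀ x ∈ A', x ∈ E' → x = 1 := by
    intro x hx hxE
    rcases mem_zpowers_two hA'2 hx with e | e
    · exact e
    · exfalso
      obtain ⟨b, hb, eb⟩ := hxE
      rw [e, eq_comm] at eb
      exact hvz b (mem_subgroupOf.1 hb) (D.ψ_eq.1 eb)
  have hEle : E' ≤ D.JH.map D.ψ := map_mono fun b hb => mem_subgroupOf.2 (X.le (mem_subgroupOf.1 hb))
  have hAle : A' ≤ D.JH.map D.ψ :=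
    zpowers_le.2 (mem_map_of_mem _ (mem_subgroupOf.2 (show (wH : G) ∈ coreAt z from H.A_le hw)))
  let eE : ↥(E.subgroupOf (Hv z v)) ≃* ↥E' := MulEquiv.ofBijective
    (D.ψ.subgroupMap (E.subgroupOf (Hv z v)))
    ⟨fun a b h => Subtype.ext (D.ψ_inj_on X (mem_subgroupOf.1 a.2) (mem_subgroupOf.1 b.2)
      (congrArg Subtype.val h)), D.ψ.subgroupMap_surjective _⟩
  let eE' : ↥E ≃* ↥E' := (subgroupOfEquivOfLe hEH).symm.trans eE
  have hE'card : Nat.card ↥E' = 512 := by rw [← Nat.card_congr eE'.toEquiv, X.card]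
  -- the product is all of the image of the core
  have hsup : A' ⊔ E' = D.JH.map D.ψ := by
    refine Subgroup.eq_of_le_of_card_ge (sup_le hAle hEle) ?_
    have hJc : Nat.card ↥(D.JH.map D.ψ) ≤ 1024 := by
      have h1 : Nat.card ↥(D.JH.map D.ψ) * 2 ≤ Nat.card ↥D.JH := by
        set f := D.ψ.subgroupMap D.JH with hf
        have hk : 2 ≤ Nat.card ↥f.ker := by
          have hdH : d ∈ Hv z v := D.mem_Hv_iff.2 ⟨D.zd, Commute.refl d⟩
          refine (Finite.one_lt_card_iff_nontrivial.2 ⟨⟨⟨⟨d, hdH⟩, mem_subgroupOf.2 D.mem_core⟩,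
            MonoidHom.mem_ker.2 (Subtype.ext (D.ψ_one.2 (Or.inr rfl)))⟩, 1, fun h => D.ne_one ?_⟩)
          exact congrArg (fun x => ((x.1.1 : ↥(Hv z v)) : G)) h
        have := f.ker.card_eq_card_quotient_mul_card_subgroup
        rw [Nat.card_congr (QuotientGroup.quotientKerEquivOfSurjective f
          (D.ψ.subgroupMap_surjective _)).toEquiv] at this
        rw [this]
        exact Nat.mul_le_mul_left _ hk
      have h2 : Nat.card ↥D.JH = 2048 := by
        rw [← H.card_core]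
        exact Nat.card_congr (subgroupOfEquivOfLe ((fun _ hj => mem_Hv.2 ⟨H.comm_z hj, H.A_central v D.v_mem _ hj⟩ : coreAt z ≤ Hv z v))).toEquiv
      omega
    have hsub : (E' : Set ↥(centralizer ({D.zq} : Set (Quo d)))) ∪ (fun x => D.ψ wH * x) '' E' ⊆
        ((A' ⊔ E' : Subgroup ↥(centralizer ({D.zq} : Set (Quo d)))) :
          Set ↥(centralizer ({D.zq} : Set (Quo d)))) := by
      rintro _ (hx | ⟨x, hx, rfl⟩)
      exacts [mem_sup_right hx, mul_mem (mem_sup_left (mem_zpowers _)) (mem_sup_right hx)]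
    have h := Set.ncard_le_ncard hsub (Set.toFinite _)
    rw [Set.ncard_union_eq (Set.disjoint_left.2 ?_) (Set.toFinite _) (Set.toFinite _),
      Set.ncard_image_of_injective _ (mul_right_injective _), ← Nat.card_coe_set_eq, ← Nat.card_coe_set_eq] at h
    · simp only [SetLike.coe_sort_coe, hE'card] at h
      omega
    · rintro _ hx ⟨x, hx', rfl⟩
      have := hA'E _ (mem_zpowers _) ((E'.mul_mem_cancel_right hx').1 hx)
      rw [← orderOf_eq_one_iff, hA'o] at this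
      omega
  refine T D.zq D.order_zq A' E' ⟨hJ.symm ▸ hAle, hJ.symm ▸ hEle, ?_, ?_, hsup.trans hJ.symm⟩ ?_ ?_ ?_
    (D.ψ D.zH) rfl ?_ ?_ ?_
  · intro a ha b hb
    obtain ⟨b', hb', rfl⟩ := hb
    have hc : Commute (D.ψ wH) (D.ψ b') :=
      Commute.map (show Commute wH b' from Subtype.ext (H.A_central w hw _ (X.le (mem_subgroupOf.1 hb'))).eq) D.ψ
    rcases mem_zpowers_two hA'2 ha with rfl | rfl
    exacts [by rw [one_mul, mul_one], hc.eq]
  · exact (Subgroup.eq_bot_iff_forall _).2 fun x hx => hA'E x hx.1 hx.2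
  · rw [hA', Nat.card_zpowers, hA'o]
  · exact Qd.isExtraspecial_congr eE'.symm X.extra
  · rw [hE'card]; norm_num
  · rw [hJ, ← map_commutator, ← MonoidHom.map_zpowers]
    congr 1
    refine le_antisymm (commutator_le.2 fun a ha b hb => ?_) (zpowers_le.2 ?_)
    · rcases H.comm _ (mem_subgroupOf.1 ha) _ (mem_subgroupOf.1 hb) with e | e
      · rw [show ⁅a, b⁆ = 1 from Subtype.ext ((map_commutatorElement (Hv z v).subtype a b).trans e)]
        exact one_mem _
      · rw [show ⁅a, b⁆ = D.zH from Subtype.ext ((map_commutatorElement (Hv z v).subtype a b).trans e)]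
        exact mem_zpowers _
    · obtain ⟨a, ha, b, hb, e⟩ := X.exists_pair
      rw [show D.zH = ⁅(⟨a, hEH ha⟩ : ↥(Hv z v)), ⟨b, hEH hb⟩⁆ from
        Subtype.ext (((map_commutatorElement (Hv z v).subtype _ _).trans e).symm)]
      exact commutator_mem_commutator (mem_subgroupOf.2 (X.le ha)) (mem_subgroupOf.2 (X.le hb))
  · rw [hJ]
    intro x hx
    obtain ⟨g, rfl⟩ := D.ψ_surj X x
    refine D.ψ_core_iff.2 (H.faithful (mem_Hv.1 g.2).1 D.v_mem D.v_ne (mem_Hv.1 g.2).2 fun a ha => ?_)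
    let aH : ↥(Hv z v) := ⟨a, mem_Hv.2 ⟨H.comm_z ha, H.A_central v D.v_mem a ha⟩⟩
    have hc := mem_centralizer_iff.1 hx _ (mem_map_of_mem D.ψ (mem_subgroupOf.2 (show (aH : G) ∈ coreAt z from ha)))
    have h1 : D.ψ ⁅g, aH⁆ = 1 := by
      rw [map_commutatorElement, commutatorElement_eq_one_iff_commute]
      exact hc.symm
    have h2 := D.ψ_one.1 h1
    rw [show ((⁅g, aH⁆ : ↥(Hv z v)) : G) = ⁅(g : G), a⁆ from map_commutatorElement (Hv z v).subtype g aH] at h2
    rcases h2 with e | e <;> rw [e]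
    exacts [H.one_ZJ, D.mem_ZJ]
  · obtain ⟨χ, hχs, hχ1⟩ := H.quot v D.v_mem D.v_ne
    have hker : D.ψ.ker ≤ χ.ker := fun g hg => MonoidHom.mem_ker.2 ((hχ1 g).2 (by
      rcases D.ψ_one.1 (MonoidHom.mem_ker.1 hg) with e | e <;> rw [e]
      exacts [one_mem _, D.mem_core]))
    let χ' := D.ψ.liftOfSurjective (D.ψ_surj X) ⟨χ, hker⟩
    have hχ' : ∀ g, χ' (D.ψ g) = χ g := fun g =>
      D.ψ.liftOfRightInverse_comp_apply _ (Function.rightInverse_surjInv (D.ψ_surj X)) ⟨χ, hker⟩ g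
    have hk : χ'.ker = Cfsg.pCore 2 ↥(centralizer ({D.zq} : Set (Quo d))) := by
      ext x
      obtain ⟨g, rfl⟩ := D.ψ_surj X x
      rw [MonoidHom.mem_ker, hχ', hχ1, hJ, D.ψ_core_iff]
    exact ⟨(QuotientGroup.quotientMulEquivOfEq hk.symm).trans (QuotientGroup.quotientKerEquivOfSurjective χ'
      fun m => by obtain ⟨g, rfl⟩ := hχs m; exact ⟨D.ψ g, hχ' g⟩)⟩

end Pick

end Cfsg.Agent.Fi23Two
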