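import Cfsg.Agent.Lib.LargeExtra.Setting
import Cfsg.Agent.Lib.U62Aut.Model.Space
import Cfsg.Agent.Lib.Fi22Two.Frame

/-!
The centraliser of an involution `z` whose 2-core is the product of an extraspecial group of order `2^9` and a
four-group `A`, with an element of order three moving the elements of `A`: hypotheses and elementary facts.
-/

set_option autoImplicit false
set_option linter.style.haveILetI false
set_option linter.unusedSectionVars false

namespace Cfsg.Agent.Fi23Two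

open Subgroup LargeExtra
open scoped commutatorElement
open Cfsg.Agent.U62Aut (AutX)
open Cfsg.Agent.Fi22Two (comm_of_conj conj_of_comm conj_comm comm_elem_eq)

variable {G : Type*} [Group G] [Finite G]

/-- A normal 2-subgroup of the automorphism group is trivial. -/
theorem eq_bot_of_two {N : Subgroup AutX} [N.Normal] (h : IsPGroup 2 N) : N = ⊥ := by
  haveI := U62Rec.Model.simple_X
  have hbot : N.comap MulAut.conj = ⊥ := by
    refine (inferInstance : (N.comap MulAut.conj).Normal).eq_bot_or_eq_top.resolve_right fun htop => ?_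
    haveI : Finite (Cfsg.PSp 2 (ZMod 3)) :=
      Nat.finite_of_card_ne_zero (by rw [U62Rec.Model.card_X]; norm_num)
    haveI : Fact (Nat.Prime 3) := ⟨Nat.prime_three⟩
    obtain ⟨x, hx⟩ := exists_prime_orderOf_dvd_card' (G := Cfsg.PSp 2 (ZMod 3)) 3
      (by rw [U62Rec.Model.card_X]; norm_num)
    obtain ⟨k, hk⟩ := h ⟨MulAut.conj x, mem_comap.1 (htop ▸ mem_top x)⟩
    have h1 : x ^ 2 ^ k = 1 := U62Aut.conj_injective (by rw [map_pow, map_one]; exact congrArg Subtype.val hk)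
    have h2 : 3 ∣ 2 ^ k := hx ▸ orderOf_dvd_of_pow_eq_one h1
    exact absurd (Nat.prime_three.dvd_of_dvd_pow h2) (by norm_num)
  refine (Subgroup.eq_bot_iff_forall _).2 fun β hβ => MulEquiv.ext fun x => ?_
  have h1 : β * MulAut.conj x * β⁻¹ = MulAut.conj (β x) := MulEquiv.ext fun y => by
    simp only [MulAut.mul_apply, MulAut.conj_apply, map_mul, map_inv, MulAut.apply_inv_self]
  have h2 : β x * x⁻¹ ∈ N.comap MulAut.conj := by
    rw [mem_comap, map_mul, ← h1, map_inv, mul_assoc β, mul_assoc β]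
    exact mul_mem hβ ((inferInstance : N.Normal).conj_mem _ (inv_mem hβ) _)
  rw [hbot, mem_bot] at h2
  simpa using mul_inv_eq_one.1 h2

/-- The centraliser of `z` and `v`. -/
def Hv (z v : G) : Subgroup G := centralizer ({z} : Set G) ⊓ centralizer ({v} : Set G)

theorem mem_Hv {z v g : G} : g ∈ Hv z v ↔ Commute z g ∧ Commute v g := by
  rw [Hv, mem_inf, mem_centralizer_one, mem_centralizer_one]
  exact ⟨fun h => ⟨h.1.symm, h.2.symm⟩, fun h => ⟨h.1.symm, h.2.symm⟩⟩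

/-- The hypotheses. -/
structure Hyp (z : G) where
  /-- The element of order three. -/
  c : G
  /-- The four-group. -/
  A : Subgroup G
  z2 : z * z = 1
  z_ne : z ≠ 1
  z_mem : z ∈ coreAt z
  card_core : Nat.card (coreAt z) = 2048
  A_le : A ≤ coreAt z
  A_card : Nat.card A = 4
  A_sq : ∀ a ∈ A, a * a = 1
  A_central : ∀ a ∈ A, ∀ j ∈ coreAt z, Commute a j
  z_not_A : z ∉ A
  A_norm : ∀ g, Commute z g → ∀ a ∈ A, g * a * g⁻¹ ∈ A
  center : ∀ a ∈ coreAt z, (∀ b ∈ coreAt z, Commute a b) → a ∈ A ∨ a * z ∈ A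
  sq : ∀ a ∈ coreAt z, a * a = 1 ∨ a * a = z
  comm : ∀ a ∈ coreAt z, ∀ b ∈ coreAt z, ⁅a, b⁆ = 1 ∨ ⁅a, b⁆ = z
  self : ∀ g, Commute z g → (∀ a ∈ coreAt z, Commute g a) → g ∈ coreAt z
  c_z : Commute z c
  c3 : orderOf c = 3
  c_fix : ∀ a ∈ coreAt z, Commute c a → a = 1 ∨ a = z
  c_norm : ∀ g, Commute z g → ∃ j ∈ coreAt z, g * c * g⁻¹ = j * c ∨ g * c * g⁻¹ = j * c⁻¹
  swap : ∀ v ∈ A, v ≠ 1 → ∃ s, Commute z s ∧ Commute v s ∧ ∀ w ∈ A, w ≠ 1 → w ≠ v → ¬ Commute w s
  quot : ∀ v ∈ A, v ≠ 1 → ∃ χ : ↥(Hv z v) →* AutX, Function.Surjective χ ∧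
    ∀ g, χ g = 1 ↔ (g : G) ∈ coreAt z

/-- The centre of the core. -/
def ZJ {z : G} (H : Hyp z) : Set G := {a | a ∈ H.A ∨ a * z ∈ H.A}

namespace Hyp

variable {z : G} (H : Hyp z)

include H

theorem z_inv : z⁻¹ = z := inv_eq_of_mul_eq_one_right H.z2

theorem comm_z {a : G} (ha : a ∈ coreAt z) : Commute z a := (mem_centralizer_one.1 (coreAt_le z ha)).symm

theorem comm_zA {a : G} (ha : a ∈ H.A) : Commute z a := H.comm_z (H.A_le ha)

theorem A_inv {a : G} (ha : a ∈ H.A) : a⁻¹ = a := inv_eq_of_mul_eq_one_right (H.A_sq a ha)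

theorem conj_mem_core {g a : G} (hg : Commute z g) (ha : a ∈ coreAt z) : g * a * g⁻¹ ∈ coreAt z :=
  LargeExtra.conj_mem (coreAt_normal z (mem_centralizer_one.2 hg.eq.symm)) ha

theorem bracket_mem {g a : G} (hg : Commute z g) (ha : a ∈ coreAt z) : ⁅g, a⁆ ∈ coreAt z := by
  rw [commutatorElement_def]
  exact mul_mem (H.conj_mem_core hg ha) (inv_mem ha)

/-- Conjugation inside the core. -/
theorem conj_cases {a b : G} (ha : a ∈ coreAt z) (hb : b ∈ coreAt z) :
    a * b * a⁻¹ = b ∨ a * b * a⁻¹ = b * z := by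
  rw [← comm_elem_eq]
  rcases H.comm a ha b hb with h | h <;> rw [h]
  · exact Or.inl (one_mul b)
  · exact Or.inr (H.comm_z hb).eq

theorem A_le_ZJ {a : G} (ha : a ∈ H.A) : a ∈ ZJ H := Or.inl ha

theorem one_ZJ : (1 : G) ∈ ZJ H := Or.inl (one_mem _)

theorem z_ZJ : z ∈ ZJ H := Or.inr (by rw [H.z2]; exact one_mem _)

theorem mem_ZJ {a : G} : a ∈ ZJ H ↔ ∃ α ∈ H.A, a = α ∨ a = α * z := by
  constructor
  · rintro (h | h)
    · exact ⟨a, h, Or.inl rfl⟩
    · exact ⟨a * z, h, Or.inr (by rw [mul_assoc, H.z2, mul_one])⟩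
  · rintro ⟨α, h, rfl | rfl⟩
    · exact Or.inl h
    · exact Or.inr (by rw [mul_assoc, H.z2, mul_one]; exact h)

theorem ZJ_mem {a : G} (ha : a ∈ ZJ H) : a ∈ coreAt z := by
  obtain ⟨α, h, rfl | rfl⟩ := H.mem_ZJ.1 ha
  exacts [H.A_le h, mul_mem (H.A_le h) H.z_mem]

theorem ZJ_comm {a g : G} (ha : a ∈ ZJ H) (hz : Commute z g) (hA : ∀ α ∈ H.A, Commute α g) : Commute a g := by
  obtain ⟨α, h, rfl | rfl⟩ := H.mem_ZJ.1 ha
  exacts [hA _ h, (hA _ h).mul_left hz]

theorem ZJ_central {a b : G} (ha : a ∈ ZJ H) (hb : b ∈ coreAt z) : Commute a b :=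
  H.ZJ_comm ha (H.comm_z hb) fun α h => H.A_central α h b hb

theorem ZJ_mul {a b : G} (ha : a ∈ ZJ H) (hb : b ∈ ZJ H) : a * b ∈ ZJ H := by
  obtain ⟨α, h, ea⟩ := H.mem_ZJ.1 ha
  obtain ⟨β, k, eb⟩ := H.mem_ZJ.1 hb
  refine H.mem_ZJ.2 ⟨α * β, mul_mem h k, ?_⟩
  have hzβ : z * β = β * z := (H.comm_zA k).eq
  rcases ea with rfl | rfl <;> rcases eb with rfl | rfl
  · exact Or.inl rfl
  · exact Or.inr (mul_assoc _ _ _).symm
  · exact Or.inr (by rw [mul_assoc α z, hzβ, ← mul_assoc])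
  · left
    rw [show α * z * (β * z) = α * (z * β) * z by group, hzβ, show α * (β * z) * z = α * β * (z * z) by group,
      H.z2, mul_one]

theorem ZJ_sq {a : G} (ha : a ∈ ZJ H) : a * a = 1 := by
  obtain ⟨α, h, rfl | rfl⟩ := H.mem_ZJ.1 ha
  · exact H.A_sq _ h
  · rw [((H.comm_zA h)).mul_mul_mul_comm, H.A_sq α h, H.z2, one_mul]

theorem ZJ_inv {a : G} (ha : a ∈ ZJ H) : a⁻¹ = a := inv_eq_of_mul_eq_one_right (H.ZJ_sq ha)

theorem conj_ZJ {g a : G} (hg : Commute z g) (ha : a ∈ ZJ H) : g * a * g⁻¹ ∈ ZJ H := by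
  obtain ⟨α, h, e⟩ := H.mem_ZJ.1 ha
  refine H.mem_ZJ.2 ⟨g * α * g⁻¹, H.A_norm g hg α h, ?_⟩
  rcases e with rfl | rfl
  · exact Or.inl rfl
  · right
    calc g * (α * z) * g⁻¹ = g * α * g⁻¹ * (g * z * g⁻¹) := by group
      _ = _ := by rw [conj_of_comm hg.symm]

/-- The three involutions of the four-group. -/
theorem three {v w x : G} (hv : v ∈ H.A) (hw : w ∈ H.A) (hv1 : v ≠ 1) (hw1 : w ≠ 1) (hvw : v ≠ w) (hx : x ∈ H.A) :
    x = 1 ∨ x = v ∨ x = w ∨ x = v * w := by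
  classical
  by_contra h
  simp only [not_or] at h
  have hvwA : v * w ∈ H.A := mul_mem hv hw
  have hvw1 : v * w ≠ 1 := fun e => hvw (by rw [mul_eq_one_iff_eq_inv, H.A_inv hw] at e; exact e)
  have hsub : ↑({1, v, w, v * w, x} : Finset G) ⊆ (H.A : Set G) := by
    simp only [Finset.coe_insert, Finset.coe_singleton, Set.insert_subset_iff, Set.singleton_subset_iff,
      SetLike.mem_coe]
    exact ⟨one_mem _, hv, hw, hvwA, hx⟩
  have hc := Set.ncard_le_ncard hsub (Set.toFinite _)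
  rw [Set.ncard_coe_finset, ← Nat.card_coe_set_eq (H.A : Set G)] at hc
  simp only [SetLike.coe_sort_coe, H.A_card] at hc
  rw [Finset.card_insert_of_notMem, Finset.card_insert_of_notMem, Finset.card_insert_of_notMem,
    Finset.card_insert_of_notMem, Finset.card_singleton] at hc
  · omega
  all_goals simp only [Finset.mem_insert, Finset.mem_singleton, not_or]
  · exact fun e => h.2.2.2 e.symm
  · exact ⟨fun e => hv1 (mul_eq_right.1 e.symm), fun e => h.2.2.1 e.symm⟩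
  · exact ⟨hvw, fun e => hw1 (mul_eq_left.1 e.symm), fun e => h.2.1 e.symm⟩
  · exact ⟨hv1.symm, hw1.symm, hvw1.symm, fun e => h.1 e.symm⟩

/-- An element fixing two of the involutions of the four-group fixes it. -/
theorem comm_A {g v w : G} (hv : v ∈ H.A) (hw : w ∈ H.A) (hv1 : v ≠ 1) (hw1 : w ≠ 1) (hvw : v ≠ w)
    (h1 : Commute v g) (h2 : Commute w g) {x : G} (hx : x ∈ H.A) : Commute x g := by
  rcases H.three hv hw hv1 hw1 hvw hx with rfl | rfl | rfl | rfl
  exacts [Commute.one_left g, h1, h2, h1.mul_left h2]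

/-- The square of an element fixing an involution of the four-group fixes it. -/
theorem sq_comm_A {g v : G} (hg : Commute z g) (hv : v ∈ H.A) (hv1 : v ≠ 1) (hgv : Commute v g) {x : G}
    (hx : x ∈ H.A) : Commute x (g * g) := by
  by_cases hx' : x = 1 ∨ x = v
  · rcases hx' with rfl | rfl
    exacts [Commute.one_left _, hgv.mul_right hgv]
  simp only [not_or] at hx'
  have hmem := H.A_norm g hg x hx
  refine (comm_of_conj ?_).symm
  rcases H.three hv hx hv1 hx'.1 (Ne.symm hx'.2) hmem with e | e | e | e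
  · exact absurd (conj_eq_one_iff.1 e) hx'.1
  · exact absurd (mul_left_cancel (mul_right_cancel (e.trans (conj_of_comm hgv.symm).symm))) hx'.2
  · rw [show g * g * x * (g * g)⁻¹ = g * (g * x * g⁻¹) * g⁻¹ by group, e, e]
  · rw [show g * g * x * (g * g)⁻¹ = g * (g * x * g⁻¹) * g⁻¹ by group, e,
      show g * (v * x) * g⁻¹ = g * v * g⁻¹ * (g * x * g⁻¹) by group, conj_of_comm hgv.symm, e, ← mul_assoc,
      H.A_sq v hv, one_mul]

/-- An element of odd order fixing an involution of the four-group fixes the centre. -/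
theorem odd_fix {g v : G} (hg : Commute z g) (ho : Odd (orderOf g)) (hv : v ∈ H.A) (hv1 : v ≠ 1)
    (hgv : Commute v g) {x : G} (hx : x ∈ H.A) : Commute x g :=
  (commute_of_pow ho 1 (by rw [pow_one, pow_two]; exact (H.sq_comm_A hg hv hv1 hgv hx).symm)).symm

theorem odd_fix_ZJ {g v : G} (hg : Commute z g) (ho : Odd (orderOf g)) (hv : v ∈ H.A) (hv1 : v ≠ 1)
    (hgv : Commute v g) {x : G} (hx : x ∈ ZJ H) : Commute x g :=
  H.ZJ_comm hx hg fun _ h => H.odd_fix hg ho hv hv1 hgv h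

/-! ### The element of order three -/

theorem c_inv : H.c * (H.c * H.c) = 1 := by
  rw [← pow_orderOf_eq_one H.c, H.c3, pow_three]

theorem c_move {v : G} (hv : v ∈ H.A) (hv1 : v ≠ 1) : H.c * v * H.c⁻¹ ≠ v := fun e => by
  rcases H.c_fix v (H.A_le hv) (comm_of_conj e) with h | h
  exacts [hv1 h, H.z_not_A (h ▸ hv)]

/-- The element of order three moves every involution of the four-group to every other. -/
theorem c_trans {v w : G} (hv : v ∈ H.A) (hw : w ∈ H.A) (hv1 : v ≠ 1) (hw1 : w ≠ 1) :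
    ∃ g, Commute z g ∧ g * v * g⁻¹ = w := by
  by_cases hvw : v = w
  · exact ⟨1, Commute.one_right z, by rw [hvw]; group⟩
  set u := H.c * v * H.c⁻¹ with hu
  have huA : u ∈ H.A := H.A_norm _ H.c_z v hv
  have hu1 : u ≠ 1 := fun e => hv1 (conj_eq_one_iff.1 e)
  rcases H.three hv huA hv1 hu1 (H.c_move hv hv1).symm hw with e | e | e | e
  · exact absurd e hw1
  · exact absurd e.symm hvw
  · exact ⟨H.c, H.c_z, e.symm⟩
  · refine ⟨H.c * H.c, H.c_z.mul_right H.c_z, ?_⟩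
    have h2A : H.c * u * H.c⁻¹ ∈ H.A := H.A_norm _ H.c_z u huA
    rw [show H.c * H.c * v * (H.c * H.c)⁻¹ = H.c * u * H.c⁻¹ by rw [hu]; group]
    rcases H.three hv huA hv1 hu1 (H.c_move hv hv1).symm h2A with k | k | k | k
    · exact absurd (conj_eq_one_iff.1 k) hu1
    · refine absurd ?_ (H.c_move hv hv1)
      have e3 : H.c * (H.c * u * H.c⁻¹) * H.c⁻¹ = v := by
        rw [hu, show H.c * (H.c * (H.c * v * H.c⁻¹) * H.c⁻¹) * H.c⁻¹ =
          (H.c * (H.c * H.c)) * v * (H.c * (H.c * H.c))⁻¹ by group, H.c_inv]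
        group
      rw [k] at e3
      exact e3
    · exact absurd k (H.c_move huA hu1)
    · rw [k, e]

/-- An element centralising the four-group centralises the element of order three modulo the core. -/
theorem c_commute {g : G} (hg : Commute z g) (hgA : ∀ α ∈ H.A, Commute α g) : ⁅g, H.c⁆ ∈ coreAt z := by
  obtain ⟨j, hj, e | e⟩ := H.c_norm g hg
  · rw [commutatorElement_def, e, mul_inv_cancel_right]; exact hj
  exfalso
  obtain ⟨v, hv, hv1⟩ : ∃ v ∈ H.A, v ≠ 1 := by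
    by_contra h
    push Not at h
    have hb : H.A = ⊥ := (Subgroup.eq_bot_iff_forall _).2 h
    have := H.A_card
    rw [hb, Subgroup.card_bot] at this
    omega
  refine H.c_move hv hv1 ?_
  set u := H.c * v * H.c⁻¹ with hu
  have huA : u ∈ H.A := H.A_norm _ H.c_z v hv
  have h1 : g * H.c * g⁻¹ * v * (g * H.c * g⁻¹)⁻¹ = u := by
    rw [show g * H.c * g⁻¹ * v * (g * H.c * g⁻¹)⁻¹ = g * (H.c * (g⁻¹ * v * g) * H.c⁻¹) * g⁻¹ by group,
      show g⁻¹ * v * g = v by rw [mul_assoc, (hgA v hv).eq, inv_mul_cancel_left], ← hu,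
      conj_of_comm (hgA u huA).symm]
  rw [e, show j * H.c⁻¹ * v * (j * H.c⁻¹)⁻¹ = j * (H.c⁻¹ * v * H.c⁻¹⁻¹) * j⁻¹ by group] at h1
  set u' := H.c⁻¹ * v * H.c⁻¹⁻¹ with hu'
  rw [conj_of_comm (H.A_central u' (H.A_norm _ H.c_z.inv_right v hv) j hj).symm] at h1
  -- twice the element of order three fixes `v`
  have h2 : H.c * H.c * v * (H.c * H.c)⁻¹ = v := by
    rw [show H.c * H.c * v * (H.c * H.c)⁻¹ = H.c * u * H.c⁻¹ by rw [hu]; group, ← h1, hu']
    group
  calc u = H.c * (H.c * H.c * v * (H.c * H.c)⁻¹) * H.c⁻¹ := by rw [h2]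
    _ = (H.c * (H.c * H.c)) * v * (H.c * (H.c * H.c))⁻¹ := by group
    _ = v := by rw [H.c_inv]; group

/-- An element acting trivially on the core modulo its centre and fixing an involution of `A` is in the core. -/
theorem faithful {g v : G} (hg : Commute z g) (hv : v ∈ H.A) (hv1 : v ≠ 1) (hgv : Commute v g)
    (h : ∀ a ∈ coreAt z, ⁅g, a⁆ ∈ ZJ H) : g ∈ coreAt z := by
  let K : Subgroup G :=
    { carrier := {k | Commute z k ∧ Commute v k ∧ ∀ a ∈ coreAt z, ⁅k, a⁆ ∈ ZJ H}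
      one_mem' := ⟨Commute.one_right z, Commute.one_right v, fun a _ => by
        rw [commutatorElement_one_left]; exact H.one_ZJ⟩
      mul_mem' := fun {k l} hk hl => ⟨hk.1.mul_right hl.1, hk.2.1.mul_right hl.2.1, fun a ha => by
        rw [show ⁅k * l, a⁆ = k * ⁅l, a⁆ * k⁻¹ * ⁅k, a⁆ by simp [commutatorElement_def, mul_assoc]]
        exact H.ZJ_mul (H.conj_ZJ hk.1 (hl.2.2 a ha)) (hk.2.2 a ha)⟩
      inv_mem' := fun {k} hk => ⟨hk.1.inv_right, hk.2.1.inv_right, fun a ha => by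
        have h1 := hk.2.2 (k⁻¹ * a * k) (by simpa using H.conj_mem_core hk.1.inv_right ha)
        have h2 := H.conj_ZJ hk.1.inv_right h1
        have e : ⁅k⁻¹, a⁆ = (⁅k, k⁻¹ * a * k⁆)⁻¹ := by simp [commutatorElement_def, mul_assoc]
        rw [e, H.ZJ_inv h1]
        exact h1⟩ }
  have hsq : ∀ k ∈ K, k * k * (k * k) ∈ coreAt z := by
    intro k hk
    set l := k * k with hl
    have hlK : l ∈ K := mul_mem hk hk
    refine H.self _ (hlK.1.mul_right hlK.1) fun a ha => comm_of_conj ?_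
    have hη := hlK.2.2 a ha
    set η := ⁅l, a⁆ with hηdef
    have e : l * a * l⁻¹ = η * a := comm_elem_eq.symm
    have hlη : l * η * l⁻¹ = η :=
      conj_of_comm (H.ZJ_comm hη hlK.1 fun α hα => H.sq_comm_A hk.1 hv hv1 hk.2.1 hα).symm
    rw [show l * l * a * (l * l)⁻¹ = l * (l * a * l⁻¹) * l⁻¹ by group, e,
      show l * (η * a) * l⁻¹ = l * η * l⁻¹ * (l * a * l⁻¹) by group, hlη, e, ← mul_assoc, H.ZJ_sq hη, one_mul]
  have hK2 : IsPGroup 2 K := fun k => by
    obtain ⟨n, hn⟩ := coreAt_isPGroup z ⟨_, hsq k k.2⟩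
    refine ⟨2 + n, Subtype.ext ?_⟩
    have h1 := congrArg Subtype.val hn
    rw [SubmonoidClass.coe_pow, OneMemClass.coe_one] at h1 ⊢
    rw [pow_add, pow_mul, show (k : G) ^ 2 ^ 2 = k * k * (k * k) by
      rw [show 2 ^ 2 = 2 + 2 from rfl, pow_add, pow_two]]
    exact h1
  obtain ⟨χ, hχs, hχ1⟩ := H.quot v hv hv1
  have hKH : K ≤ Hv z v := fun k hk => mem_Hv.2 ⟨hk.1, hk.2.1⟩
  haveI : ((K.subgroupOf (Hv z v)).map χ).Normal := by
    refine Subgroup.Normal.map ⟨fun x hx y => ?_⟩ χ hχs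
    obtain ⟨hyz, hyv⟩ := mem_Hv.1 y.2
    rw [mem_subgroupOf] at hx ⊢
    refine ⟨(hyz.mul_right hx.1).mul_right hyz.inv_right, (hyv.mul_right hx.2.1).mul_right hyv.inv_right,
      fun a ha => ?_⟩
    rw [coe_mul, coe_mul, coe_inv, show ⁅(y : G) * x * (y : G)⁻¹, a⁆ = y * ⁅(x : G), (y : G)⁻¹ * a * y⁆ * (y : G)⁻¹ by
      simp [commutatorElement_def, mul_assoc]]
    exact H.conj_ZJ hyz (hx.2.2 _ (by simpa using H.conj_mem_core hyz.inv_right ha))
  have hbot : (K.subgroupOf (Hv z v)).map χ = ⊥ :=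
    eq_bot_of_two ((hK2.comap_subtype (K := Hv z v)).map χ)
  have hgK : g ∈ K := ⟨hg, hgv, h⟩
  have : χ ⟨g, hKH hgK⟩ = 1 := by
    rw [← mem_bot, ← hbot]
    exact mem_map_of_mem χ (mem_subgroupOf.2 hgK)
  exact (hχ1 _).1 this

end Hyp

end Cfsg.Agent.Fi23Two
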